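import Cfsg.Agent.Lib.QubitMax.Coord
import Cfsg.Agent.Lib.Classical.DecompMax
import Cfsg.Agent.Lib.EightMax.Four
import Cfsg.Agent.Lib.Classical.UnitarySimple
import Cfsg.Agent.Lib.Classical.UnitaryDecompMax.Apply

/-!
Normal subgroups of the ambient groups, and maximality of the stabiliser of two blocks.
-/

set_option autoImplicit false
set_option linter.unusedSectionVars false

namespace CfsgLib.QubitMax

open Matrix
open scoped commutatorElement
open CfsgLib.ClassicalAut (Unitary.Conj)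
open CfsgLib.Classical.Herm
open CfsgLib.Classical.HermDecompMax (bsub)

variable {F : Type} [Field F] [Finite F] {p : ℕ} {n h : ℕ}

theorem mem_specialLinear_iff {g : GL (Fin n) F} :
    g ∈ Cfsg.Geo.specialLinear (Fin n) F ↔ (g : Matrix (Fin n) (Fin n) F).det = 1 := by
  constructor
  · intro hg
    exact congrArg Units.val (MonoidHom.mem_ker.1 hg)
  · intro hg
    exact MonoidHom.mem_ker.2 (Units.ext hg)

namespace Kd

variable (k : Kd F p)

theorem amb_lin : (Kd.lin : Kd F p).amb n = Cfsg.Geo.specialLinear (Fin n) F := by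
  ext g
  rw [mem_specialLinear_iff]
  exact ⟨fun hg => hg.1, fun hg => ⟨hg, trivial⟩⟩

theorem amb_unit (K : Unitary.Conj F p) :
    (Kd.unit K).amb n = Cfsg.GU n F p ⊓ Cfsg.Geo.specialLinear (Fin n) F := by
  ext g
  rw [Subgroup.mem_inf, mem_specialLinear_iff, Pauli.mem_GU K]
  exact ⟨fun hg => ⟨hg.2, hg.1⟩, fun hg => ⟨hg.2, hg.1⟩⟩

theorem uni_isUnit {A : Matrix (Fin n) (Fin n) F} (hd : A.det ≠ 0) : IsUnit A :=
  (Matrix.isUnit_iff_isUnit_det A).2 (isUnit_iff_ne_zero.2 hd)

/-- A normal subgroup of an ambient group with a non-scalar element is everything. -/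
theorem normal_top [Fintype F] (hk : k.Good) (hn : 3 ≤ n) {K : Subgroup (GL (Fin n) F)}
    (hK : K ≤ k.amb n) (hc : ∀ a ∈ k.amb n, ∀ g ∈ K, a * g * a⁻¹ ∈ K) {g : GL (Fin n) F} (hg : g ∈ K)
    (hns : ¬ ∃ c : F, (g : Matrix (Fin n) (Fin n) F) = c • 1) : K = k.amb n := by
  classical
  haveI : Nontrivial (Fin n) := Fin.nontrivial_iff_two_le.2 (by omega)
  cases k with
  | lin =>
    obtain ⟨N, hN⟩ : ∃ N, N = K.comap SpecialLinearGroup.toGL := ⟨_, rfl⟩
    haveI : N.Normal := ⟨fun x hx a => by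
      rw [hN, Subgroup.mem_comap] at hx ⊢
      rw [map_mul, map_mul, map_inv]
      exact hc _ ⟨a.2, trivial⟩ _ hx⟩
    obtain ⟨s, hs⟩ : ∃ s : SpecialLinearGroup (Fin n) F, SpecialLinearGroup.toGL s = g :=
      ⟨⟨_, (hK hg).1⟩, Units.ext rfl⟩
    have htop := CfsgLib.EightMax.normal_eq_top (Or.inl (by rw [Fintype.card_fin]; omega)) N
      (g := s) (by rw [hN, Subgroup.mem_comap, hs]; exact hg) (by
        rintro ⟨c, e⟩
        exact hns ⟨c, by rw [← hs]; exact e⟩)
    refine le_antisymm hK fun a ha => ?_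
    obtain ⟨t, ht⟩ : ∃ t : SpecialLinearGroup (Fin n) F, SpecialLinearGroup.toGL t = a := ⟨⟨_, ha.1⟩, Units.ext rfl⟩
    have : t ∈ N := htop ▸ Subgroup.mem_top t
    rw [hN, Subgroup.mem_comap, ht] at this
    exact this
  | unit C =>
    obtain ⟨hp, -, h4⟩ := hk
    haveI : Fact p.Prime := ⟨hp⟩
    obtain ⟨q, hq⟩ := CharP.exists F
    haveI := hq
    haveI : Fact q.Prime := ⟨CharP.char_is_prime F q⟩
    obtain ⟨N, hN⟩ : ∃ N : Subgroup (Cfsg.SU n F p), N = K.comap toGLHom := ⟨_, rfl⟩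
    have inamb : ∀ s : Cfsg.SU n F p, toGLHom s ∈ (Kd.unit C).amb n := fun s => by
      rw [amb_unit]
      exact (mem_range_iff _).2 ⟨s, rfl⟩
    haveI : N.Normal := ⟨fun x hx a => by
      rw [hN, Subgroup.mem_comap] at hx ⊢
      rw [map_mul, map_mul, map_inv]
      exact hc _ (inamb a) _ hx⟩
    obtain ⟨s, hs⟩ := (mem_range_iff g).1 (amb_unit C ▸ hK hg)
    have h32 : ¬ (n = 3 ∧ p = 2) := fun e => by omega
    haveI := CfsgLib.Classical.Herm.isSimpleGroup C q (n := n) hn h32
    set π := QuotientGroup.mk' (Subgroup.center (Cfsg.SU n F p)) with hπ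
    have hsurj : Function.Surjective π := QuotientGroup.mk'_surjective _
    haveI : (N.map π).Normal := Subgroup.Normal.map inferInstance π hsurj
    have hsN : s ∈ N := by rw [hN, Subgroup.mem_comap, hs]; exact hg
    have hne : N.map π ≠ ⊥ := by
      intro e
      have hc' : s ∈ Subgroup.center (Cfsg.SU n F p) := by
        have : π s ∈ N.map π := Subgroup.mem_map_of_mem _ hsN
        rw [e, Subgroup.mem_bot, hπ, QuotientGroup.mk'_apply, QuotientGroup.eq_one_iff] at this
        exact this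
      obtain ⟨c, e'⟩ := (CfsgLib.Classical.Herm.center_iff C (by omega) s).1 hc'
      exact hns ⟨c, by rw [← hs]; exact e'⟩
    have htop : N.map π = ⊤ :=
      ((IsSimpleGroup.eq_bot_or_eq_top_of_normal _ (inferInstance : (N.map π).Normal))).resolve_left hne
    have hNtop : N = ⊤ := by
      refine eq_top_iff.2 ((CfsgLib.Classical.Herm.commutator_eq_top C q (n := n) hn h32).ge.trans ?_)
      rw [commutator_def, Subgroup.commutator_le]
      intro a _ b _
      obtain ⟨x, hx, ex⟩ : π a ∈ N.map π := htop ▸ Subgroup.mem_top _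
      rw [hπ, QuotientGroup.mk'_apply, QuotientGroup.mk'_apply, QuotientGroup.eq] at ex
      obtain ⟨z, hz, rfl⟩ : ∃ z ∈ Subgroup.center (Cfsg.SU n F p), a = x * z :=
        ⟨x⁻¹ * a, ex, by rw [mul_inv_cancel_left]⟩
      rw [show ⁅x * z, b⁆ = x * (z * b * z⁻¹) * x⁻¹ * b⁻¹ by rw [commutatorElement_def]; group,
        (Subgroup.mem_center_iff.1 hz b).symm, mul_inv_cancel_right,
        show x * b * x⁻¹ * b⁻¹ = x * (b * x⁻¹ * b⁻¹) by group]
      exact mul_mem hx (Subgroup.Normal.conj_mem inferInstance _ (inv_mem hx) b)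
    refine le_antisymm hK fun a ha => ?_
    obtain ⟨t, rfl⟩ := (mem_range_iff a).1 (amb_unit C ▸ ha)
    have : t ∈ N := hNtop ▸ Subgroup.mem_top _
    rwa [hN, Subgroup.mem_comap] at this

end Kd

/-- The index set of two blocks as pairs. -/
def pairing (e : Fin n ≃ Fin h ⊕ Fin h) : Fin n ≃ Fin 2 × Fin h :=
  e.trans ((Equiv.boolProdEquivSum (Fin h)).symm.trans (Equiv.prodCongr finTwoEquiv.symm (Equiv.refl _)))

theorem pairing_inl (e : Fin n ≃ Fin h ⊕ Fin h) {r : Fin n} {a : Fin h} (hr : e r = Sum.inl a) :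
    pairing e r = (0, a) := by
  simp [pairing, hr, finTwoEquiv]

theorem pairing_inr (e : Fin n ≃ Fin h ⊕ Fin h) {r : Fin n} {a : Fin h} (hr : e r = Sum.inr a) :
    pairing e r = (1, a) := by
  simp [pairing, hr, finTwoEquiv]

theorem sign_mulVec (e : Fin n ≃ Fin h ⊕ Fin h) {v : Fin n → F} {i : Fin 2} (hv : v ∈ bsub (pairing e) F i) :
    blk e (1 : Matrix (Fin h) (Fin h) F) (-1) *ᵥ v = (if i = 0 then (1 : F) else -1) • v := by
  funext r
  rw [blk, Matrix.mulVec, dotProduct, Finset.sum_eq_single r (fun c _ hc => ?_) (by simp), Pi.smul_apply,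
    smul_eq_mul]
  · by_cases hz : v r = 0
    · rw [hz, mul_zero, mul_zero]
    have hi : (pairing e r).1 = i := by_contra fun hne => hz (hv r hne)
    rcases hr : e r with a | a
    · rw [pairing_inl e hr] at hi
      simp [← hi, hr]
    · rw [pairing_inr e hr] at hi
      simp [← hi, hr]
  · have hne : e r ≠ e c := fun e0 => hc (e.injective e0).symm
    rw [Matrix.submatrix_apply]
    rcases hr : e r with a | a <;> rcases hs : e c with b | b <;> rw [hr, hs] at hne <;>
      simp [Matrix.one_apply] at hne ⊢ <;> simp [hne]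

theorem stab_sign (e : Fin n ≃ Fin h ⊕ Fin h) {g : GL (Fin n) F}
    (hg : g ∈ Cfsg.Geo.decompositionStabilizer (bsub (pairing e) F)) :
    (g : Matrix (Fin n) (Fin n) F) * blk e 1 (-1) = blk e 1 (-1) * (g : Matrix (Fin n) (Fin n) F) ∨
    (g : Matrix (Fin n) (Fin n) F) * blk e 1 (-1) = -(blk e 1 (-1) * (g : Matrix (Fin n) (Fin n) F)) := by
  obtain ⟨σ, hσ⟩ := hg
  obtain ⟨A, hA⟩ : ∃ A, A = (g : Matrix (Fin n) (Fin n) F) := ⟨_, rfl⟩
  obtain ⟨δ, hδ⟩ : ∃ δ : Fin 2 → F, δ = fun i => if i = 0 then 1 else -1 := ⟨_, rfl⟩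
  obtain ⟨t, ht, hrel⟩ : ∃ t : F, (t = 1 ∨ t = -1) ∧ ∀ i, δ (σ i) = t * δ i := by
    rcases (by omega : (σ 0).1 = 0 ∨ (σ 0).1 = 1) with e0 | e0
    · have a0 : σ 0 = 0 := Fin.ext e0
      have a1 : σ 1 = 1 := by
        have : σ 1 ≠ σ 0 := σ.injective.ne (by decide)
        rw [a0] at this
        omega
      refine ⟨1, Or.inl rfl, fun i => ?_⟩
      fin_cases i <;> simp [a0, a1]
    · have a0 : σ 0 = 1 := Fin.ext e0
      have a1 : σ 1 = 0 := by
        have : σ 1 ≠ σ 0 := σ.injective.ne (by decide)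
        rw [a0] at this
        omega
      refine ⟨-1, Or.inr rfl, fun i => ?_⟩
      fin_cases i <;> simp [a0, a1, hδ]
  have key : blk e 1 (-1) * A = t • (A * blk e 1 (-1)) := by
    refine Matrix.ext_of_mulVec_single fun r => ?_
    have hr : (Pi.single r 1 : Fin n → F) ∈ bsub (pairing e) F (pairing e r).1 := fun s hs =>
      Pi.single_eq_of_ne (fun e0 => hs (by rw [e0])) _
    have hAr : A *ᵥ Pi.single r 1 ∈ bsub (pairing e) F (σ (pairing e r).1) := by
      rw [← hσ, hA]
      exact ⟨_, hr, rfl⟩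
    rw [Matrix.smul_mulVec, ← Matrix.mulVec_mulVec, ← Matrix.mulVec_mulVec, sign_mulVec e hr,
      sign_mulVec e hAr, Matrix.mulVec_smul, smul_smul]
    congr 1
    simpa [hδ] using hrel (pairing e r).1
  rw [← hA]
  rcases ht with rfl | rfl
  · exact Or.inl (by rw [key, one_smul])
  · exact Or.inr (by rw [key, neg_one_smul, neg_neg])

/-- Groups containing both blocks and the exchange and not preserving the decomposition are everything. -/
theorem blocks_top [Fintype F] (k : Kd F p) (hk : k.Good) (e : Fin n ≃ Fin h ⊕ Fin h) (h4 : 4 ≤ h) {M : Subgroup (GL (Fin n) F)}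
    (hM : M ≤ k.amb n)
    (hblk : ∀ g ∈ k.amb n, (∃ a b, (g : Matrix (Fin n) (Fin n) F) = blk e a b) → g ∈ M) {w : GL (Fin n) F}
    (hw : w ∈ M) (hwe : (w : Matrix (Fin n) (Fin n) F) = swp e) {g₁ : GL (Fin n) F} (hg₁ : g₁ ∈ M)
    (hg₁' : ¬ ((g₁ : Matrix (Fin n) (Fin n) F) * blk e 1 (-1) = blk e 1 (-1) * (g₁ : Matrix (Fin n) (Fin n) F) ∨
      (g₁ : Matrix (Fin n) (Fin n) F) * blk e 1 (-1) = -(blk e 1 (-1) * (g₁ : Matrix (Fin n) (Fin n) F)))) :
    M = k.amb n := by
  classical
  obtain ⟨-, h2, -⟩ := k.good_facts hk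
  have hn : n = 2 * h := by
    have := Fintype.card_congr e
    rw [Fintype.card_sum, Fintype.card_fin, Fintype.card_fin] at this
    omega
  have hle : Cfsg.Geo.decompositionStabilizer (bsub (pairing e) F) ⊓ k.amb n ≤ M := by
    rintro g ⟨hgs, hga⟩
    rcases stab_sign e hgs with e1 | e1
    · exact hblk g hga (exists_blk e h2 e1)
    · have : w * g ∈ M := hblk _ (mul_mem (hM hw) hga) (exists_blk e h2 (by
        rw [Units.val_mul, hwe, Matrix.mul_assoc, e1, Matrix.mul_neg, ← Matrix.mul_assoc, swp_blk,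
          Matrix.mul_assoc, ← Matrix.mul_assoc (blk e (1 : Matrix (Fin h) (Fin h) F) (-1)) (swp e)]
        have : blk e (-1 : Matrix (Fin h) (Fin h) F) 1 = -blk e 1 (-1) := by
          rw [← neg_one_smul F (blk e (1 : Matrix (Fin h) (Fin h) F) (-1)), blk_smul, neg_one_smul, neg_one_smul,
            neg_neg]
        rw [this, Matrix.neg_mul, neg_neg, Matrix.mul_assoc]))
      have := mul_mem (inv_mem hw) this
      rwa [inv_mul_cancel_left] at this
  have hmax : Cfsg.Geo.IsMaximalIn (k.amb n)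
      (Cfsg.Geo.decompositionStabilizer (bsub (pairing e) F) ⊓ k.amb n) := by
    cases k with
    | lin =>
      rw [Kd.amb_lin]
      refine CfsgLib.Classical.DecompMax.isMaximalIn (m := h) (by omega) ?_ (by omega) (by omega)
      refine ⟨le_rfl, by omega, fun i => CfsgLib.Classical.HermDecompMax.finrank_bsub _ i, ?_, ?_⟩
      · rw [iSupIndep_def]
        intro i
        rw [Submodule.disjoint_def]
        intro v hv hv'
        funext r
        by_contra hr
        have hi : (pairing e r).1 = i := by_contra fun hne => hr (hv r hne)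
        have hz : ⨆ j ≠ i, bsub (pairing e) F j ≤ LinearMap.ker (LinearMap.proj r : (Fin n → F) →ₗ[F] F) :=
          iSup₂_le fun j hj x hx => LinearMap.mem_ker.2 (hx r (by rw [hi]; exact hj.symm))
        exact hr (LinearMap.mem_ker.1 (hz hv'))
      · refine eq_top_iff.2 fun v _ => ?_
        have : v = ∑ r, v r • (Pi.single r 1 : Fin n → F) := by
          funext s
          simp [Finset.sum_apply, Pi.single_apply]
        rw [this]
        refine Submodule.sum_mem _ fun r _ => Submodule.smul_mem _ _ ?_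
        exact Submodule.mem_iSup_of_mem (pairing e r).1 fun s hs => Pi.single_eq_of_ne (fun e0 => hs (by rw [e0])) _
    | unit K =>
      rw [Kd.amb_unit]
      exact CfsgLib.Classical.HermDecompMax.std_maximal K (by omega) (fun e0 => by omega) le_rfl (by omega)
        (fun e0 => by omega) (pairing e)
  refine (hmax.2 M hle hM).resolve_left fun e0 => ?_
  rw [e0] at hg₁
  exact hg₁' (stab_sign e hg₁.1)

end CfsgLib.QubitMax
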