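import Cfsg.Agent.Lib.QubitMax.Coord

/-!
Determinants and lifts for a frame of involutions, and the frame of the blocks commuting with two anticommuting
members.
-/

set_option autoImplicit false
set_option linter.unusedSectionVars false

namespace CfsgLib.QubitMax

open Matrix
open CfsgLib.EightMax (Sform Isom tr tr_one tr_zero z2 sg2 sg2_zero sg2_one sg2_self sg2_ne sg2_add sg2_inj exists_sg2)
open CfsgLib.ClassicalAut (Unitary.Conj)

variable {F : Type} [Field F] [Finite F]

namespace Fm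

variable {ι : Type*} [Fintype ι] [DecidableEq ι] [Nonempty ι] {V : Type*} [AddCommGroup V]
variable {s : V → V → ZMod 2} {X : V → Matrix ι ι F} (h : Fm s X)
include h

/-- A matrix moving generators inside the frame acts on it. -/
theorem act_of_gen {A : Matrix ι ι F} {S : Set V}
    (hS : ∀ v ∈ S, ∃ (u : V) (c : F), A * X v = c • (X u * A)) (hgen : AddSubgroup.closure S = ⊤) :
    ∃ L, Act X A L := by
  have : ∀ v, ∃ (u : V) (c : F), A * X v = c • (X u * A) := by
    intro v
    have hv : v ∈ AddSubgroup.closure S := hgen ▸ AddSubgroup.mem_top v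
    refine AddSubgroup.closure_induction hS ⟨0, 1, by rw [h.one, Matrix.mul_one, Matrix.one_mul, one_smul]⟩ ?_ ?_ hv
    · rintro a b - - ⟨u, c, e⟩ ⟨u', c', e'⟩
      obtain ⟨m, hm, hm'⟩ := h.mul a b
      obtain ⟨m', -, hm''⟩ := h.mul u u'
      refine ⟨u + u', m⁻¹ * (c * (c' * m')), ?_⟩
      rw [show X (a + b) = m⁻¹ • (X a * X b) by rw [hm', inv_smul_smul₀ hm], Matrix.mul_smul, ← Matrix.mul_assoc, e,
        Matrix.smul_mul, Matrix.mul_assoc, e', Matrix.mul_smul, ← Matrix.mul_assoc, hm'', Matrix.smul_mul, smul_smul,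
        smul_smul, smul_smul]
      congr 1
      ring
    · rintro a - ⟨u, c, e⟩
      exact ⟨u, c, by rw [h.form.neg_eq, e]⟩
  choose L c hL using this
  exact ⟨L, fun v => ⟨c v, hL v⟩⟩

end Fm

theorem blk_add {n h : ℕ} (e : Fin n ≃ Fin h ⊕ Fin h) (a b c d : Matrix (Fin h) (Fin h) F) :
    blk e a b + blk e c d = blk e (a + c) (b + d) := by
  rw [blk, blk, blk]
  ext r q
  simp only [Matrix.add_apply, Matrix.submatrix_apply]
  rw [← Matrix.add_apply, Matrix.fromBlocks_add, add_zero]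

theorem blk_neg {n h : ℕ} (e : Fin n ≃ Fin h ⊕ Fin h) (a b : Matrix (Fin h) (Fin h) F) :
    -blk e a b = blk e (-a) (-b) := by
  rw [← neg_one_smul F (blk e a b), blk_smul, neg_one_smul, neg_one_smul]

namespace Nice

variable {p n : ℕ} {k : Kd F p} {V : Type} [AddCommGroup V] {s : V → V → ZMod 2}
  {X : V → Matrix (Fin n) (Fin n) F} (hX : Nice k s X)
include hX

theorem det_eq_one [Fintype F] [NeZero n] (hk : k.Good) (h4 : 4 ∣ n) (v : V) : (X v).det = 1 := by
  by_cases hv : v = 0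
  · rw [hv, hX.fm.one, det_one]
  obtain ⟨y, hy⟩ := hX.fm.form.exists_one hv
  obtain ⟨h, e, B, B', -, hBB, e1, -⟩ := exists_coord hk hX hy (γ := 1) (one_mul 1)
  have hn : n = 2 * h := by
    have := Fintype.card_congr e
    rw [Fintype.card_sum, Fintype.card_fin, Fintype.card_fin] at this
    omega
  have := congrArg Matrix.det e1
  rw [one_smul, det_mul, det_mul, blk_det, det_one, one_mul, det_neg, Fintype.card_fin, det_one, mul_one,
    Even.neg_one_pow (by rw [even_iff_two_dvd]; omega), mul_right_comm, ← det_mul, mul_eq_one_comm.1 hBB,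
    det_one, one_mul] at this
  exact this

theorem mem [Fintype F] [NeZero n] (hk : k.Good) (h4 : 4 ∣ n) (v : V) :
    ∃ g ∈ k.amb n, (g : Matrix (Fin n) (Fin n) F) = X v :=
  k.gl_of (hX.det_eq_one hk h4 v) (hX.uni v)

/-- Lifts of transvections. -/
theorem exists_tr [Fintype F] [NeZero n] (hk : k.Good) (h4 : 4 ∣ n) (v : V) :
    ∃ A, k.Uni A ∧ Act X A (tr s v) ∧ (v = 0 → A.det = 1) ∧ (v ≠ 0 → A.det = (-1) ^ (n / 4)) := by
  obtain ⟨-, h2, i, hi, hbar⟩ := k.good_facts hk
  have hii : (1 + i) * (1 - i) = 2 := by linear_combination -hi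
  have h1i : (1 + i) ≠ 0 := fun e => h2 (by rw [← hii, e, zero_mul])
  obtain ⟨Y, hY⟩ : ∃ Y, Y = i • X v := ⟨_, rfl⟩
  have hY2 : Y * Y = -1 := by
    rw [hY, Matrix.smul_mul, Matrix.mul_smul, smul_smul, hi, hX.sq1, neg_one_smul]
  obtain ⟨h1, hu, hA⟩ := hX.fm.transvection hY hY2
  refine ⟨(1 + i)⁻¹ • (1 + Y), ?_, hA.smul _, fun hv => ?_, fun hv => ?_⟩
  · cases k with
    | lin => trivial
    | unit K =>
      have eX : Pauli.adj K (X v) = X v := by
        rw [← Matrix.mul_one (Pauli.adj K (X v)), ← hX.sq1 v, ← Matrix.mul_assoc,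
          show Pauli.adj K (X v) * X v = 1 from hX.uni v, Matrix.one_mul]
      show Pauli.adj K ((1 + i)⁻¹ • (1 + Y)) * ((1 + i)⁻¹ • (1 + Y)) = 1
      have eY : Pauli.adj K (1 + Y) = 1 - Y := by
        rw [Pauli.adj_add, Pauli.adj_one, hY, Pauli.adj_smul, eX, hbar K rfl, neg_smul, sub_eq_add_neg]
      have h1' : (1 - Y) * (1 + Y) = (2 : F) • (1 : Matrix (Fin n) (Fin n) F) := by
        rw [← h1, Matrix.sub_mul, Matrix.mul_add, Matrix.mul_add, Matrix.add_mul, Matrix.mul_sub, Matrix.mul_sub]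
        simp only [Matrix.one_mul, Matrix.mul_one]
        abel
      rw [Pauli.adj_smul, eY, map_inv₀, map_add, map_one, hbar K rfl, Matrix.smul_mul, Matrix.mul_smul, h1',
        smul_smul, smul_smul, ← sub_eq_add_neg]
      have h1i' : (1 - i) ≠ 0 := fun e => h2 (by rw [← hii, e, mul_zero])
      rw [show (1 - i)⁻¹ * (1 + i)⁻¹ * 2 = 1 by rw [← hii]; field_simp, one_smul]
  · rw [hY, hv, hX.fm.one, show (1 : Matrix (Fin n) (Fin n) F) + i • 1 = (1 + i) • 1 by rw [add_smul, one_smul],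
      smul_smul, inv_mul_cancel₀ h1i, one_smul, det_one]
  · obtain ⟨y, hy⟩ := hX.fm.form.exists_one hv
    obtain ⟨h, e, B, B', -, hBB, e1, -⟩ := exists_coord hk hX hy (γ := 1) (one_mul 1)
    have hn : n = 2 * h := by
      have := Fintype.card_congr e
      rw [Fintype.card_sum, Fintype.card_fin, Fintype.card_fin] at this
      omega
    have e2 : B' * ((1 + i)⁻¹ • (1 + Y)) * B = blk e ((1 : F) • 1) (((1 + i)⁻¹ * (1 - i)) • 1) := by
      rw [Matrix.mul_smul, Matrix.smul_mul, Matrix.mul_add, Matrix.add_mul, Matrix.mul_one, mul_eq_one_comm.1 hBB,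
        hY, Matrix.mul_smul, Matrix.smul_mul, ← one_smul F (X v), e1, ← blk_one e, blk_smul]
      have : blk e (1 : Matrix (Fin h) (Fin h) F) 1 + blk e (i • 1) (i • -1) = blk e ((1 + i) • 1) ((1 - i) • 1) := by
        rw [blk_add, sub_smul, add_smul, one_smul, smul_neg, ← sub_eq_add_neg]
      rw [this, blk_smul, smul_smul, inv_mul_cancel₀ h1i, smul_smul]
    have e3 := congrArg Matrix.det e2
    rw [det_mul, det_mul, blk_det, mul_right_comm, ← det_mul, mul_eq_one_comm.1 hBB, det_one, one_mul] at e3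
    have hq : (1 + i)⁻¹ * (1 - i) = -i := by
      field_simp
      linear_combination hi
    rw [e3, det_smul, det_smul, det_one, mul_one, mul_one, one_pow, one_mul, Fintype.card_fin, hq,
      show h = 2 * (n / 4) by omega, pow_mul, neg_sq, pow_two, hi]

/-- Lifts of pairs of transvections in the ambient group. -/
theorem exists_pair_lift [Fintype F] [NeZero n] (hk : k.Good) (h4 : 4 ∣ n) {a b : V}
    (hab : (a ≠ 0 ∧ b ≠ 0) ∨ 8 ∣ n) : ∃ g ∈ k.amb n, Act X (g : Matrix (Fin n) (Fin n) F) (tr s a ∘ tr s b) := by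
  obtain ⟨A, uA, aA, a0, a1⟩ := hX.exists_tr hk h4 a
  obtain ⟨B, uB, aB, b0, b1⟩ := hX.exists_tr hk h4 b
  have hd : (A * B).det = 1 := by
    rw [det_mul]
    rcases hab with ⟨ha, hb⟩ | h8
    · rw [a1 ha, b1 hb, ← pow_add, ← two_mul, pow_mul, neg_one_sq, one_pow]
    · have hev : (-1 : F) ^ (n / 4) = 1 := Even.neg_one_pow (by rw [even_iff_two_dvd]; omega)
      have one : ∀ {v : V} {C : Matrix (Fin n) (Fin n) F}, (v = 0 → C.det = 1) → (v ≠ 0 → C.det = (-1) ^ (n / 4)) →
          C.det = 1 := fun {v C} z w => by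
        by_cases hv : v = 0
        · exact z hv
        · rw [w hv, hev]
      rw [one a0 a1, one b0 b1, one_mul]
  obtain ⟨g, hg, eg⟩ := k.gl_of hd (k.uni_mul uA uB)
  exact ⟨g, hg, by rw [eg]; exact aA.comp aB⟩

end Nice

/-- Coordinates in which `γ • X x` is diagonal and `X y` exchanges the blocks. -/
structure Corner {p n h : ℕ} (k : Kd F p) (e : Fin n ≃ Fin h ⊕ Fin h) {V : Type} [AddCommGroup V]
    (s : V → V → ZMod 2) (X : V → Matrix (Fin n) (Fin n) F) (x y : V) (γ : F) : Prop where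
  nice : Nice k s X
  four : 4 ∣ h
  pos : 0 < h
  xy : s x y = 1
  gam : γ * γ = 1
  hx : γ • X x = blk e 1 (-1)
  hy : X y = swp e

namespace Corner

variable {p n h : ℕ} {k : Kd F p} {e : Fin n ≃ Fin h ⊕ Fin h} {V : Type} [AddCommGroup V]
  {s : V → V → ZMod 2} {X : V → Matrix (Fin n) (Fin n) F} {x y : V} {γ : F} (c : Corner k e s X x y γ)
include c

theorem two : (2 : F) ≠ 0 := c.nice.fm.two

theorem yx : s y x = 1 := by rw [c.nice.fm.form.symm, c.xy]

theorem x0 : x ≠ 0 := fun e0 => by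
  have := c.xy
  rw [e0, c.nice.fm.form.zero_left] at this
  exact absurd this (by decide)

theorem g0 : γ ≠ 0 := fun e0 => by
  have := c.gam
  rw [e0, zero_mul] at this
  exact zero_ne_one this

theorem card_n : n = 2 * h := by
  have := Fintype.card_congr e
  rw [Fintype.card_sum, Fintype.card_fin, Fintype.card_fin] at this
  omega

theorem nezero : NeZero n := ⟨by have := c.card_n; have := c.pos; omega⟩

theorem nezero' : NeZero h := ⟨by have := c.pos; omega⟩

theorem X_x : X x = γ • blk e 1 (-1) := by rw [← c.hx, smul_smul, c.gam, one_smul]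

theorem side : Side s X x γ := by
  haveI := c.nezero
  refine ⟨c.nice.fm, c.x0, c.g0, ?_⟩
  rw [Matrix.smul_mul, Matrix.mul_smul, smul_smul, c.gam, c.nice.sq1, one_smul]

theorem hf_eq : hf X x γ = blk e (1 : Matrix (Fin h) (Fin h) F) 0 := by
  rw [hf, c.hx, ← blk_one e]
  have : blk e (1 : Matrix (Fin h) (Fin h) F) 1 + blk e 1 (-1) = blk e ((2 : F) • 1) 0 := by
    rw [blk_add, add_neg_cancel, two_smul]
  rw [this, blk_smul, smul_smul, inv_mul_cancel₀ c.two, one_smul, smul_zero]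

theorem hf_neg_eq : hf X x (-γ) = blk e (0 : Matrix (Fin h) (Fin h) F) 1 := by
  rw [hf, neg_smul, c.hx, ← blk_one e]
  have : blk e (1 : Matrix (Fin h) (Fin h) F) 1 + -blk e 1 (-1) = blk e 0 ((2 : F) • 1) := by
    rw [blk_neg, blk_add, neg_neg, add_neg_cancel, two_smul]
  rw [this, blk_smul, smul_smul, inv_mul_cancel₀ c.two, one_smul, smul_zero]

/-- The vectors orthogonal to both. -/
def perp2 : AddSubgroup V where
  carrier := {z | s z x = 0 ∧ s z y = 0}
  zero_mem' := ⟨c.nice.fm.form.zero_left x, c.nice.fm.form.zero_left y⟩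
  add_mem' := by
    rintro a b ⟨h1, h2⟩ ⟨h1', h2'⟩
    exact ⟨by rw [c.nice.fm.form.add_left, h1, h1', add_zero], by rw [c.nice.fm.form.add_left, h2, h2', add_zero]⟩
  neg_mem' := by
    rintro a ha
    rw [c.nice.fm.form.neg_eq]
    exact ha

theorem exists_block (w : c.perp2) : ∃ A, X w = blk e A A := by
  have h1 : X w * blk e 1 (-1) = blk e 1 (-1) * X w := by
    rw [← c.hx, Matrix.mul_smul, Matrix.smul_mul, c.nice.fm.comm (w : V) x, w.2.1, sg2_zero, one_smul]
  have h2 : X w * swp e = swp e * X w := by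
    rw [← c.hy, c.nice.fm.comm (w : V) y, w.2.2, sg2_zero, one_smul]
  obtain ⟨a, b, e0⟩ := exists_blk e c.two h1
  rw [e0, swp_blk] at h2
  have h3 := congrArg (fun M => M * swp e) h2
  simp only [Matrix.mul_assoc, swp_sq, Matrix.mul_one] at h3
  exact ⟨a, by rw [e0, (blk_inj e h3).1]⟩

/-- The member of the block frame. -/
noncomputable def blkY (w : c.perp2) : Matrix (Fin h) (Fin h) F := (c.exists_block w).choose

theorem X_eq (w : c.perp2) : X w = blk e (c.blkY w) (c.blkY w) := (c.exists_block w).choose_spec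

theorem split (z : V) : ∃ (w : c.perp2) (a b : ZMod 2),
    z = (w : V) + (if a = 1 then x else 0) + (if b = 1 then y else 0) ∧ s z y = a ∧ s z x = b := by
  have sf := c.nice.fm.form
  have hxy := c.xy
  have hyx := c.yx
  refine ⟨⟨z + (if s z y = 1 then x else 0) + (if s z x = 1 then y else 0), ?_, ?_⟩, s z y, s z x, ?_, rfl, rfl⟩
  · rcases z2 (s z y) with e1 | e1 <;> rcases z2 (s z x) with e2 | e2 <;>
      simp [e1, e2, sf.add_left, sf.zero_left, sf.alt, hyx, CharTwo.add_self_eq_zero]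
  · rcases z2 (s z y) with e1 | e1 <;> rcases z2 (s z x) with e2 | e2 <;>
      simp [e1, e2, sf.add_left, sf.zero_left, sf.alt, hxy, CharTwo.add_self_eq_zero]
  · have t2 := sf.two
    show z = z + _ + _ + _ + _
    rw [add_right_comm (z + _) _ (if s z y = 1 then x else 0), add_assoc z, t2, add_zero, add_assoc z, t2,
      add_zero]

theorem gen_top : AddSubgroup.closure ((c.perp2 : Set V) ∪ {x, y}) = ⊤ := by
  refine eq_top_iff.2 fun z _ => ?_
  obtain ⟨w, a, b, hz, -⟩ := c.split z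
  rw [hz]
  refine add_mem (add_mem (AddSubgroup.subset_closure (Or.inl w.2)) ?_) ?_ <;> split_ifs
  · exact AddSubgroup.subset_closure (Or.inr (Or.inl rfl))
  · exact zero_mem _
  · exact AddSubgroup.subset_closure (Or.inr (Or.inr rfl))
  · exact zero_mem _

theorem card_perp2 : Nat.card c.perp2 = h * h := by
  haveI := c.nezero
  haveI := c.nice.fm.finite
  have sf := c.nice.fm.form
  let f : c.perp2 × ZMod 2 × ZMod 2 → V := fun t =>
    (t.1 : V) + (if t.2.1 = 1 then x else 0) + (if t.2.2 = 1 then y else 0)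
  have hsurj : Function.Surjective f := fun z => by
    obtain ⟨w, a, b, hz, -⟩ := c.split z
    exact ⟨(w, a, b), hz.symm⟩
  have key : ∀ t, s (f t) y = t.2.1 ∧ s (f t) x = t.2.2 := by
    rintro ⟨w, a, b⟩
    have hxy := c.xy
    have hyx := c.yx
    have h1 := w.2.1
    have h2 := w.2.2
    rcases z2 a with rfl | rfl <;> rcases z2 b with rfl | rfl <;>
      simp [f, sf.add_left, sf.zero_left, sf.alt, hxy, hyx, h1, h2]
  have hinj : Function.Injective f := by
    intro t t' e0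
    have ha : t.2.1 = t'.2.1 := by rw [← (key t).1, e0, (key t').1]
    have hb : t.2.2 = t'.2.2 := by rw [← (key t).2, e0, (key t').2]
    simp only [f, ha, hb, add_left_inj] at e0
    exact Prod.ext (Subtype.ext e0) (Prod.ext ha hb)
  have hc := Nat.card_eq_of_bijective f ⟨hinj, hsurj⟩
  rw [Nat.card_prod, Nat.card_prod, Nat.card_zmod, c.nice.fm.card, Fintype.card_fin] at hc
  have := c.card_n
  nlinarith [hc]

theorem block_nice : Nice k (fun v w : c.perp2 => s v w) c.blkY := by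
  haveI := c.nezero
  have sf := c.nice.fm.form
  have X0 := c.X_eq 0
  have inj := fun {a b a' b' : Matrix (Fin h) (Fin h) F} (hh : blk e a b = blk e a' b') => (blk_inj e hh).1
  refine ⟨⟨⟨fun v => Subtype.ext (sf.two v), fun a b d => sf.add_left a b d, fun a b => sf.symm a b,
    fun a => sf.alt a, fun a ha => Subtype.ext (sf.nondeg a fun z => ?_)⟩, c.two, ?_, fun v w => ?_, fun v w => ?_,
    fun v => ⟨0, ?_⟩, ?_⟩, fun v => ?_, fun v => ?_⟩
  · obtain ⟨w, i, j, hz, -⟩ := c.split z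
    rw [hz, sf.add_right, sf.add_right, show s (a : V) w = 0 from ha w]
    split_ifs <;> simp [a.2.1, a.2.2, sf.zero_right]
  · refine inj (b := c.blkY 0) (b' := 1) ?_
    rw [← X0, blk_one e]
    exact c.nice.fm.one
  · obtain ⟨d, hd, e0⟩ := c.nice.fm.mul v w
    refine ⟨d, hd, inj (b := c.blkY v * c.blkY w) (b' := d • c.blkY (v + w)) ?_⟩
    rw [← blk_mul, ← c.X_eq, ← c.X_eq, e0, ← blk_smul, ← c.X_eq]
    rfl
  · refine inj (b := c.blkY v * c.blkY w) (b' := sg2 F (s v w) • (c.blkY w * c.blkY v)) ?_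
    rw [← blk_mul, ← blk_smul, ← blk_mul, ← c.X_eq, ← c.X_eq]
    exact c.nice.fm.comm v w
  · refine inj (b := c.blkY v * c.blkY v) (b' := sg2 F 0 • 1) ?_
    rw [← blk_mul, ← blk_smul, blk_one e, ← c.X_eq, sg2_zero, one_smul]
    exact c.nice.sq1 v
  · rw [c.card_perp2, Fintype.card_fin]
  · refine inj (b := c.blkY v * c.blkY v) (b' := 1) ?_
    rw [← blk_mul, blk_one e, ← c.X_eq]
    exact c.nice.sq1 v
  · exact ((uni_blk_iff e _ _ k).1 (c.X_eq v ▸ c.nice.uni v)).1

/-- Normalising matrices of the blocks normalise as two equal blocks. -/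
theorem act_diag {a : Matrix (Fin h) (Fin h) F} {L : c.perp2 → c.perp2} (ha : Act c.blkY a L) :
    ∃ K, Act X (blk e a a) K := by
  haveI := c.nezero
  refine c.nice.fm.act_of_gen ?_ c.gen_top
  rintro v (hv | rfl | rfl)
  · obtain ⟨d, hd⟩ := ha ⟨v, hv⟩
    refine ⟨(L ⟨v, hv⟩ : V), d, ?_⟩
    rw [show X v = X ((⟨v, hv⟩ : c.perp2) : V) from rfl, c.X_eq, c.X_eq, blk_mul, blk_mul, hd, blk_smul]
  · refine ⟨v, 1, ?_⟩
    rw [one_smul, c.X_x, Matrix.mul_smul, Matrix.smul_mul, blk_mul, blk_mul]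
    simp
  · refine ⟨v, 1, ?_⟩
    rw [one_smul, c.hy, swp_blk]

/-- A member on one block normalises. -/
theorem act_ctrl (u : c.perp2) : ∃ K, Act X (blk e 1 (c.blkY u)) K := by
  haveI := c.nezero
  have hb := c.block_nice
  refine c.nice.fm.act_of_gen ?_ c.gen_top
  rintro v (hv | rfl | rfl)
  · obtain ⟨w, rfl⟩ : ∃ w : c.perp2, (w : V) = v := ⟨⟨v, hv⟩, rfl⟩
    rcases z2 (s u w) with e0 | e0
    · refine ⟨w, 1, ?_⟩
      rw [one_smul, c.X_eq, blk_mul, blk_mul, hb.fm.comm u w, e0,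
        sg2_zero, one_smul]
      simp
    · obtain ⟨d, hd, hd'⟩ := c.nice.fm.mul (w : V) x
      refine ⟨(w : V) + x, d * γ, ?_⟩
      rw [show X ((w : V) + x) = d⁻¹ • (X w * X x) by rw [hd', inv_smul_smul₀ hd], Matrix.smul_mul, smul_smul,
        c.X_eq, c.X_x, Matrix.mul_smul, Matrix.smul_mul, smul_smul, blk_mul, blk_mul, blk_mul, hb.fm.comm u w,
        e0, sg2_one, neg_one_smul,
        show d * γ * d⁻¹ * γ = (d * d⁻¹) * (γ * γ) by ring, mul_inv_cancel₀ hd, c.gam]
      simp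
  · refine ⟨v, 1, ?_⟩
    rw [one_smul, c.X_x, Matrix.mul_smul, Matrix.smul_mul, blk_mul, blk_mul]
    simp
  · obtain ⟨d, hd, hd'⟩ := c.nice.fm.mul v (u : V)
    refine ⟨v + (u : V), d, ?_⟩
    rw [← Matrix.smul_mul, ← hd', c.hy, c.X_eq, swp_blk, Matrix.mul_assoc (blk e _ _) (swp e), swp_blk,
      ← Matrix.mul_assoc, blk_mul, hb.sq1, Matrix.mul_one]

end Corner

end CfsgLib.QubitMax
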