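import Cfsg.Agent.Lib.QubitMax.Frame

/-!
A symplectic space over the field with two elements with a quadratic map or with none: vectors meeting given
orthogonality conditions in a given class, and two transvections moving one vector of a class to another.
-/

set_option autoImplicit false
set_option linter.unusedSectionVars false

namespace CfsgLib.QubitMax

open CfsgLib.EightMax (Sform Isom tr tr_one tr_zero z2)

variable {V : Type*} [AddCommGroup V]

/-- A quadratic map (`ε = 1`) or the zero map (`ε = 0`); the distinguished vectors are those of value `ε`. -/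
structure Quad (s : V → V → ZMod 2) (q : V → ZMod 2) (ε : ZMod 2) : Prop where
  form : Sform s
  add : ∀ a b, q (a + b) = q a + q b + ε * s a b
  flat : ε = 0 → ∀ a, q a = 0
  big : 64 ≤ Nat.card V
  room : ε = 1 → 256 ≤ Nat.card V ∨ ∀ A : AddSubgroup V, (∀ a ∈ A, q a = 0) → Nat.card A ≤ 4

/-- The subgroup generated by three vectors. -/
def span3 (a b c : V) : AddSubgroup V :=
  AddSubgroup.zmultiples a ⊔ AddSubgroup.zmultiples b ⊔ AddSubgroup.zmultiples c

namespace Quad

variable {s : V → V → ZMod 2} {q : V → ZMod 2} {ε : ZMod 2} (h : Quad s q ε)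
include h

theorem finite : Finite V := Nat.finite_of_card_ne_zero (by have := h.big; omega)

theorem zero : q 0 = 0 := by
  have := h.add 0 0
  rw [add_zero, h.form.zero_left, mul_zero, add_zero] at this
  exact left_eq_add.1 this

/-- The sum of two non-orthogonal vectors of one class is distinguished. -/
theorem sum {u w : V} (hc : q u = q w) (hs : s u w = 1) : q (u + w) = ε := by
  rw [h.add, hc, hs, mul_one, CharTwo.add_self_eq_zero, zero_add]

theorem ns_or {a b w : V} (hs : s w (a + b) = 1) : q a = ε ∨ q b = ε ∨ q (a + w) = ε ∨ q (b + w) = ε := by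
  rcases z2 ε with rfl | rfl
  · exact Or.inl (h.flat rfl a)
  have e : q (a + w) + q (b + w) = q a + q b + 1 := by
    rw [h.add a w, h.add b w]
    rw [h.form.add_right, h.form.symm w a, h.form.symm w b] at hs
    have : ∀ x y z u v : ZMod 2, u + v = 1 → x + z + 1 * u + (y + z + 1 * v) = x + y + 1 := by decide
    exact this _ _ _ _ _ hs
  rcases z2 (q a) with e1 | e1 <;> [skip; exact Or.inl e1]
  rcases z2 (q b) with e2 | e2 <;> [skip; exact Or.inr (Or.inl e2)]
  rcases z2 (q (a + w)) with e3 | e3 <;> [skip; exact Or.inr (Or.inr (Or.inl e3))]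
  rw [e1, e2, e3] at e
  exact Or.inr (Or.inr (Or.inr (by simpa using e)))

theorem mem_span3_left (a b c : V) : a ∈ span3 a b c :=
  AddSubgroup.mem_sup_left (AddSubgroup.mem_sup_left (AddSubgroup.mem_zmultiples a))

theorem mem_span3_mid (a b c : V) : b ∈ span3 a b c :=
  AddSubgroup.mem_sup_left (AddSubgroup.mem_sup_right (AddSubgroup.mem_zmultiples b))

theorem mem_span3_right (a b c : V) : c ∈ span3 a b c :=
  AddSubgroup.mem_sup_right (AddSubgroup.mem_zmultiples c)

theorem card_zmultiples_le (a : V) : Nat.card (AddSubgroup.zmultiples a) ≤ 2 := by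
  rw [Nat.card_zmultiples]
  exact Nat.le_of_dvd two_pos (addOrderOf_dvd_of_nsmul_eq_zero (by rw [two_nsmul, h.form.two]))

theorem card_sup_le (A B : AddSubgroup V) :
    Nat.card (A ⊔ B : AddSubgroup V) ≤ Nat.card A * Nat.card B := by
  haveI := h.finite
  rw [← Nat.card_prod]
  refine Nat.card_le_card_of_surjective (fun p : A × B => ⟨(p.1 : V) + p.2, AddSubgroup.add_mem _
    (AddSubgroup.mem_sup_left p.1.2) (AddSubgroup.mem_sup_right p.2.2)⟩) fun x => ?_
  obtain ⟨a, ha, b, hb, e⟩ := AddSubgroup.mem_sup.1 x.2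
  exact ⟨(⟨a, ha⟩, ⟨b, hb⟩), Subtype.ext e⟩

theorem card_span3_le (a b c : V) : Nat.card (span3 a b c) ≤ 8 :=
  (h.card_sup_le _ _).trans (Nat.mul_le_mul ((h.card_sup_le _ _).trans
    (Nat.mul_le_mul (h.card_zmultiples_le a) (h.card_zmultiples_le b))) (h.card_zmultiples_le c))

theorem card_span3_zero (a b : V) : Nat.card (span3 a b 0) ≤ 4 := by
  rw [span3, AddSubgroup.zmultiples_zero_eq_bot, sup_bot_eq]
  exact (h.card_sup_le _ _).trans (Nat.mul_le_mul (h.card_zmultiples_le a) (h.card_zmultiples_le b))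

theorem perp_perp (A : AddSubgroup V) : perp h.form (perp h.form A) = A := by
  haveI := h.finite
  refine (AddSubgroup.eq_of_le_of_card_ge (fun a ha x hx => by rw [h.form.symm]; exact hx a ha) ?_).symm
  have h1 := card_perp h.form A
  have h2 := card_perp h.form (perp h.form A)
  rw [← h1, mul_comm (Nat.card A)] at h2
  exact (Nat.eq_of_mul_eq_mul_left Nat.card_pos h2).le

/-- A vector orthogonal to a small set changing the class as prescribed. -/
theorem exists_flip (A : AddSubgroup V) (hA : Nat.card A ≤ 8) (w : V)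
    (hok : ε = 1 → 256 ≤ Nat.card V ∨ Nat.card A ≤ 4 ∨ ∃ a ∈ A, q a + ε * s w a ≠ 0) :
    ∃ r ∈ perp h.form A, r ≠ 0 ∧ q r + ε * s w r = ε := by
  haveI := h.finite
  have hc := card_perp h.form A
  rcases z2 ε with rfl | rfl
  · obtain ⟨r, hr, hr0⟩ : ∃ r ∈ perp h.form A, r ≠ 0 := by
      refine (AddSubgroup.bot_or_exists_ne_zero (perp h.form A)).resolve_left fun e => ?_
      rw [e, AddSubgroup.card_bot, mul_one] at hc
      have := h.big
      omega
    exact ⟨r, hr, hr0, by rw [h.flat rfl, zero_mul, add_zero]⟩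
  by_contra hno
  push Not at hno
  have hlin : ∀ r ∈ perp h.form A, q r + 1 * s w r = 0 := fun r hr => by
    by_cases hr0 : r = 0
    · rw [hr0, h.zero, h.form.zero_right, mul_zero, add_zero]
    · exact (z2 _).resolve_right (hno r hr hr0)
  have hiso : perp h.form A ≤ perp h.form (perp h.form A) := fun x hx y hy => by
    have e := hlin _ ((perp h.form A).add_mem hx hy)
    rw [h.add, h.form.add_right] at e
    have e1 := hlin x hx
    have e2 := hlin y hy
    have : ∀ a b c d u : ZMod 2, a + b + 1 * u + 1 * (c + d) = 0 → a + 1 * c = 0 → b + 1 * d = 0 → u = 0 := by decide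
    exact this _ _ _ _ _ e e1 e2
  have := AddSubgroup.card_le_of_le hiso
  rw [h.perp_perp] at this
  have := h.big
  rcases hok rfl with h1 | h1 | ⟨a, ha, h1⟩
  · nlinarith
  · nlinarith
  · rw [h.perp_perp] at hiso
    refine h1 (hlin a ?_)
    rw [AddSubgroup.eq_of_le_of_card_ge hiso (by nlinarith)]
    exact ha

/-- A functional that vanishes on the vectors orthogonal to `x`. -/
theorem exists_perp_one {x v : V} (hv : v ≠ 0) (hvx : v ≠ x) : ∃ w, s w x = 0 ∧ s w v = 1 := by
  haveI := h.finite
  by_contra hno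
  push Not at hno
  have hv' : v ∈ perp h.form (perp h.form (AddSubgroup.zmultiples x)) := fun y hy => by
    rw [h.form.symm]
    exact (z2 _).resolve_right (hno y (hy x (AddSubgroup.mem_zmultiples x)))
  rw [h.perp_perp] at hv'
  obtain ⟨k, hk⟩ := AddSubgroup.mem_zmultiples_iff.1 hv'
  have h2 : (2 : ℤ) • x = 0 := by rw [two_zsmul, h.form.two]
  rcases Int.even_or_odd k with ⟨j, rfl⟩ | ⟨j, rfl⟩
  · exact hv (by rw [← hk, show j + j = j * 2 by ring, mul_zsmul, h2, zsmul_zero])
  · exact hvx (by rw [← hk, add_zsmul, one_zsmul, mul_comm, mul_zsmul, h2, zsmul_zero, zero_add])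

/-- A vector of a given class orthogonal to `x` and to neither of two others. -/
theorem meet {x v v' : V} (hv : v ≠ 0) (hvx : v ≠ x) (hv' : v' ≠ 0) (hvx' : v' ≠ x) (e : ZMod 2)
    (he : ε = 0 → e = 0) (hok : ε = 1 → 256 ≤ Nat.card V ∨ x = 0 ∨ q x = 1 ∨ q v = 0) :
    ∃ w, s w x = 0 ∧ s w v = 1 ∧ s w v' = 1 ∧ q w = e := by
  obtain ⟨u, hu, hu1⟩ := h.exists_perp_one hv hvx
  obtain ⟨u', hu', hu1'⟩ := h.exists_perp_one hv' hvx'
  obtain ⟨w, hw, hw1, hw2⟩ : ∃ w, s w x = 0 ∧ s w v = 1 ∧ s w v' = 1 := by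
    rcases z2 (s u v') with e1 | e1
    · rcases z2 (s u' v) with e2 | e2
      · exact ⟨u + u', by rw [h.form.add_left, hu, hu', add_zero], by rw [h.form.add_left, hu1, e2, add_zero],
          by rw [h.form.add_left, e1, hu1', zero_add]⟩
      · exact ⟨u', hu', e2, hu1'⟩
    · exact ⟨u, hu, hu1, e1⟩
  by_cases hq : q w = e
  · exact ⟨w, hw, hw1, hw2, hq⟩
  rcases z2 ε with rfl | rfl
  · exact absurd ((h.flat rfl w).trans (he rfl).symm) hq
  obtain ⟨r, hr, -, hr1⟩ := h.exists_flip (span3 x v v') (h.card_span3_le x v v') w fun e1 => by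
    rcases hok e1 with h1 | rfl | h1 | h1
    · exact Or.inl h1
    · refine Or.inr (Or.inl ?_)
      rw [span3, AddSubgroup.zmultiples_zero_eq_bot, bot_sup_eq]
      exact (h.card_sup_le _ _).trans (Nat.mul_le_mul (h.card_zmultiples_le v) (h.card_zmultiples_le v'))
    · exact Or.inr (Or.inr ⟨x, h.mem_span3_left x v v', by rw [hw, mul_zero, add_zero, h1]; decide⟩)
    · exact Or.inr (Or.inr ⟨v, h.mem_span3_mid x v v', by rw [hw1, h1, mul_one, zero_add, e1]; decide⟩)
  refine ⟨w + r, ?_, ?_, ?_, ?_⟩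
  · rw [h.form.add_left, hw, hr x (h.mem_span3_left x v v'), add_zero]
  · rw [h.form.add_left, hw1, hr v (h.mem_span3_mid x v v'), add_zero]
  · rw [h.form.add_left, hw2, hr v' (h.mem_span3_right x v v'), add_zero]
  · rw [h.add, add_assoc, hr1]
    revert hq
    generalize q w = a
    revert a e
    decide

/-- Two distinguished transvections fixing `x` move one vector of a class to another. -/
theorem reach {x v v' : V} (hv : v ≠ 0) (hvx : v ≠ x) (hv' : v' ≠ 0) (hvx' : v' ≠ x) (hsv : s v x = 0)
    (hsv' : s v' x = 0) (hc : q v = q v') (hok : ε = 1 → 256 ≤ Nat.card V ∨ x = 0 ∨ q x = 1 ∨ q v = 0) :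
    ∃ a b, q a = ε ∧ q b = ε ∧ (tr s a ∘ tr s b) v = v' ∧ (tr s a ∘ tr s b) x = x := by
  obtain ⟨w, hw, hw1, hw2, hwq⟩ := h.meet hv hvx hv' hvx' (q v) (fun e0 => h.flat e0 v) hok
  refine ⟨w + v', v + w, h.sum (hwq.trans hc) hw2, h.sum hwq.symm (by rw [h.form.symm, hw1]), ?_, ?_⟩
  · rw [Function.comp_apply, h.form.tr_move (by rw [h.form.symm, hw1]), h.form.tr_move hw2]
  · rw [Function.comp_apply, tr_zero (a := v + w) (by rw [h.form.add_right, h.form.symm x v, hsv, h.form.symm x w, hw,
      add_zero]), tr_zero (by rw [h.form.add_right, h.form.symm x v', hsv', h.form.symm x w, hw, add_zero])]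

theorem tr_pres {a : V} (ha : q a = ε) (x : V) : q (tr s a x) = q x := by
  rcases z2 (s x a) with e | e
  · rw [tr_zero e]
  · rw [tr_one e, h.add, ha, e, mul_one, add_assoc, CharTwo.add_self_eq_zero, add_zero]

/-- Two distinguished orthogonal vectors. -/
theorem exists_pair : ∃ a b, q a = ε ∧ q b = ε ∧ a ≠ 0 ∧ b ≠ 0 ∧ a ≠ b ∧ s a b = 0 := by
  obtain ⟨a, -, ha, hqa⟩ := h.exists_flip ⊥ (by simp) 0 fun _ => Or.inr (Or.inl (by simp))
  rw [h.form.zero_left, mul_zero, add_zero] at hqa
  obtain ⟨z, hz⟩ := h.form.exists_one ha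
  obtain ⟨b, hb, hb0, hqb⟩ := h.exists_flip (span3 a z 0) (h.card_span3_le a z 0) 0 fun _ => Or.inr (Or.inl (h.card_span3_zero a z))
  rw [h.form.zero_left, mul_zero, add_zero] at hqb
  refine ⟨a, b, hqa, hqb, ha, hb0, fun e => ?_, ?_⟩
  · have := hb z (h.mem_span3_mid a z 0)
    rw [← e, hz] at this
    exact absurd this (by decide)
  · rw [h.form.symm]
    exact hb a (h.mem_span3_left a z 0)

/-- The non-zero vectors of value zero are odd in number. -/
theorem odd_singular : Odd (Nat.card {u : V | u ≠ 0 ∧ q u = 0}) := by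
  classical
  haveI := h.finite
  haveI := Fintype.ofFinite V
  have e1 : Nat.card {u : V | u ≠ 0 ∧ q u = 0} + 1 = (Finset.univ.filter fun u => q u = 0).card := by
    rw [Nat.card_eq_fintype_card]
    rw [show Fintype.card {u : V | u ≠ 0 ∧ q u = 0} = ((Finset.univ.filter fun u => q u = 0).erase 0).card from
      Fintype.card_of_subtype _ fun x => by simp [and_comm]]
    exact Finset.card_erase_add_one (by simp [h.zero])
  obtain ⟨n, hn⟩ : ∃ n, Nat.card V = 2 ^ n := by
    haveI : Fact (Nat.Prime 2) := ⟨Nat.prime_two⟩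
    exact (IsPGroup.iff_card.1 (fun g : Multiplicative V => ⟨1, by
      rw [pow_one, pow_two]; exact congrArg Multiplicative.ofAdd (h.form.two _)⟩ : IsPGroup 2 (Multiplicative V))).imp
      fun k hk => (Nat.card_congr Multiplicative.ofAdd).trans hk
  have hn6 : 6 ≤ n := by
    by_contra h6
    have := Nat.pow_le_pow_right (show 0 < 2 by norm_num) (show n ≤ 5 by omega)
    have := h.big
    omega
  suffices he : Even (Finset.univ.filter fun u => q u = 0).card by
    obtain ⟨m, hm⟩ := he
    exact ⟨m - 1, by omega⟩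
  rcases z2 ε with rfl | rfl
  · rw [Finset.filter_true_of_mem fun u _ => h.flat rfl u, Finset.card_univ, ← Nat.card_eq_fintype_card, hn]
    exact even_two.pow_of_ne_zero (by omega)
  let e : ZMod 2 → ℤ := fun z => if z = 0 then 1 else -1
  have eadd : ∀ a b, e (a + b) = e a * e b := by decide
  obtain ⟨D, hD⟩ : ∃ D : ℤ, D = ∑ v, e (q v) := ⟨_, rfl⟩
  have hDD : D * D = Nat.card V := by
    calc D * D = ∑ v, ∑ u, e (q v) * e (q u) := by rw [hD, Finset.sum_mul_sum]
      _ = ∑ v, ∑ u, e (q u) * e (s u v) := by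
        refine Finset.sum_congr rfl fun v _ => (Fintype.sum_equiv (Equiv.addRight v) _ _ fun u => ?_).symm
        rw [← eadd, ← eadd, Equiv.coe_addRight, h.add]
        exact congrArg e (by have : ∀ a b c : ZMod 2, a + c = b + (a + b + 1 * c) := by decide
                             exact this _ _ _)
      _ = ∑ u, e (q u) * ∑ v, e (s u v) := by
        rw [Finset.sum_comm]
        exact Finset.sum_congr rfl fun u _ => (Finset.mul_sum _ _ _).symm
      _ = _ := by
        rw [Finset.sum_eq_single (0 : V) (fun u _ hu => ?_) (by simp)]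
        · simp [h.form.zero_left, h.zero, e, Nat.card_eq_fintype_card]
        · obtain ⟨y, hy⟩ := h.form.exists_one hu
          have e2 : ∑ v, e (s u v) = 0 := by
            refine Finset.sum_involution (fun v _ => v + y) (fun v _ => ?_) (fun v _ _ e0 => ?_)
              (fun v _ => Finset.mem_univ _) fun v _ => h.form.add_add_cancel v y
            · rw [h.form.add_right, hy, eadd, show e 1 = -1 from rfl]; ring
            · rw [add_eq_left.1 e0, h.form.zero_right] at hy
              exact absurd hy (by decide)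
          rw [e2, mul_zero]
  have hsplit : D = 2 * ((Finset.univ.filter fun u => q u = 0).card : ℤ) - (Nat.card V : ℤ) := by
    rw [hD, show (∑ v, e (q v)) = ∑ v, (2 * (if q v = 0 then (1 : ℤ) else 0) - 1) from
      Finset.sum_congr rfl fun v _ => by rcases z2 (q v) with e1 | e1 <;> simp [e, e1],
      Finset.sum_sub_distrib, ← Finset.mul_sum, Finset.sum_boole, Finset.sum_const, Finset.card_univ,
      Nat.card_eq_fintype_card, nsmul_eq_mul, mul_one]
  obtain ⟨j, hj⟩ : ∃ j, Nat.card V = 16 * j := ⟨2 ^ (n - 4), by rw [hn, show (16 : ℕ) = 2 ^ 4 by norm_num, ← pow_add]; congr 1; omega⟩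
  rw [hj] at hDD hsplit
  push_cast at hDD hsplit
  have h4 : (4 : ℤ) ∣ D := by
    have : Even D := (Int.even_mul.1 ⟨8 * j, by rw [hDD]; ring⟩).elim id id
    obtain ⟨d, rfl⟩ := this
    have : Even d := (Int.even_mul.1 ⟨2 * j, by linarith⟩ : Even d ∨ Even d).elim id id
    obtain ⟨d', rfl⟩ := this
    exact ⟨d', by ring⟩
  obtain ⟨d, rfl⟩ := h4
  exact ⟨((Finset.univ.filter fun u => q u = 0).card / 2), by omega⟩

/-- A subgroup with eight elements contains a non-zero vector of value zero. -/
theorem exists_singular (A : AddSubgroup V) (hA : 8 ≤ Nat.card A) : ∃ v ∈ A, v ≠ 0 ∧ q v = 0 := by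
  classical
  haveI := h.finite
  haveI := Fintype.ofFinite A
  have pick : ∀ S : Finset A, S.card < 8 → ∃ a, a ∉ S := fun S hS => by
    by_contra hno
    push Not at hno
    rw [Finset.eq_univ_iff_forall.2 hno, Finset.card_univ, ← Nat.card_eq_fintype_card] at hS
    omega
  by_contra hno
  push Not at hno
  have one : ∀ v : A, v ≠ 0 → q v = 1 := fun v hv =>
    (z2 _).resolve_left (hno v v.2 fun e => hv (Subtype.ext e))
  obtain ⟨a, ha⟩ := pick {0} (by simp)
  obtain ⟨b, hb⟩ := pick {0, a} (Finset.card_le_two.trans_lt (by norm_num))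
  obtain ⟨c, hc⟩ := pick {0, a, b, a + b} (Finset.card_le_four.trans_lt (by norm_num))
  simp only [Finset.mem_singleton, Finset.mem_insert, not_or] at ha hb hc
  have ne : ∀ x y : A, x ≠ y → x + y ≠ 0 := fun x y hxy e =>
    hxy (Subtype.ext (h.form.eq_of_add_eq_zero (congrArg Subtype.val e)))
  have hs : ∀ x y : A, x ≠ 0 → y ≠ 0 → x ≠ y → ε * s x y = 1 := by
    intro x y hx hy hxy
    have := h.add x y
    rw [one x hx, one y hy, ← AddSubgroup.coe_add, one _ (ne x y hxy)] at this
    revert this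
    generalize ε * s x y = t
    revert t
    decide
  have hsum : a + b + c ≠ 0 := fun e => hc.2.2.2 (Subtype.ext (h.form.eq_of_add_eq_zero (congrArg Subtype.val e)).symm)
  have := one _ hsum
  rw [AddSubgroup.coe_add, AddSubgroup.coe_add, h.add, h.add, h.form.add_left, mul_add, one a ha, one b hb.1,
    one c hc.1, hs a b ha hb.1 (Ne.symm hb.2), hs a c ha hc.1 (Ne.symm hc.2.1), hs b c hb.1 hc.1 (Ne.symm hc.2.2.1)] at this
  exact absurd this (by decide)

end Quad

end CfsgLib.QubitMax
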