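import Cfsg.Agent.Lib.QubitMax.Setup
import Cfsg.Agent.Lib.QubitMax.Quad

/-!
When the centralisers of the members of a class only normalise the centralisers in the frame, they act on the whole
frame; and the hypotheses of the endgame from those on centralisers.
-/

set_option autoImplicit false
set_option linter.unusedSectionVars false

namespace CfsgLib.QubitMax

open Matrix
open CfsgLib.EightMax (Sform Isom tr tr_one tr_zero z2 sg2 sg2_zero sg2_one sg2_self sg2_ne sg2_add sg2_inj exists_sg2)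

variable {F : Type*} [Field F] [Finite F] {ι : Type*} [Fintype ι] [DecidableEq ι] [Nonempty ι]
variable {V : Type*} [AddCommGroup V]

/-- A group containing the members of a frame and lifts of pairs of distinguished transvections. -/
structure Base (s : V → V → ZMod 2) (X : V → Matrix ι ι F) (q : V → ZMod 2) (ε : ZMod 2)
    (M : Subgroup (GL ι F)) : Prop where
  fm : Fm s X
  quad : Quad s q ε
  memX : ∀ v, ∃ g ∈ M, (g : Matrix ι ι F) = X v
  lift : ∀ a b, q a = ε → q b = ε → ∃ g ∈ M, Act X (g : Matrix ι ι F) (tr s a ∘ tr s b)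
  cls : ∀ g ∈ M, ∀ (u u' : V) (c : F), (g : Matrix ι ι F) * X u = c • (X u' * (g : Matrix ι ι F)) → q u = q u'
  root : ∀ a, q a = ε → ∃ α : F, (α • X a) * (α • X a) = -1

/-- `A` moves the vectors orthogonal to `x` inside the frame. -/
def Nrm (s : V → V → ZMod 2) (X : V → Matrix ι ι F) (x : V) (A : Matrix ι ι F) : Prop :=
  ∀ w, s w x = 0 → ∃ (w' : V) (c : F), A * X w = c • (X w' * A)

theorem Act.nrm {s : V → V → ZMod 2} {X : V → Matrix ι ι F} {A : Matrix ι ι F} {L : V → V} (hA : Act X A L)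
    (x : V) : Nrm s X x A := fun w _ => ⟨L w, hA w⟩

namespace Fm

variable {s : V → V → ZMod 2} {X : V → Matrix ι ι F} (h : Fm s X)
include h

theorem scalar_ne {A : Matrix ι ι F} (hu : IsUnit A) {u u' : V} {c : F} (e : A * X u = c • (X u' * A)) :
    c ≠ 0 := fun e0 => by
  rw [e0, zero_smul] at e
  exact (hu.mul (h.isUnit u)).ne_zero e

/-- The factor of a member kept up to a scalar is a sign. -/
theorem sign {A : Matrix ι ι F} (hu : IsUnit A) {u : V} {c : F} (e : A * X u = c • (X u * A)) :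
    ∃ z, c = sg2 F z := by
  obtain ⟨f, hf⟩ := h.sq u
  have e2 : A * (X u * X u) = (c * c) • (X u * X u * A) := by
    rw [← Matrix.mul_assoc, e, Matrix.smul_mul, Matrix.mul_assoc, e, Matrix.mul_smul, smul_smul, Matrix.mul_assoc]
  rw [hf, Matrix.mul_smul, Matrix.mul_one, Matrix.smul_mul, Matrix.one_mul, smul_smul] at e2
  have e3 := smul_left_injective F hu.ne_zero e2
  exact exists_sg2 (mul_right_cancel₀ (sg2_ne f) (by rw [← e3, one_mul]))

end Fm

namespace Base

variable {s : V → V → ZMod 2} {X : V → Matrix ι ι F} {q : V → ZMod 2} {ε : ZMod 2} {M : Subgroup (GL ι F)}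
  (h : Base s X q ε M)
include h

theorem cent_of_nrm {x : V} (hx : x ≠ 0)
    (hn : ∀ v, v ≠ 0 → q v = q x → ∀ k ∈ M, (k : Matrix ι ι F) * X v = X v * (k : Matrix ι ι F) →
      Nrm s X v (k : Matrix ι ι F))
    {g : GL ι F} (hg : g ∈ M) (hc : (g : Matrix ι ι F) * X x = X x * (g : Matrix ι ι F)) :
    ∃ L, Act X (g : Matrix ι ι F) L := by
  classical
  haveI := h.quad.finite
  obtain ⟨A, hA⟩ : ∃ A, A = (g : Matrix ι ι F) := ⟨_, rfl⟩
  have hu : IsUnit A := hA ▸ g.isUnit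
  -- a second member of the class
  obtain ⟨z, hz⟩ := h.fm.form.exists_one hx
  obtain ⟨v, hv0, hvx, hsv, hqv⟩ : ∃ v, v ≠ 0 ∧ v ≠ x ∧ s v x = 0 ∧ q v = q x := by
    have key : ∀ r ∈ perp h.quad.form (span3 x z 0), r ≠ x ∧ s r x = 0 := fun r hr => by
      refine ⟨fun e => ?_, hr x (h.quad.mem_span3_left x z 0)⟩
      have := hr z (h.quad.mem_span3_mid x z 0)
      rw [e, hz] at this
      exact absurd this (by decide)
    by_cases hq : q x = ε
    · obtain ⟨r, hr, hr0, hr1⟩ := h.quad.exists_flip (span3 x z 0) (h.quad.card_span3_le x z 0) 0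
        fun _ => Or.inr (Or.inl (h.quad.card_span3_zero x z))
      rw [h.quad.form.zero_left, mul_zero, add_zero] at hr1
      exact ⟨r, hr0, (key r hr).1, (key r hr).2, hr1.trans hq.symm⟩
    · have hε : ε = 1 := (z2 ε).resolve_left fun e => hq ((h.quad.flat e x).trans e.symm)
      have hqx : q x = 0 := (z2 _).resolve_right fun e => hq (e.trans hε.symm)
      obtain ⟨r, hr, hr0, hr1⟩ := h.quad.exists_singular (perp h.quad.form (span3 x z 0)) (by
        have h1 := card_perp h.quad.form (span3 x z 0)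
        have h2 := h.quad.card_span3_zero x z
        have h3 := h.quad.big
        by_contra h4
        push Not at h4
        have := Nat.mul_le_mul h2 h4.le
        omega)
      exact ⟨r, hr0, (key r hr).1, (key r hr).2, hr1.trans hqx.symm⟩
  obtain ⟨v', c, e⟩ := (hA ▸ hn x hx rfl g hg hc : Nrm s X x A) v hsv
  have hc' : A * X x = X x * A := hA ▸ hc
  have hc0 := h.fm.scalar_ne hu e
  have hq' : q v = q v' := h.cls g hg v v' c (hA ▸ e)
  have hv'0 : v' ≠ 0 := fun e0 => by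
    rw [e0, h.fm.one, Matrix.one_mul, ← Matrix.mul_one A, ← Matrix.mul_smul, Matrix.mul_one] at e
    exact hv0 (h.fm.inj (c := c) (hu.mul_left_cancel (e.trans (by rw [h.fm.one]))))
  have hv'x : v' ≠ x := fun e0 => by
    rw [e0, ← hc', ← Matrix.mul_smul] at e
    exact hvx (h.fm.inj (hu.mul_left_cancel e))
  have hsv' : s v' x = 0 := by
    have q1 : A * (X v * X x) = c • (X v' * X x * A) := by
      rw [← Matrix.mul_assoc, e, Matrix.smul_mul, Matrix.mul_assoc, hc', ← Matrix.mul_assoc]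
    have q2 : A * (X x * X v) = c • (X x * X v' * A) := by
      rw [← Matrix.mul_assoc, hc', Matrix.mul_assoc, e, Matrix.mul_smul, ← Matrix.mul_assoc]
    rw [h.fm.comm v x, hsv, sg2_zero, one_smul, q2, h.fm.comm v' x, Matrix.smul_mul, smul_smul] at q1
    have := smul_left_injective F (((h.fm.isUnit x).mul (h.fm.isUnit v')).mul hu).ne_zero q1
    exact sg2_inj h.fm.two (mul_left_cancel₀ hc0 (by rw [← this, sg2_zero, mul_one]))
  obtain ⟨a, b, ha, hb, hv1, hx1⟩ := h.quad.reach hv'0 hv'x hv0 hvx hsv' hsv hq'.symm fun _ =>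
    (z2 (q x)).elim (fun e => Or.inr (Or.inr (Or.inr (by rw [← hq', hqv, e])))) fun e => Or.inr (Or.inr (Or.inl e))
  obtain ⟨n, hn', hnL⟩ := h.lift a b ha hb
  obtain ⟨d, hd⟩ := hnL x
  obtain ⟨d', hd'⟩ := hnL v'
  rw [hx1] at hd
  rw [hv1] at hd'
  obtain ⟨B, hB⟩ : ∃ B, B = (n : Matrix ι ι F) * A := ⟨_, rfl⟩
  have hBu : IsUnit B := hB ▸ n.isUnit.mul hu
  have hBx : B * X x = d • (X x * B) := by
    rw [hB, Matrix.mul_assoc, hc', ← Matrix.mul_assoc, hd, Matrix.smul_mul, Matrix.mul_assoc]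
  have hBv : B * X v = (c * d') • (X v * B) := by
    rw [hB, Matrix.mul_assoc, e, Matrix.mul_smul, ← Matrix.mul_assoc, hd', Matrix.smul_mul, smul_smul,
      Matrix.mul_assoc]
  obtain ⟨z1, hz1⟩ := h.fm.sign hBu hBx
  obtain ⟨z2', hz2⟩ := h.fm.sign hBu hBv
  obtain ⟨r, hr1, hr2⟩ : ∃ r, s r x = z1 ∧ s r v = z2' := by
    rcases z2 z1 with rfl | rfl <;> rcases z2 z2' with rfl | rfl
    · exact ⟨0, h.fm.form.zero_left x, h.fm.form.zero_left v⟩
    · exact h.quad.exists_perp_one hv0 hvx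
    · obtain ⟨w, hw, hw'⟩ := h.quad.exists_perp_one hx (Ne.symm hvx)
      exact ⟨w, hw', hw⟩
    · obtain ⟨w, hw, hw'⟩ := h.fm.form.exists_one_one hx hv0
      exact ⟨w, by rw [h.fm.form.symm, hw], by rw [h.fm.form.symm, hw']⟩
  obtain ⟨gr, hgr, egr⟩ := h.memX r
  obtain ⟨k, hk⟩ : ∃ k, k = gr * (n * g) := ⟨_, rfl⟩
  have hkM : k ∈ M := hk ▸ mul_mem hgr (mul_mem hn' hg)
  obtain ⟨C, hC⟩ : ∃ C, C = (k : Matrix ι ι F) := ⟨_, rfl⟩
  have hCe : C = X r * B := by rw [hC, hk, Units.val_mul, Units.val_mul, egr, ← hA, hB]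
  have commC : ∀ (w : V) (z : ZMod 2) (f : F), B * X w = f • (X w * B) → f = sg2 F z → s r w = z →
      C * X w = X w * C := fun w z f e1 e2 e3 => by
    rw [hCe, Matrix.mul_assoc, e1, Matrix.mul_smul, ← Matrix.mul_assoc, h.fm.comm r w, e3, e2, Matrix.smul_mul,
      smul_smul, sg2_self, one_smul, Matrix.mul_assoc]
  have hCx := commC x z1 d hBx hz1 hr1
  have hCv := commC v z2' _ hBv hz2 hr2
  have nx : Nrm s X x C := hC ▸ hn x hx rfl k hkM (hC ▸ hCx)
  have nv : Nrm s X v C := hC ▸ hn v hv0 hqv k hkM (hC ▸ hCv)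
  obtain ⟨y, hy, hy1⟩ := h.quad.exists_perp_one hv0 hvx
  have total : ∀ w, ∃ (w' : V) (f : F), C * X w = f • (X w' * C) := fun w => by
    rcases z2 (s w x) with e1 | e1
    · exact nx w e1
    rcases z2 (s w v) with e2 | e2
    · exact nv w e2
    obtain ⟨u1, f1, q1⟩ := nv (w + y) (by rw [h.fm.form.add_left, e2, hy1]; rfl)
    obtain ⟨u2, f2, q2⟩ := nx y hy
    obtain ⟨m, hm0, hm⟩ := h.fm.mul (w + y) y
    obtain ⟨m', -, hm'⟩ := h.fm.mul u1 u2
    refine ⟨u1 + u2, m⁻¹ * (f1 * (f2 * m')), ?_⟩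
    have e3 : X w = m⁻¹ • (X (w + y) * X y) := by
      rw [hm, inv_smul_smul₀ hm0, h.fm.form.add_add_cancel]
    rw [e3, Matrix.mul_smul, ← Matrix.mul_assoc, q1, Matrix.smul_mul, Matrix.mul_assoc, q2, Matrix.mul_smul,
      ← Matrix.mul_assoc, hm', Matrix.smul_mul, smul_smul, smul_smul, smul_smul]
    congr 1
    ring
  choose L f hL using total
  have hact : Act X (k : Matrix ι ι F) L := fun w => ⟨f w, hC ▸ hL w⟩
  obtain ⟨Kn, hKn, -⟩ := h.fm.act_inv n.mul_inv n.inv_mul hnL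
  obtain ⟨Kr, hKr, -⟩ := h.fm.act_inv gr.mul_inv gr.inv_mul (L := id) (by rw [egr]; exact h.fm.act_X r)
  refine ⟨Kn ∘ (Kr ∘ L), ?_⟩
  have := hKn.comp (hKr.comp hact)
  rwa [← Units.val_mul, ← Units.val_mul, hk, inv_mul_cancel_left, inv_mul_cancel_left] at this

/-- The hypotheses of the endgame. -/
theorem setup (hcent : ∀ v, v ≠ 0 → ∀ g ∈ M, (g : Matrix ι ι F) * X v = X v * (g : Matrix ι ι F) →
    ∃ L, Act X (g : Matrix ι ι F) L) : Setup s X (fun a => q a = ε) M := by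
  have clsA : ∀ g ∈ M, ∀ L, Act X (g : Matrix ι ι F) L → ∀ u, q u = q (L u) := fun g hg L hL u => by
    obtain ⟨c, hc⟩ := hL u
    exact h.cls g hg u (L u) c hc
  have zne : ∀ {u : V}, u ≠ 0 → (0 : V) ≠ u := fun hu e => hu e.symm
  have move : ∀ {u u' : V}, u ≠ 0 → u' ≠ 0 → q u = q u' →
      ∃ n ∈ M, ∃ L, Act X (n : Matrix ι ι F) L ∧ L u = u' := fun {u u'} hu hu' e => by
    obtain ⟨a, b, ha, hb, e1, -⟩ := h.quad.reach (x := 0) hu hu hu' hu' (h.fm.form.zero_right u)
      (h.fm.form.zero_right u') e fun _ => Or.inr (Or.inl rfl)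
    obtain ⟨n, hn, hL⟩ := h.lift a b ha hb
    exact ⟨n, hn, _, hL, e1⟩
  refine ⟨h.fm, h.quad.big, h.memX, h.lift, hcent, fun g hg L hL a ha => (clsA g hg L hL a).symm.trans ha, ?_,
    fun a b w e => h.quad.ns_or e, ?_, ?_⟩
  · intro g hg u u' c hu e
    have hc := h.fm.scalar_ne g.isUnit e
    have hu' : u' ≠ 0 := fun e0 => by
      rw [e0, h.fm.one, Matrix.one_mul, ← Matrix.mul_one (g : Matrix ι ι F), ← Matrix.mul_smul,
        Matrix.mul_one] at e
      exact hu (h.fm.inj (c := c) (g.isUnit.mul_left_cancel (e.trans (by rw [h.fm.one]))))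
    exact move hu' hu (h.cls g hg u u' c e).symm
  · intro A hA
    obtain ⟨v, hv, hv0, hqv⟩ := h.quad.exists_singular A hA
    refine ⟨v, hv, hv0, ?_⟩
    have hset : {u : V | ∃ n ∈ M, ∃ L, Act X (n : Matrix ι ι F) L ∧ L u = v} = {u : V | u ≠ 0 ∧ q u = 0} := by
      ext u
      constructor
      · rintro ⟨n, hn, L, hL, rfl⟩
        refine ⟨fun e => hv0 ?_, (clsA n hn L hL u).trans hqv⟩
        have := (h.fm.act_isom n.isUnit hL).add 0 0
        rw [add_zero] at this
        rw [e]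
        exact left_eq_add.1 this
      · rintro ⟨hu, hqu⟩
        exact move hu hv0 (hqu.trans hqv.symm)
    rw [hset]
    exact h.quad.odd_singular
  · obtain ⟨a, b, ha, hb, ha0, hb0, hab, sab⟩ := h.quad.exists_pair
    obtain ⟨α, hα⟩ := h.root a ha
    obtain ⟨β, hβ⟩ := h.root b hb
    exact ⟨a, b, α, β, ha, hb, ha0, hb0, hab, sab, hα, hβ⟩

end Base

end CfsgLib.QubitMax
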