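import Cfsg.Agent.Lib.QubitMax.Small
import Cfsg.Agent.Lib.Classical.Pauli.UnitSimilar
import Cfsg.Agent.Lib.Classical.UnitaryDecompMax.Apply

/-!
The ambient groups of the levels, and coordinates in which one member of a frame is diagonal and an anticommuting
one exchanges the two blocks.
-/

set_option autoImplicit false
set_option linter.unusedSectionVars false

namespace CfsgLib.QubitMax

open Matrix
open CfsgLib.EightMax (Sform Isom tr tr_one tr_zero z2 sg2 sg2_zero sg2_one sg2_self sg2_ne sg2_add sg2_inj exists_sg2)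
open CfsgLib.ClassicalAut (Unitary.Conj)
open CfsgLib.Classical.Herm

variable {F : Type} [Field F] [Finite F]

/-- Linear or unitary. -/
inductive Kd (F : Type) [Field F] (p : ℕ)
  | lin
  | unit (K : Unitary.Conj F p)

namespace Kd

variable {p : ℕ} {n h : ℕ}

/-- Preserving the form, if there is one. -/
def Uni : Kd F p → Matrix (Fin n) (Fin n) F → Prop
  | .lin, _ => True
  | .unit K, A => Pauli.adj K A * A = 1

/-- The field conditions. -/
def Good [Fintype F] : Kd F p → Prop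
  | .lin => p.Prime ∧ Fintype.card F = p ∧ p % 4 = 1
  | .unit _ => p.Prime ∧ Fintype.card F = p ^ 2 ∧ p % 4 = 3

variable (k : Kd F p)

theorem uni_one : k.Uni (1 : Matrix (Fin n) (Fin n) F) := by
  cases k with
  | lin => trivial
  | unit K => show Pauli.adj K 1 * 1 = 1; rw [Pauli.adj_one, Matrix.mul_one]

theorem uni_mul {A B : Matrix (Fin n) (Fin n) F} (hA : k.Uni A) (hB : k.Uni B) : k.Uni (A * B) := by
  cases k with
  | lin => trivial
  | unit K =>
    show Pauli.adj K (A * B) * (A * B) = 1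
    rw [Pauli.adj_mul, Matrix.mul_assoc, ← Matrix.mul_assoc (Pauli.adj K A), show Pauli.adj K A * A = 1 from hA,
      Matrix.one_mul, show Pauli.adj K B * B = 1 from hB]

theorem uni_inv {A B : Matrix (Fin n) (Fin n) F} (hA : k.Uni A) (hAB : A * B = 1) : k.Uni B := by
  cases k with
  | lin => trivial
  | unit K =>
    have e : Pauli.adj K A = B := by
      rw [← Matrix.mul_one (Pauli.adj K A), ← hAB, ← Matrix.mul_assoc, show Pauli.adj K A * A = 1 from hA,
        Matrix.one_mul]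
    show Pauli.adj K B * B = 1
    rw [← e, Pauli.adj_adj]
    exact (mul_eq_one_comm).1 hA

/-- The ambient group. -/
def amb (n : ℕ) : Subgroup (GL (Fin n) F) where
  carrier := {g | (g : Matrix (Fin n) (Fin n) F).det = 1 ∧ k.Uni (g : Matrix (Fin n) (Fin n) F)}
  one_mem' := ⟨by rw [Units.val_one, det_one], by rw [Units.val_one]; exact k.uni_one⟩
  mul_mem' := by
    rintro g g' ⟨h1, h2⟩ ⟨h1', h2'⟩
    exact ⟨by rw [Units.val_mul, det_mul, h1, h1', one_mul], by rw [Units.val_mul]; exact k.uni_mul h2 h2'⟩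
  inv_mem' := by
    rintro g ⟨h1, h2⟩
    refine ⟨?_, k.uni_inv h2 g.mul_inv⟩
    have := congrArg Matrix.det g.mul_inv
    rwa [det_mul, h1, one_mul, det_one] at this

theorem mem_amb {g : GL (Fin n) F} :
    g ∈ k.amb n ↔ (g : Matrix (Fin n) (Fin n) F).det = 1 ∧ k.Uni (g : Matrix (Fin n) (Fin n) F) := Iff.rfl

theorem gl_of (k : Kd F p) {A : Matrix (Fin n) (Fin n) F} (hd : A.det = 1) (hu : k.Uni A) :
    ∃ g ∈ k.amb n, (g : Matrix (Fin n) (Fin n) F) = A :=
  ⟨GeneralLinearGroup.mkOfDetNeZero A (by rw [hd]; exact one_ne_zero), ⟨hd, hu⟩, rfl⟩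

theorem good_facts [Fintype F] (hk : k.Good) :
    p.Prime ∧ (2 : F) ≠ 0 ∧ ∃ i : F, i * i = -1 ∧ ∀ K, k = .unit K → K.bar i = -i := by
  cases k with
  | lin =>
    obtain ⟨hp, hc, h4⟩ := hk
    haveI : Fact p.Prime := ⟨hp⟩
    haveI : CharP F p := charP_of_card_eq_prime hc
    refine ⟨hp, fun e => ?_, ?_⟩
    · have := Nat.le_of_dvd two_pos ((CharP.cast_eq_zero_iff F p 2).1 (by exact_mod_cast e))
      have := hp.two_le
      omega
    · obtain ⟨i, hi⟩ := (FiniteField.isSquare_neg_one_iff.2 (by omega) : IsSquare (-1 : F))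
      exact ⟨i, hi.symm, fun K e => absurd e (by simp)⟩
  | unit K =>
    obtain ⟨hp, hc, h4⟩ := hk
    haveI : Fact p.Prime := ⟨hp⟩
    haveI : CharP F p := charP_of_card_eq_prime_pow hc
    refine ⟨hp, fun e => ?_, ?_⟩
    · have := Nat.le_of_dvd two_pos ((CharP.cast_eq_zero_iff F p 2).1 (by exact_mod_cast e))
      have := hp.two_le
      omega
    · have h8 : p ^ 2 % 4 = 1 := by rw [Nat.pow_mod, h4]
      obtain ⟨i, hi⟩ := (FiniteField.isSquare_neg_one_iff.2 (by omega) : IsSquare (-1 : F))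
      refine ⟨i, hi.symm, fun K' e => ?_⟩
      cases e
      rw [K.bar_apply]
      obtain ⟨t, ht⟩ : ∃ t, p = 4 * t + 3 := ⟨p / 4, by omega⟩
      rw [ht, pow_add, pow_mul, show i ^ 4 = 1 by linear_combination (1 - i * i) * hi, one_pow, one_mul]
      linear_combination (-i) * hi

end Kd

/-- Two blocks. -/
def blk {n h : ℕ} (e : Fin n ≃ Fin h ⊕ Fin h) (a b : Matrix (Fin h) (Fin h) F) : Matrix (Fin n) (Fin n) F :=
  (Matrix.fromBlocks a 0 0 b).submatrix e e

/-- The exchange of the two blocks. -/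
def swp {n h : ℕ} (e : Fin n ≃ Fin h ⊕ Fin h) : Matrix (Fin n) (Fin n) F :=
  (Matrix.fromBlocks 0 1 1 0).submatrix e e

section blk

variable {n h : ℕ} (e : Fin n ≃ Fin h ⊕ Fin h) (a b c d : Matrix (Fin h) (Fin h) F)

theorem blk_mul : blk e a b * blk e c d = blk e (a * c) (b * d) := by
  rw [blk, blk, blk, Matrix.submatrix_mul_equiv, Matrix.fromBlocks_multiply]
  simp

theorem blk_one : blk e (1 : Matrix (Fin h) (Fin h) F) 1 = 1 := by
  rw [blk, Matrix.fromBlocks_one, Matrix.submatrix_one_equiv]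

theorem blk_smul (t : F) : t • blk e a b = blk e (t • a) (t • b) := by
  rw [blk, blk, ← smul_zero (M := F) (A := Matrix (Fin h) (Fin h) F) t]
  simp only [← Matrix.fromBlocks_smul]
  ext r s
  simp

theorem blk_det : (blk e a b).det = a.det * b.det := by
  rw [blk, Matrix.det_submatrix_equiv_self, Matrix.det_fromBlocks_zero₁₂]

theorem blk_inj {a b c d : Matrix (Fin h) (Fin h) F} (hh : blk e a b = blk e c d) : a = c ∧ b = d := by
  have := congrArg (fun A => Matrix.submatrix A e.symm e.symm) hh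
  simp only [blk, Matrix.submatrix_submatrix, Equiv.self_comp_symm, Matrix.submatrix_id_id,
    Matrix.fromBlocks_inj] at this
  exact ⟨this.1, this.2.2.2⟩

theorem swp_sq : swp e * swp e = (1 : Matrix (Fin n) (Fin n) F) := by
  rw [swp, Matrix.submatrix_mul_equiv, Matrix.fromBlocks_multiply]
  simp

theorem swp_blk : swp e * blk e a b = blk e b a * swp e := by
  rw [swp, blk, blk, Matrix.submatrix_mul_equiv, Matrix.submatrix_mul_equiv, Matrix.fromBlocks_multiply,
    Matrix.fromBlocks_multiply]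
  simp

theorem exists_blk (h2 : (2 : F) ≠ 0) {A : Matrix (Fin n) (Fin n) F}
    (hA : A * blk e (1 : Matrix (Fin h) (Fin h) F) (-1) = blk e 1 (-1) * A) : ∃ a b, A = blk e a b := by
  obtain ⟨B, hB⟩ : ∃ B, B = A.submatrix e.symm e.symm := ⟨_, rfl⟩
  have hAB : A = B.submatrix e e := by
    rw [hB, Matrix.submatrix_submatrix, Equiv.symm_comp_self, Matrix.submatrix_id_id]
  rw [hAB, blk, Matrix.submatrix_mul_equiv, Matrix.submatrix_mul_equiv] at hA
  have hB' := congrArg (fun M => Matrix.submatrix M e.symm e.symm) hA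
  simp only [Matrix.submatrix_submatrix, Equiv.self_comp_symm, Matrix.submatrix_id_id] at hB'
  rw [← Matrix.fromBlocks_toBlocks B, Matrix.fromBlocks_multiply, Matrix.fromBlocks_multiply,
    Matrix.fromBlocks_inj] at hB'
  simp only [Matrix.mul_zero, Matrix.zero_mul, Matrix.mul_one, Matrix.one_mul, add_zero, zero_add,
    Matrix.mul_neg, Matrix.neg_mul] at hB'
  have z : ∀ M : Matrix (Fin h) (Fin h) F, M = -M → M = 0 := fun M hM => by
    have : (2 : F) • M = 0 := by rw [two_smul]; nth_rw 2 [hM]; exact add_neg_cancel M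
    exact (smul_eq_zero.1 this).resolve_left h2
  refine ⟨B.toBlocks₁₁, B.toBlocks₂₂, ?_⟩
  rw [hAB, blk]
  congr 1
  conv_lhs => rw [← Matrix.fromBlocks_toBlocks B, z _ hB'.2.1.symm, z _ hB'.2.2.1]

theorem adj_blk {p : ℕ} (K : Unitary.Conj F p) :
    Pauli.adj K (blk e a b) = blk e (Pauli.adj K a) (Pauli.adj K b) := by
  ext r s
  rcases hr : e r with x | x <;> rcases hs : e s with y | y <;> simp [Pauli.adj, blk, hr, hs]

theorem adj_swp {p : ℕ} (K : Unitary.Conj F p) : Pauli.adj K (swp e : Matrix (Fin n) (Fin n) F) = swp e := by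
  ext r s
  rcases hr : e r with x | x <;> rcases hs : e s with y | y <;>
    simp [Pauli.adj, swp, hr, hs, Matrix.one_apply, eq_comm, apply_ite K.bar]

theorem uni_blk_iff {p : ℕ} (k : Kd F p) : k.Uni (blk e a b) ↔ k.Uni a ∧ k.Uni b := by
  cases k with
  | lin => exact ⟨fun _ => ⟨trivial, trivial⟩, fun _ => trivial⟩
  | unit K =>
    show Pauli.adj K (blk e a b) * blk e a b = 1 ↔ Pauli.adj K a * a = 1 ∧ Pauli.adj K b * b = 1
    rw [adj_blk, blk_mul, ← blk_one e]
    exact ⟨fun hh => blk_inj e hh, fun hh => by rw [hh.1, hh.2]⟩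

end blk

/-- A frame of involutions in the ambient group. -/
structure Nice {p n : ℕ} (k : Kd F p) {V : Type} [AddCommGroup V] (s : V → V → ZMod 2)
    (X : V → Matrix (Fin n) (Fin n) F) : Prop where
  fm : Fm s X
  sq1 : ∀ v, X v * X v = 1
  uni : ∀ v, k.Uni (X v)

/-- Conjugating a frame. -/
theorem Nice.conj {p n : ℕ} {k : Kd F p} {V : Type} [AddCommGroup V] {s : V → V → ZMod 2}
    {X : V → Matrix (Fin n) (Fin n) F} (hX : Nice k s X) {B B' : Matrix (Fin n) (Fin n) F} (hB : k.Uni B)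
    (h1 : B * B' = 1) : Nice k s fun v => B' * X v * B := by
  have h2 : B' * B = 1 := mul_eq_one_comm.1 h1
  have hm : ∀ A C, B' * A * B * (B' * C * B) = B' * (A * C) * B := fun A C => by
    simp only [Matrix.mul_assoc]
    rw [← Matrix.mul_assoc B B', h1, Matrix.one_mul]
  refine ⟨⟨hX.fm.form, hX.fm.two, ?_, fun v w => ?_, fun v w => ?_, fun v => ⟨0, ?_⟩, hX.fm.card⟩, fun v => ?_,
    fun v => k.uni_mul (k.uni_mul (k.uni_inv hB h1) (hX.uni v)) hB⟩
  · rw [hX.fm.one, Matrix.mul_one, h2]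
  · obtain ⟨c, hc, e⟩ := hX.fm.mul v w
    exact ⟨c, hc, by rw [hm, e, Matrix.mul_smul, Matrix.smul_mul]⟩
  · rw [hm, hm, hX.fm.comm v w, Matrix.mul_smul, Matrix.smul_mul]
  · rw [hm, hX.sq1, Matrix.mul_one, h2, sg2_zero, one_smul]
  · rw [hm, hX.sq1, Matrix.mul_one, h2]

/-- Coordinates adapted to two anticommuting members. -/
theorem exists_coord [Fintype F] {p n : ℕ} [NeZero n] {k : Kd F p} (hk : k.Good) {V : Type} [AddCommGroup V]
    {s : V → V → ZMod 2} {X : V → Matrix (Fin n) (Fin n) F} (hX : Nice k s X) {x y : V} (hxy : s x y = 1)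
    {γ : F} (hγ : γ * γ = 1) :
    ∃ (h : ℕ) (e : Fin n ≃ Fin h ⊕ Fin h) (B B' : Matrix (Fin n) (Fin n) F), k.Uni B ∧ B * B' = 1 ∧
      B' * (γ • X x) * B = blk e 1 (-1) ∧ B' * X y * B = swp e := by
  classical
  obtain ⟨-, h2, -⟩ := k.good_facts hk
  obtain ⟨E, hE⟩ : ∃ E, E = γ • X x := ⟨_, rfl⟩
  have hEE : E * E = 1 := by rw [hE, Matrix.smul_mul, Matrix.mul_smul, smul_smul, hγ, one_smul, hX.sq1]
  have hEY : E * X y = -(X y * E) := by
    rw [hE, Matrix.smul_mul, hX.fm.comm x y, hxy, sg2_one, Matrix.mul_smul, smul_smul, mul_neg, mul_one, neg_smul]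
  obtain ⟨U, hU⟩ : ∃ U : Submodule F (Fin n → F), ∀ v, v ∈ U ↔ E *ᵥ v = v :=
    ⟨LinearMap.ker (Matrix.toLin' E - LinearMap.id), fun v => by simp [sub_eq_zero]⟩
  obtain ⟨h, hh⟩ : ∃ h, h = Module.finrank F U := ⟨_, rfl⟩
  have hYY : ∀ v, X y *ᵥ (X y *ᵥ v) = v := fun v => by rw [Matrix.mulVec_mulVec, hX.sq1, Matrix.one_mulVec]
  have hYneg : ∀ v ∈ U, E *ᵥ (X y *ᵥ v) = -(X y *ᵥ v) := fun v hv => by
    rw [Matrix.mulVec_mulVec, hEY, Matrix.neg_mulVec, ← Matrix.mulVec_mulVec, (hU v).1 hv]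
  obtain ⟨w, hwU, hwli, hwspan, hgram⟩ : ∃ w : Fin h → Fin n → F, (∀ i, w i ∈ U) ∧ LinearIndependent F w ∧
      Submodule.span F (Set.range w) = U ∧
      ∀ K, k = .unit K → ∀ i j, Cfsg.hermForm n F p (w i) (w j) = if i = j then 1 else 0 := by
    cases k with
    | lin =>
      let b := Module.finBasisOfFinrankEq F U hh.symm
      refine ⟨fun i => (b i : Fin n → F), fun i => (b i).2, b.linearIndependent.map' U.subtype U.ker_subtype, ?_,
        fun K e => absurd e (by simp)⟩
      rw [show (fun i => (b i : Fin n → F)) = U.subtype ∘ b from rfl, Set.range_comp, ← Submodule.map_span,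
        b.span_eq, Submodule.map_subtype_top]
    | unit K =>
      have iso : ∀ v u u', Cfsg.hermForm n F p (X v *ᵥ u) (X v *ᵥ u') = Cfsg.hermForm n F p u u' := fun v u u' =>
        Pauli.h_iso K (hX.uni v) u u'
      have hnd : Nondeg (q := p) U := by
        intro u hu hu0
        by_contra hall
        push Not at hall
        refine hu0 (h_nondeg K fun z => ?_)
        have hz : z = (2 : F)⁻¹ • (z + E *ᵥ z) + (2 : F)⁻¹ • (z - E *ᵥ z) := by
          rw [← smul_add, show z + E *ᵥ z + (z - E *ᵥ z) = (2 : F) • z by module, smul_smul, inv_mul_cancel₀ h2,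
            one_smul]
        have hEi : ∀ a b, Cfsg.hermForm n F p (E *ᵥ a) (E *ᵥ b) = Cfsg.hermForm n F p a b := fun a b => by
          rw [hE, Matrix.smul_mulVec, Matrix.smul_mulVec, h_smul_left K, h_smul_right K, iso, ← mul_assoc]
          have : γ * K.bar γ = 1 := by
            rcases mul_self_eq_one_iff.1 hγ with rfl | rfl <;> simp
          rw [this, one_mul]
        have hneg : Cfsg.hermForm n F p u ((2 : F)⁻¹ • (z - E *ᵥ z)) = 0 := by
          have e1 : Cfsg.hermForm n F p u (z - E *ᵥ z) = -Cfsg.hermForm n F p u (z - E *ᵥ z) := by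
            have := hEi u (z - E *ᵥ z)
            rw [(hU u).1 hu, Matrix.mulVec_sub, Matrix.mulVec_mulVec, hEE, Matrix.one_mulVec] at this
            conv_lhs => rw [← this]
            rw [h_sub_right K, h_sub_right K]
            ring
          have : (2 : F) * Cfsg.hermForm n F p u (z - E *ᵥ z) = 0 := by linear_combination e1
          rw [h_smul_right K, (mul_eq_zero.1 this).resolve_left h2, mul_zero]
        rw [hz, h_add_right K, hneg, add_zero, hall _ ((hU _).2 ?_)]
        rw [Matrix.mulVec_smul, Matrix.mulVec_add, Matrix.mulVec_mulVec, hEE, Matrix.one_mulVec, add_comm]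
      obtain ⟨w, hw, hw'⟩ := CfsgLib.Classical.HermDecompMax.exists_onb_fin K hnd hh.symm
      have hli : LinearIndependent F w := Fintype.linearIndependent_iff.2 fun g hg i => by
        have := congrArg (fun z => Cfsg.hermForm n F p z (w i)) hg
        rw [CfsgLib.Classical.HermDecompMax.h_sum_left K, h_zero_left K] at this
        simpa [h_smul_left K, hw'] using this
      refine ⟨w, hw, hli, Submodule.eq_of_le_of_finrank_eq (Submodule.span_le.2 ?_) ?_,
        fun K' e => by cases e; exact hw'⟩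
      · rintro _ ⟨i, rfl⟩; exact hw i
      · rw [finrank_span_eq_card hli, Fintype.card_fin, hh]
  obtain ⟨f, hf⟩ : ∃ f : Fin h ⊕ Fin h → Fin n → F, f = Sum.elim w fun j => X y *ᵥ w j := ⟨_, rfl⟩
  have hfli : LinearIndependent F f := by
    rw [hf, Fintype.linearIndependent_iff]
    intro g hg
    simp only [Fintype.sum_sum_type, Sum.elim_inl, Sum.elim_inr] at hg
    obtain ⟨a, ha⟩ : ∃ a, a = ∑ j, g (Sum.inl j) • w j := ⟨_, rfl⟩
    obtain ⟨b, hb⟩ : ∃ b, b = ∑ j, g (Sum.inr j) • w j := ⟨_, rfl⟩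
    have haU : a ∈ U := ha ▸ U.sum_mem fun j _ => U.smul_mem _ (hwU j)
    have hbU : b ∈ U := hb ▸ U.sum_mem fun j _ => U.smul_mem _ (hwU j)
    have e1 : a + X y *ᵥ b = 0 := by
      rw [← hg, ha, hb, Matrix.mulVec_sum]
      simp only [Matrix.mulVec_smul]
    have e2 : a - X y *ᵥ b = 0 := by
      have := congrArg (E *ᵥ ·) e1
      simp only [Matrix.mulVec_add, Matrix.mulVec_zero, (hU a).1 haU, hYneg b hbU] at this
      rwa [sub_eq_add_neg]
    have ea : a = 0 := by
      have : (2 : F) • a = 0 := by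
        rw [show (2 : F) • a = (a + X y *ᵥ b) + (a - X y *ᵥ b) by module, e1, e2, add_zero]
      exact (smul_eq_zero.1 this).resolve_left h2
    have eb : b = 0 := by
      rw [ea, zero_add] at e1
      rw [← hYY b, e1, Matrix.mulVec_zero]
    rintro (j | j)
    · exact Fintype.linearIndependent_iff.1 hwli _ (ha ▸ ea) j
    · exact Fintype.linearIndependent_iff.1 hwli _ (hb ▸ eb) j
  have hspan : Submodule.span F (Set.range f) = ⊤ := by
    refine eq_top_iff.2 fun v _ => ?_
    have inU : ∀ z ∈ U, z ∈ Submodule.span F (Set.range f) ∧ X y *ᵥ z ∈ Submodule.span F (Set.range f) := by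
      intro z hz
      rw [← hwspan] at hz
      refine Submodule.span_induction ?_ ⟨zero_mem _, by rw [Matrix.mulVec_zero]; exact zero_mem _⟩ ?_ ?_ hz
      · rintro _ ⟨j, rfl⟩
        exact ⟨Submodule.subset_span ⟨Sum.inl j, by rw [hf]; rfl⟩, Submodule.subset_span ⟨Sum.inr j, by rw [hf]; rfl⟩⟩
      · rintro a b _ _ ⟨a1, a2⟩ ⟨b1, b2⟩
        exact ⟨add_mem a1 b1, by rw [Matrix.mulVec_add]; exact add_mem a2 b2⟩
      · rintro c a _ ⟨a1, a2⟩
        exact ⟨Submodule.smul_mem _ c a1, by rw [Matrix.mulVec_smul]; exact Submodule.smul_mem _ c a2⟩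
    have h1 : (2 : F)⁻¹ • (v + E *ᵥ v) ∈ U := (hU _).2 (by
      rw [Matrix.mulVec_smul, Matrix.mulVec_add, Matrix.mulVec_mulVec, hEE, Matrix.one_mulVec, add_comm])
    have h1' : X y *ᵥ ((2 : F)⁻¹ • (v - E *ᵥ v)) ∈ U := (hU _).2 (by
      rw [Matrix.mulVec_mulVec, hEY, Matrix.neg_mulVec, ← Matrix.mulVec_mulVec, ← Matrix.mulVec_neg,
        Matrix.mulVec_smul, Matrix.mulVec_sub, Matrix.mulVec_mulVec, hEE, Matrix.one_mulVec, ← smul_neg, neg_sub])
    have e2 := (inU _ h1').2
    rw [hYY] at e2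
    have hv : v = (2 : F)⁻¹ • (v + E *ᵥ v) + (2 : F)⁻¹ • (v - E *ᵥ v) := by
      rw [← smul_add, show v + E *ᵥ v + (v - E *ᵥ v) = (2 : F) • v by module, smul_smul, inv_mul_cancel₀ h2, one_smul]
    rw [hv]
    exact add_mem (inU _ h1).1 e2
  let bas := Module.Basis.mk hfli hspan.ge
  obtain ⟨e, -⟩ : ∃ e : Fin n ≃ Fin h ⊕ Fin h, True :=
    ⟨(Module.Basis.indexEquiv (Pi.basisFun F (Fin n)) bas), trivial⟩
  obtain ⟨B, hB⟩ : ∃ B : Matrix (Fin n) (Fin n) F, B = Pauli.cols fun j => f (e j) := ⟨_, rfl⟩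
  have hdet : B.det ≠ 0 := by
    intro e0
    obtain ⟨u, hu0, hu⟩ := Matrix.exists_mulVec_eq_zero_iff.2 e0
    have hsum : ∑ j, u j • f (e j) = 0 := by
      rw [← hu, hB]
      ext r
      simp [Matrix.mulVec, dotProduct, Pauli.cols, Finset.sum_apply, mul_comm]
    exact hu0 (funext (Fintype.linearIndependent_iff.1 (hfli.comp e e.injective) u hsum))
  have hBB : B * B⁻¹ = 1 := Matrix.mul_nonsing_inv B (isUnit_iff_ne_zero.2 hdet)
  have hB'B : B⁻¹ * B = 1 := mul_eq_one_comm.1 hBB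
  have act : ∀ (A D : Matrix (Fin n) (Fin n) F), (∀ j, A *ᵥ f (e j) = ∑ l, D l j • f (e l)) → B⁻¹ * A * B = D := by
    intro A D hAD
    rw [Matrix.mul_assoc, hB, Pauli.mul_cols hAD, ← hB, ← Matrix.mul_assoc, hB'B, Matrix.one_mul]
  have col : ∀ (D : Matrix (Fin h ⊕ Fin h) (Fin h ⊕ Fin h) F) j,
      ∑ l, (D.submatrix e e) l j • f (e l) = ∑ z, D z (e j) • f z := fun D j =>
    Fintype.sum_equiv e _ _ fun l => rfl
  refine ⟨h, e, B, B⁻¹, ?_, hBB, ?_, ?_⟩
  · cases k with
    | lin => trivial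
    | unit K =>
      show Pauli.adj K B * B = 1
      ext j l
      have iso := fun u u' => Pauli.h_iso K (hX.uni y) u u'
      have cross : ∀ a c, Cfsg.hermForm n F p (w a) (X y *ᵥ w c) = 0 := fun a c => by
        have e1 := Pauli.h_iso K (hX.uni x) (w a) (X y *ᵥ w c)
        have hg2 : γ * K.bar γ = 1 := by rcases mul_self_eq_one_iff.1 hγ with rfl | rfl <;> simp
        have e2 : Cfsg.hermForm n F p (E *ᵥ w a) (E *ᵥ (X y *ᵥ w c)) =
            Cfsg.hermForm n F p (w a) (X y *ᵥ w c) := by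
          rw [hE, Matrix.smul_mulVec, Matrix.smul_mulVec, h_smul_left K, h_smul_right K, e1, ← mul_assoc, hg2,
            one_mul]
        rw [(hU _).1 (hwU a), hYneg _ (hwU c), ← neg_one_smul F, h_smul_right K, map_neg, map_one] at e2
        exact (mul_eq_zero.1 (by linear_combination -e2 : (2 : F) * _ = 0)).resolve_left h2
      rw [hB, Pauli.gram_eq K, Matrix.one_apply, hf]
      rcases hj : e j with a | a <;> rcases hl : e l with c | c <;> simp only [hj, hl, Sum.elim_inl, Sum.elim_inr]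
      · rw [hgram K rfl]
        exact if_congr ⟨fun e0 => e.injective (by rw [hj, hl, e0]), fun e0 => by
          rw [e0] at hj; exact (Sum.inl_injective (hj.symm.trans hl)).symm⟩ rfl rfl
      · rw [h_eq_zero_symm K (cross a c), if_neg fun e0 => by rw [e0, hl] at hj; exact Sum.inr_ne_inl hj]
      · rw [cross c a, if_neg fun e0 => by rw [e0, hl] at hj; exact Sum.inl_ne_inr hj]
      · rw [iso, hgram K rfl]
        exact if_congr ⟨fun e0 => e.injective (by rw [hj, hl, e0]), fun e0 => by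
          rw [e0] at hj; exact (Sum.inr_injective (hj.symm.trans hl)).symm⟩ rfl rfl
  · refine act _ _ fun j => ?_
    rw [← hE, blk, col, Fintype.sum_sum_type, hf]
    rcases e j with a | a
    · simp [Matrix.one_apply, ite_smul, (hU _).1 (hwU a)]
    · simp [Matrix.one_apply, ite_smul, hYneg _ (hwU a), neg_smul]
  · refine act _ _ fun j => ?_
    rw [swp, col, Fintype.sum_sum_type, hf]
    rcases e j with a | a
    · simp [Matrix.one_apply, ite_smul]
    · simp [Matrix.one_apply, ite_smul, hYY]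

end CfsgLib.QubitMax
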