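import Cfsg.Agent.Lib.QubitMax.Step
import Cfsg.Agent.Lib.Classical.Forms
import Mathlib.FieldTheory.Finite.GaloisField

/-!
Coordinates over a field with a square root of minus one in which the isometries of a form over a prime field are
linear, or unitary.
-/

set_option autoImplicit false
set_option linter.unusedSectionVars false

namespace CfsgLib.QubitMax

open Matrix
open CfsgLib.ClassicalAut (Unitary.Conj)

variable {F : Type*} [Field F] {K : Type} [Field K] [Finite K]
variable {ι : Type*} [Fintype ι] [DecidableEq ι] {n p : ℕ}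

/-- The matrix over `K` in the coordinates given by `P`. -/
def up (φ : F →+* K) (e : Fin n ≃ ι) (P P' : Matrix (Fin n) (Fin n) K) (A : Matrix ι ι F) :
    Matrix (Fin n) (Fin n) K :=
  P' * (A.map φ).submatrix e e * P

/-- Coordinates making the isometries of `J` unitary, or just linear. -/
structure Emb (k : Kd K p) (φ : F →+* K) (e : Fin n ≃ ι) (J : Matrix ι ι F) (P P' : Matrix (Fin n) (Fin n) K) :
    Prop where
  inv : P * P' = 1
  uni : ∀ A : Matrix ι ι F, Aᵀ * J * A = J → k.Uni (up φ e P P' A)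

section up

variable {φ : F →+* K} {e : Fin n ≃ ι} {P P' : Matrix (Fin n) (Fin n) K}

theorem up_mul (h : P * P' = 1) (A B : Matrix ι ι F) : up φ e P P' (A * B) = up φ e P P' A * up φ e P P' B := by
  rw [up, up, up, Matrix.map_mul, ← Matrix.submatrix_mul_equiv _ _ _ e _]
  simp only [Matrix.mul_assoc]
  rw [← Matrix.mul_assoc P P', h, Matrix.one_mul]

theorem up_one (h : P * P' = 1) : up φ e P P' (1 : Matrix ι ι F) = 1 := by
  rw [up, Matrix.map_one φ φ.map_zero φ.map_one, Matrix.submatrix_one_equiv, Matrix.mul_one, mul_eq_one_comm.1 h]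

theorem up_smul (a : F) (A : Matrix ι ι F) : up φ e P P' (a • A) = φ a • up φ e P P' A := by
  rw [up, up, show ((a • A).map φ).submatrix e e = φ a • (A.map φ).submatrix e e by ext r c; simp, Matrix.mul_smul,
    Matrix.smul_mul]

theorem up_add (A B : Matrix ι ι F) : up φ e P P' (A + B) = up φ e P P' A + up φ e P P' B := by
  rw [up, up, up, show ((A + B).map φ).submatrix e e = (A.map φ).submatrix e e + (B.map φ).submatrix e e by
    ext r c; simp, Matrix.mul_add, Matrix.add_mul]

theorem up_inj (h : P * P' = 1) {A B : Matrix ι ι F} (he : up φ e P P' A = up φ e P P' B) : A = B := by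
  have := congrArg (fun Y => P * Y * P') he
  simp only [up, Matrix.mul_assoc, h, Matrix.mul_one] at this
  rw [← Matrix.mul_assoc, ← Matrix.mul_assoc, h, Matrix.one_mul, Matrix.one_mul] at this
  ext r c
  have := congrFun (congrFun this (e.symm r)) (e.symm c)
  simp only [Matrix.submatrix_apply, Equiv.apply_symm_apply, Matrix.map_apply] at this
  exact φ.injective this

theorem up_det (h : P * P' = 1) (A : Matrix ι ι F) : (up φ e P P' A).det = φ A.det := by
  rw [up, det_conj h, Matrix.det_submatrix_equiv_self, RingHom.map_det]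
  rfl

/-- A change of coordinates. -/
theorem up_conj {B B' : Matrix (Fin n) (Fin n) K} (A : Matrix ι ι F) :
    up φ e (P * B) (B' * P') A = B' * up φ e P P' A * B := by
  simp only [up, Matrix.mul_assoc]

theorem Emb.conj {k : Kd K p} {J : Matrix ι ι F} (h : Emb k φ e J P P') {B B' : Matrix (Fin n) (Fin n) K}
    (hB : k.Uni B) (hBB : B * B' = 1) : Emb k φ e J (P * B) (B' * P') := by
  refine ⟨?_, fun A hA => ?_⟩
  · rw [Matrix.mul_assoc, ← Matrix.mul_assoc B, hBB, Matrix.one_mul, h.inv]
  · rw [up_conj]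
    exact k.uni_conj hB hBB (h.uni A hA)

end up

/-- There are such coordinates. -/
theorem exists_emb [Fintype F] (hp : p.Prime) (hodd : p % 2 = 1) (hF : Fintype.card F = p) (e : Fin n ≃ ι)
    {J : Matrix ι ι F} (hJ : J.det ≠ 0) {δ : F} (hδ : δ = 1 ∨ δ = -1) (hJt : Jᵀ = δ • J) :
    ∃ (K : Type) (_ : Field K) (_ : Fintype K) (k : Kd K p) (φ : F →+* K) (P P' : Matrix (Fin n) (Fin n) K),
      k.Good ∧ Emb k φ e J P P' := by
  classical
  haveI : Fact p.Prime := ⟨hp⟩
  rcases (by omega : p % 4 = 1 ∨ p % 4 = 3) with h4 | h4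
  · exact ⟨ZMod p, inferInstance, inferInstance, .lin, (ZMod.ringEquivOfPrime F hp hF).symm.toRingHom, 1, 1,
      ⟨hp, ZMod.card p, h4⟩, Matrix.one_mul 1, fun _ _ => trivial⟩
  letI : Fintype (GaloisField p 2) := Fintype.ofFinite _
  have hK : Fintype.card (GaloisField p 2) = p ^ 2 := by
    rw [← Nat.card_eq_fintype_card, GaloisField.card p 2 two_ne_zero]
  obtain ⟨C⟩ := CfsgLib.Classical.Herm.exists_conj_of_card hK
  obtain ⟨φ, -⟩ : ∃ φ : F →+* GaloisField p 2, True :=
    ⟨(algebraMap (ZMod p) (GaloisField p 2)).comp (ZMod.ringEquivOfPrime F hp hF).symm.toRingHom, trivial⟩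
  have hk : (Kd.unit C).Good := ⟨hp, hK, h4⟩
  obtain ⟨-, -, i, hi, hbar⟩ := (Kd.unit C).good_facts hk
  have hfix : ∀ a : F, C.bar (φ a) = φ a := fun a => by
    rw [C.bar_apply, ← map_pow]
    have := FiniteField.pow_card a
    rw [hF] at this
    rw [this]
  have hi0 : i ≠ 0 := fun e0 => by rw [e0, mul_zero] at hi; exact (neg_ne_zero.2 one_ne_zero) hi.symm
  obtain ⟨c, hc0, hc⟩ : ∃ c : GaloisField p 2, c ≠ 0 ∧ C.bar c * φ δ = c := by
    rcases hδ with rfl | rfl
    · exact ⟨1, one_ne_zero, by rw [map_one, map_one, one_mul]⟩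
    · exact ⟨i, hi0, by rw [hbar C rfl, map_neg, map_one]; ring⟩
  obtain ⟨H, hH⟩ : ∃ H, H = c • (J.map φ).submatrix e e := ⟨_, rfl⟩
  have hfA : ∀ A : Matrix ι ι F, Pauli.adj C ((A.map φ).submatrix e e) = ((A.map φ).submatrix e e)ᵀ := fun A => by
    ext r s; simp [Pauli.adj, hfix]
  have hHadj : Pauli.adj C H = H := by
    rw [hH, Pauli.adj_smul, hfA, Matrix.transpose_submatrix, ← Matrix.transpose_map, hJt,
      show ((δ • J).map φ).submatrix e e = φ δ • (J.map φ).submatrix e e by ext r s; simp, smul_smul, hc]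
  have hHdet : H.det ≠ 0 := by
    rw [hH, det_smul, Matrix.det_submatrix_equiv_self, ← RingHom.mapMatrix_apply, ← RingHom.map_det]
    exact mul_ne_zero (pow_ne_zero _ hc0) ((map_ne_zero φ).2 hJ)
  let form : (Fin n → GaloisField p 2) →ₛₗ[C.bar.toRingHom] (Fin n → GaloisField p 2) →ₗ[GaloisField p 2] GaloisField p 2 :=
    LinearMap.mk₂'ₛₗ C.bar.toRingHom (RingHom.id (GaloisField p 2))
      (fun v w => (fun r => C.bar (v r)) ⬝ᵥ (H *ᵥ w))
      (fun a b w => by
        rw [← add_dotProduct]; congr 1; funext r; simp)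
      (fun a v w => by
        rw [← smul_dotProduct]; congr 1; funext r; simp)
      (fun v a b => by rw [Matrix.mulVec_add, dotProduct_add])
      (fun a v w => by rw [Matrix.mulVec_smul, dotProduct_smul]; rfl)
  have hform : ∀ v w, form v w = ∑ r, ∑ s, C.bar (v r) * (H r s * w s) := fun v w => by
    show (fun r => C.bar (v r)) ⬝ᵥ (H *ᵥ w) = _
    simp only [dotProduct, Matrix.mulVec, Finset.mul_sum]
  have hS : ∀ x y, C.bar.toRingHom (form x y) = form y x := fun x y => by
    rw [hform, hform, map_sum, Finset.sum_comm]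
    refine Finset.sum_congr rfl fun r _ => ?_
    rw [map_sum]
    refine Finset.sum_congr rfl fun s _ => ?_
    have := congrFun (congrFun hHadj s) r
    simp only [Pauli.adj, Matrix.transpose_apply, Matrix.map_apply] at this
    show C.bar (C.bar (x r) * (H r s * y s)) = _
    rw [map_mul, map_mul, C.bar_bar, this]
    ring
  have hB : ∀ v, (∀ w, form v w = 0) → v = 0 := fun v hv => by
    have h0 : (fun r => C.bar (v r)) ᵥ* H = 0 := funext fun s => by
      have := hv (Pi.single s 1)
      show ∑ r, C.bar (v r) * H r s = 0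
      rw [hform] at this
      refine Eq.trans (Finset.sum_congr rfl fun r _ => ?_) this
      rw [Finset.sum_eq_single s (fun t _ ht => by simp [ht]) (by simp)]
      simp
    have := Matrix.eq_zero_of_vecMul_eq_zero hHdet h0
    funext r
    have hr := congrFun this r
    simpa using (map_eq_zero C.bar).1 hr
  obtain ⟨b, hb⟩ := CfsgLib.Forms.exists_orthonormal_basis C.bar.toRingHom
    (fun h => by obtain ⟨y, hy⟩ := C.exists_moved; exact hy (RingHom.congr_fun h y)) C.bar_bar form hS hB
  have hfr : Module.finrank (GaloisField p 2) (Fin n → GaloisField p 2) = n := Module.finrank_fin_fun _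
  obtain ⟨P, hP⟩ : ∃ P : Matrix (Fin n) (Fin n) (GaloisField p 2), P = Matrix.of fun r j => b (Fin.cast hfr.symm j) r :=
    ⟨_, rfl⟩
  have hPHP : Pauli.adj C P * H * P = 1 := by
    ext j l
    have := hb (Fin.cast hfr.symm j) (Fin.cast hfr.symm l)
    rw [hform] at this
    rw [Matrix.mul_assoc, Matrix.mul_apply]
    refine Eq.trans (Finset.sum_congr rfl fun r _ => ?_) (this.trans ?_)
    · simp only [Matrix.mul_apply, Pauli.adj, Matrix.transpose_apply, Matrix.map_apply, hP, Matrix.of_apply,
        Finset.mul_sum]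
    · rw [Matrix.one_apply]
      exact if_congr ⟨fun h => Fin.cast_injective _ h, fun h => by rw [h]⟩ rfl rfl
  obtain ⟨P', hP'⟩ : ∃ P', P' = Pauli.adj C P * H := ⟨_, rfl⟩
  have hPP : P * P' = 1 := mul_eq_one_comm.1 (by rw [hP', hPHP])
  refine ⟨GaloisField p 2, inferInstance, inferInstance, .unit C, φ, P, P', hk, hPP, fun A hA => ?_⟩
  show Pauli.adj C (up φ e P P' A) * up φ e P P' A = 1
  obtain ⟨A', hA'⟩ : ∃ A', A' = (A.map φ).submatrix e e := ⟨_, rfl⟩
  have hiso : A'ᵀ * H * A' = H := by
    rw [hA', hH, Matrix.mul_smul, Matrix.smul_mul, Matrix.transpose_submatrix, ← Matrix.transpose_map,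
      Matrix.submatrix_mul_equiv, Matrix.submatrix_mul_equiv, ← Matrix.map_mul, ← Matrix.map_mul, hA]
  have hP'P' : Pauli.adj C P' * P' = H := by
    conv_lhs => arg 2; rw [hP']
    rw [← Matrix.mul_assoc, ← Pauli.adj_mul, hPP, Pauli.adj_one, Matrix.one_mul]
  rw [up, ← hA', Pauli.adj_mul, Pauli.adj_mul, show Pauli.adj C A' = A'ᵀ from hA' ▸ hfA A]
  calc Pauli.adj C P * (A'ᵀ * Pauli.adj C P') * (P' * A' * P)
      = Pauli.adj C P * (A'ᵀ * (Pauli.adj C P' * P') * A') * P := by simp only [Matrix.mul_assoc]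
    _ = 1 := by rw [hP'P', hiso, hPHP]

end CfsgLib.QubitMax
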