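import Cfsg.Agent.Lib.Classical.Pauli.Group

/-!
A finite two-group of exponent dividing four whose characteristic abelian subgroups are cyclic and whose centre has
order two has central commutators.
-/

set_option autoImplicit false
set_option linter.unusedSectionVars false

namespace CfsgLib.QubitMax

open scoped commutatorElement
open CfsgLib.Pauli (card_le_four_of_cyclic exists_second_center commute_of_second_center square_and_commutator zpowers_char)

variable {R : Type*} [Group R] [Finite R]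

/-- A characteristic subgroup of a characteristic subgroup is characteristic. -/
theorem char_map {C : Subgroup R} [hC : C.Characteristic] (B : Subgroup C) [hB : B.Characteristic] :
    (B.map C.subtype).Characteristic := by
  refine Subgroup.characteristic_iff_map_le.2 fun φ => ?_
  rintro _ ⟨_, ⟨b, hb, rfl⟩, rfl⟩
  have hm : ∀ (ψ : R ≃* R) (c : C), ψ (c : R) ∈ C := fun ψ c =>
    (Subgroup.characteristic_iff_map_le.1 hC ψ) ⟨c, c.2, rfl⟩
  obtain ⟨φ', hφ'⟩ : ∃ φ' : C ≃* C, ∀ c, (φ' c : R) = φ c :=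
    ⟨{ toFun := fun c => ⟨φ c, hm φ c⟩
       invFun := fun c => ⟨φ.symm c, hm φ.symm c⟩
       left_inv := fun c => Subtype.ext (φ.symm_apply_apply _)
       right_inv := fun c => Subtype.ext (φ.apply_symm_apply _)
       map_mul' := fun a b => Subtype.ext (map_mul φ _ _) }, fun _ => rfl⟩
  exact ⟨φ' b, (Subgroup.characteristic_iff_map_le.1 hB φ') ⟨b, hb, rfl⟩, hφ' b⟩

theorem commutator_le_center_two (hp : IsPGroup 2 R) (h4 : ∀ x : R, x ^ 4 = 1)
    (hchar : ∀ A : Subgroup R, A.Characteristic → IsMulCommutative A → IsCyclic A)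
    (hz : Nat.card (Subgroup.center R) = 2) : commutator R ≤ Subgroup.center R := by
  classical
  haveI : Fact (Nat.Prime 2) := ⟨Nat.prime_two⟩
  haveI := hp.isNilpotent
  by_contra hnc
  obtain ⟨a, haD, haZ2, haz⟩ := exists_second_center hnc
  obtain ⟨A, hA⟩ : ∃ A, A = (commutator R ⊓ Subgroup.upperCentralSeries R 2) ⊔ Subgroup.center R := ⟨_, rfl⟩
  haveI hAc : A.Characteristic := by rw [hA]; infer_instance
  haveI : IsMulCommutative A := by
    have : A ≤ Subgroup.centralizer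
        (((commutator R ⊓ Subgroup.upperCentralSeries R 2) ⊔ Subgroup.center R : Subgroup R) : Set R) := by
      rw [hA, sup_le_iff]
      refine ⟨?_, Subgroup.center_le_centralizer _⟩
      rw [Subgroup.le_centralizer_iff, sup_le_iff]
      refine ⟨fun x hx => Subgroup.mem_centralizer_iff.2 fun y hy => ?_, Subgroup.center_le_centralizer _⟩
      exact commute_of_second_center hy.2 hx.1
    exact ⟨⟨fun x y => Subtype.ext (Subgroup.mem_centralizer_iff.1 (this y.2) x (hA ▸ x.2))⟩⟩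
  haveI := hchar A hAc this
  have hA4 := card_le_four_of_cyclic h4 A
  have haA : a ∈ A := hA ▸ Subgroup.mem_sup_left ⟨haD, haZ2⟩
  have hZA : Subgroup.center R ≤ A := hA ▸ le_sup_right
  have hA4' : Nat.card A = 4 := by
    have h1 : Nat.card (Subgroup.center R) < Nat.card A :=
      lt_of_le_of_ne (Subgroup.card_le_of_le hZA) fun e => haz (by
        rw [Subgroup.eq_of_le_of_card_ge hZA e.ge]
        exact haA)
    have := Subgroup.card_dvd_of_le hZA
    rw [hz] at this h1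
    omega
  -- the centraliser of `A`
  obtain ⟨C, hC⟩ : ∃ C, C = Subgroup.centralizer (A : Set R) := ⟨_, rfl⟩
  haveI hCc : C.Characteristic := hC ▸ inferInstance
  have hAC : A ≤ C := hC ▸ fun x hx => Subgroup.mem_centralizer_iff.2 fun y hy =>
    congrArg Subtype.val (mul_comm' (⟨y, hy⟩ : A) ⟨x, hx⟩)
  have h4C : ∀ x : C, x ^ 4 = 1 := fun x => Subtype.ext (by simpa using h4 x)
  have hCz : (Subgroup.center C).map C.subtype = A := by
    have h1 : A ≤ (Subgroup.center C).map C.subtype := fun x hx => ⟨⟨x, hAC hx⟩,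
      Subgroup.mem_center_iff.2 fun w => Subtype.ext
        (Subgroup.mem_centralizer_iff.1 (hC ▸ w.2 : (w : R) ∈ Subgroup.centralizer (A : Set R)) x hx).symm, rfl⟩
    haveI := hchar ((Subgroup.center C).map C.subtype) (char_map _) inferInstance
    exact (Subgroup.eq_of_le_of_card_ge h1 (by rw [hA4']; exact card_le_four_of_cyclic h4 _)).symm
  have hZC4 : Nat.card (Subgroup.center C) = 4 := by
    rw [← Subgroup.card_map_of_injective C.subtype_injective, hCz, hA4']
  have hDC := CfsgLib.Pauli.commutator_le_center (hp.to_subgroup C) h4C (fun B hB hBc => by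
    haveI := hB
    haveI := hBc
    haveI := hchar (B.map C.subtype) (char_map B) inferInstance
    exact (B.equivMapOfInjective _ C.subtype_injective).isCyclic.2 inferInstance) (Or.inl hZC4)
  have inA : ∀ x ∈ C, x * x ∈ A := fun x hx => by
    have := (square_and_commutator h4C hDC ⟨x, hx⟩ ⟨x, hx⟩).1
    rw [← hCz]
    exact ⟨_, this, by rw [map_pow, Subgroup.coe_subtype, pow_two]⟩
  -- the element of order four
  obtain ⟨g, hg⟩ := IsCyclic.exists_generator (α := A)
  have hog : orderOf g = 4 := (orderOf_eq_card_of_forall_mem_zpowers hg).trans hA4'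
  obtain ⟨z, hzc, hz1⟩ : ∃ z ∈ Subgroup.center R, z ≠ 1 := by
    by_contra hall
    push Not at hall
    have : Subgroup.center R = ⊥ := (Subgroup.eq_bot_iff_forall _).2 hall
    rw [this, Subgroup.card_bot] at hz
    omega
  have hZ2 : ∀ w ∈ Subgroup.center R, w = 1 ∨ w = z := by
    intro w hw
    by_contra hno
    push Not at hno
    haveI := Fintype.ofFinite (Subgroup.center R)
    have := Finset.card_le_univ ({1, ⟨z, hzc⟩, ⟨w, hw⟩} : Finset (Subgroup.center R))
    rw [Finset.card_insert_of_notMem (by simp [Subtype.ext_iff, Ne.symm hz1, Ne.symm hno.1]),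
      Finset.card_insert_of_notMem (by simp [Subtype.ext_iff, Ne.symm hno.2]), Finset.card_singleton,
      ← Nat.card_eq_fintype_card, hz] at this
    omega
  have ord2 : ∀ w : R, w ∈ A → w * w = 1 → w ∈ Subgroup.center R := by
    intro w hw hw2
    have hcy : ∀ w : A, w ^ 2 = 1 → w = 1 ∨ w = g ^ 2 := fun w hw => by
      obtain ⟨m, hm⟩ := hg w
      subst hm
      have hdvd : (4 : ℤ) ∣ m * 2 := by
        rw [show (4 : ℤ) = ((4 : ℕ) : ℤ) by norm_num, ← hog, orderOf_dvd_iff_zpow_eq_one, zpow_mul, zpow_ofNat]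
        exact hw
      obtain ⟨l, rfl⟩ : (2 : ℤ) ∣ m := by omega
      rcases Int.even_or_odd l with ⟨t, rfl⟩ | ⟨t, rfl⟩
      · left
        show g ^ (2 * (t + t)) = 1
        rw [← orderOf_dvd_iff_zpow_eq_one, hog]
        omega
      · right
        show g ^ (2 * (2 * t + 1)) = g ^ 2
        rw [mul_add, mul_one, zpow_add, ← mul_assoc, show g ^ (2 * 2 * t) = 1 by
          rw [← orderOf_dvd_iff_zpow_eq_one, hog]; omega, one_mul, zpow_ofNat]
    have hzz : z * z = 1 := (hZ2 _ (mul_mem hzc hzc)).resolve_right fun e => hz1 (mul_eq_left.1 e)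
    have ez := (hcy ⟨z, hZA hzc⟩ (Subtype.ext (by simpa [pow_two] using hzz))).resolve_left
      fun e => hz1 (congrArg Subtype.val e)
    rcases hcy ⟨w, hw⟩ (Subtype.ext (by simpa [pow_two] using hw2)) with e | e
    · rw [show w = 1 from congrArg Subtype.val e]; exact one_mem _
    · rw [show w = z from congrArg Subtype.val (e.trans ez.symm)]; exact hzc
  have betaZ : ∀ x ∈ C, ∀ y ∈ C, ⁅x, y⁆ ∈ Subgroup.center R := by
    intro x hx y hy
    obtain ⟨-, h1, h2⟩ := square_and_commutator h4C hDC ⟨x, hx⟩ ⟨y, hy⟩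
    exact ord2 _ (hCz ▸ ⟨_, h1, rfl⟩) (by simpa [pow_two, commutatorElement_def] using congrArg Subtype.val h2)
  have sqZ : ∀ x ∈ C, x * x ∈ Subgroup.center R := fun x hx =>
    ord2 _ (inA x hx) (by have := h4 x; simpa [pow_succ, mul_assoc] using this)
  -- `C` has index two
  have hgen : Subgroup.zpowers a = A := by
    refine Subgroup.eq_of_le_of_card_ge (Subgroup.zpowers_le.2 haA) ?_
    rw [Nat.card_zpowers, hA4']
    by_contra hlt
    have hd : orderOf a ∣ 2 ^ 2 := orderOf_dvd_of_pow_eq_one (h4 a)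
    obtain ⟨j, hj, e⟩ := (Nat.dvd_prime_pow Nat.prime_two).1 hd
    have : orderOf a ∣ 2 := by
      interval_cases j
      · rw [e]; norm_num
      · rw [e]; norm_num
      · omega
    exact haz (ord2 a haA (by rw [← pow_two]; exact orderOf_dvd_iff_pow_eq_one.1 this))
  have hCa : ∀ x, x ∈ C ↔ a * x = x * a := fun x => by
    rw [hC, Subgroup.mem_centralizer_iff]
    refine ⟨fun hh => hh a haA, fun hh y hy => ?_⟩
    rw [SetLike.mem_coe, ← hgen] at hy
    obtain ⟨k, rfl⟩ := hy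
    exact (show Commute a x from hh).zpow_left k
  have hcom : ∀ u, a * u * a⁻¹ * u⁻¹ ∈ Subgroup.center R := fun u => by
    have := Subgroup.mem_upperCentralSeries_succ_iff.1 haZ2 u
    rwa [Subgroup.upperCentralSeries_one] at this
  have sw : ∀ u, u ∉ C → a * u = z * (u * a) := fun u hu => by
    have e : a * u = a * u * a⁻¹ * u⁻¹ * (u * a) := by group
    rcases hZ2 _ (hcom u) with e1 | e1
    · rw [e1, one_mul] at e
      exact absurd ((hCa u).2 e) hu
    · rwa [e1] at e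
  obtain ⟨t, ht⟩ : ∃ t, t ∉ C := by
    by_contra hall
    push Not at hall
    exact haz (Subgroup.mem_center_iff.2 fun u => ((hCa u).1 (hall u)).symm)
  have hzC := Subgroup.mem_center_iff.1 hzc
  have hidx : ∀ u, u ∉ C → u * t⁻¹ ∈ C := fun u hu => by
    have e1 := sw u hu
    have e2 := sw t ht
    rw [hCa]
    have e3 : a * t⁻¹ = z⁻¹ * (t⁻¹ * a) := by
      calc a * t⁻¹ = z⁻¹ * (t⁻¹ * (a * t) * t⁻¹) := by
            rw [e2, ← mul_assoc t⁻¹, hzC t⁻¹]; group
        _ = _ := by group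
    rw [← mul_assoc, e1, mul_assoc z, mul_assoc u, e3, ← mul_assoc u z⁻¹, Subgroup.mem_center_iff.1 (inv_mem hzc) u]
    group
  haveI : C.Normal := inferInstance
  have hσ : ∀ x ∈ C, t * x * t⁻¹ ∈ C := fun x hx => (inferInstance : C.Normal).conj_mem x hx t
  -- the commutator form
  have cZ : ∀ {w}, w ∈ Subgroup.center R → ∀ u, u * w = w * u := fun hw u => Subgroup.mem_center_iff.1 hw u
  have bmul : ∀ x ∈ C, ∀ x' ∈ C, ∀ y ∈ C, ⁅x * x', y⁆ = ⁅x, y⁆ * ⁅x', y⁆ := by
    intro x _ x' hx' y hy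
    have e : ⁅x * x', y⁆ = x * ⁅x', y⁆ * (y * x⁻¹ * y⁻¹) := by simp only [commutatorElement_def]; group
    rw [e, cZ (betaZ x' hx' y hy), mul_assoc, cZ (betaZ x' hx' y hy) ⁅x, y⁆]
    simp only [commutatorElement_def]; group
  have bmulr : ∀ x ∈ C, ∀ y ∈ C, ∀ y' ∈ C, ⁅x, y * y'⁆ = ⁅x, y⁆ * ⁅x, y'⁆ := by
    intro x hx y hy y' hy'
    have e : ⁅x, y * y'⁆ = ⁅x, y⁆ * (y * ⁅x, y'⁆ * y⁻¹) := by simp only [commutatorElement_def]; group
    rw [e, cZ (betaZ x hx y' hy') y, mul_inv_cancel_right]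
  have bsq : ∀ x ∈ C, ∀ y ∈ C, ⁅x, y⁆ * ⁅x, y⁆ = 1 := fun x hx y hy => by
    have := (square_and_commutator h4C hDC ⟨x, hx⟩ ⟨y, hy⟩).2.2
    simpa [pow_two, commutatorElement_def] using congrArg Subtype.val this
  obtain ⟨σ, hs⟩ : ∃ σ : R → R, ∀ x, σ x = t * x * t⁻¹ := ⟨_, fun _ => rfl⟩
  have hσC : ∀ x ∈ C, σ x ∈ C := fun x hx => hs x ▸ hσ x hx
  have bσ : ∀ x ∈ C, ∀ y ∈ C, ⁅σ x, σ y⁆ = ⁅x, y⁆ := fun x hx y hy => by
    rw [hs, hs, show ⁅t * x * t⁻¹, t * y * t⁻¹⁆ = t * ⁅x, y⁆ * t⁻¹ by simp only [commutatorElement_def]; group,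
      cZ (betaZ x hx y hy) t, mul_inv_cancel_right]
  have httC : t * t ∈ C := by
    by_contra hn
    have := hidx _ hn
    rw [mul_inv_cancel_right] at this
    exact ht this
  have bσσ : ∀ x ∈ C, ∀ y ∈ C, ⁅σ (σ x), y⁆ = ⁅x, y⁆ := fun x hx y hy => by
    have e : σ (σ x) = ⁅t * t, x⁆ * x := by rw [hs, hs, commutatorElement_def]; group
    rw [e, bmul _ (hAC (hZA (betaZ _ httC x hx))) x hx y hy, commutatorElement_eq_one_iff_mul_comm.2
      (cZ (betaZ _ httC x hx) y).symm, one_mul]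
  obtain ⟨S, hS⟩ : ∃ S : Set R, S = (A : Set R) ∪ {u | ∃ x ∈ C, u = σ x * x⁻¹} := ⟨_, rfl⟩
  have hSC : ∀ u ∈ S, u ∈ C := by
    rw [hS]
    rintro u (hu | ⟨x, hx, rfl⟩)
    · exact hAC hu
    · exact mul_mem (hσC x hx) (inv_mem hx)
  have bA : ∀ u ∈ A, ∀ y ∈ C, ⁅u, y⁆ = 1 := fun u hu y hy =>
    commutatorElement_eq_one_iff_mul_comm.2 (Subgroup.mem_centralizer_iff.1 (hC ▸ hy) u hu)
  have binv : ∀ x ∈ C, ∀ y ∈ C, ⁅x⁻¹, y⁆ = ⁅x, y⁆ := fun x hx y hy => by
    have e := bmul x⁻¹ (inv_mem hx) x hx y hy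
    rw [inv_mul_cancel, commutatorElement_one_left] at e
    rw [eq_inv_of_mul_eq_one_left e.symm, inv_eq_of_mul_eq_one_right (bsq x hx y hy)]
  have binvr : ∀ x ∈ C, ∀ y ∈ C, ⁅x, y⁻¹⁆ = ⁅x, y⁆ := fun x hx y hy => by
    have e := bmulr x hx y⁻¹ (inv_mem hy) y hy
    rw [inv_mul_cancel, commutatorElement_one_right] at e
    rw [eq_inv_of_mul_eq_one_left e.symm, inv_eq_of_mul_eq_one_right (bsq x hx y hy)]
  have hScomm : ∀ u ∈ S, ∀ v ∈ S, u * v = v * u := by
    intro u hu v hv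
    rw [← commutatorElement_eq_one_iff_mul_comm]
    rw [hS] at hu hv
    rcases hu with hu | ⟨x, hx, rfl⟩
    · exact bA u hu v (hSC v (hS ▸ hv))
    rcases hv with hv | ⟨y, hy, rfl⟩
    · rw [← commutatorElement_inv, bA v hv _ (mul_mem (hσC x hx) (inv_mem hx)), inv_one]
    have hsx := hσC x hx
    have hsy := hσC y hy
    rw [bmul _ hsx _ (inv_mem hx) _ (mul_mem hsy (inv_mem hy)), bmulr _ hsx _ hsy _ (inv_mem hy),
      bmulr _ (inv_mem hx) _ hsy _ (inv_mem hy), binvr _ hsx _ hy, binvr _ (inv_mem hx) _ hy, binv x hx _ hsy,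
      binv x hx y hy, bσ x hx y hy, show ⁅σ x, y⁆ = ⁅x, σ y⁆ by rw [← bσ _ hsx y hy, bσσ x hx _ hsy],
      ← mul_assoc, mul_assoc ⁅x, y⁆, bsq x hx _ hsy, mul_one, bsq x hx y hy]
  obtain ⟨D, hD⟩ : ∃ D, D = Subgroup.closure S := ⟨_, rfl⟩
  haveI : IsMulCommutative D := hD ▸ Subgroup.isMulCommutative_closure hScomm
  have hSD : ∀ u ∈ S, u ∈ D := fun u hu => hD ▸ Subgroup.subset_closure hu
  have memA : ∀ u ∈ A, u ∈ D := fun u hu => hSD u (hS ▸ Or.inl hu)
  have memσ : ∀ x ∈ C, σ x * x⁻¹ ∈ D := fun x hx => hSD _ (hS ▸ Or.inr ⟨x, hx, rfl⟩)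
  have hcomD : ∀ x y : R, ⁅x, y⁆ ∈ D := by
    have cg : ∀ c ∈ C, ∀ d ∈ C, ⁅c * t, d⁆ ∈ D := by
      intro c hc d hd
      have e : ⁅c * t, d⁆ = ⁅c, σ d * d⁻¹⁆ * (σ d * d⁻¹) * ⁅c, d⁆ := by
        rw [hs]; simp only [commutatorElement_def]; group
      rw [e]
      exact mul_mem (mul_mem (memA _ (hZA (betaZ c hc _ (mul_mem (hσC d hd) (inv_mem hd))))) (memσ d hd))
        (memA _ (hZA (betaZ c hc d hd)))
    have split : ∀ u, u ∈ C ∨ ∃ c ∈ C, u = c * t := fun u => by
      by_cases hu : u ∈ C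
      · exact Or.inl hu
      · exact Or.inr ⟨_, hidx u hu, by rw [inv_mul_cancel_right]⟩
    intro x y
    rcases split x with hx | ⟨c, hc, rfl⟩ <;> rcases split y with hy | ⟨d, hd, rfl⟩
    · exact memA _ (hZA (betaZ x hx y hy))
    · rw [← commutatorElement_inv]
      exact inv_mem (cg d hd x hx)
    · exact cg c hc y hy
    · have hsd := hσC d hd
      have hsc := hσC c hc
      have e : ⁅c * t, d * t⁆ = c * (σ d * (σ c)⁻¹) * d⁻¹ := by
        rw [hs, hs]; simp only [commutatorElement_def]; group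
      have e' : σ d * (σ c)⁻¹ = ⁅σ d, (σ c)⁻¹⁆ * ((σ c)⁻¹ * σ d) := by simp only [commutatorElement_def]; group
      have hz' := betaZ _ hsd _ (inv_mem hsc)
      rw [e, e', ← mul_assoc c, cZ hz' c,
        show ⁅σ d, (σ c)⁻¹⁆ * c * ((σ c)⁻¹ * σ d) * d⁻¹ = ⁅σ d, (σ c)⁻¹⁆ * (σ c * c⁻¹)⁻¹ * (σ d * d⁻¹) by group]
      exact mul_mem (mul_mem (memA _ (hZA hz')) (inv_mem (memσ c hc))) (memσ d hd)
  have hle : commutator R ⊔ A ≤ D := by
    refine sup_le ?_ memA
    rw [commutator_def, Subgroup.commutator_le]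
    exact fun x _ y _ => hcomD x y
  haveI : IsMulCommutative ↥(commutator R ⊔ A) :=
    ⟨⟨fun x y => Subtype.ext (show (x : R) * y = y * x from congrArg Subtype.val (mul_comm' (⟨x, hle x.2⟩ : D) ⟨y, hle y.2⟩))⟩⟩
  haveI := hchar (commutator R ⊔ A) inferInstance this
  have hDA : commutator R ⊔ A = A :=
    (Subgroup.eq_of_le_of_card_ge le_sup_right (by rw [hA4']; exact card_le_four_of_cyclic h4 _)).symm
  -- so the other half acts trivially
  have htC : ∀ x ∈ C, ⁅t, x⁆ ∈ Subgroup.center R := by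
    intro x hx
    have hm : ⁅t, x⁆ ∈ A := hDA ▸ Subgroup.mem_sup_left
      (Subgroup.commutator_mem_commutator (Subgroup.mem_top t) (Subgroup.mem_top x))
    refine ord2 _ hm ?_
    obtain ⟨w, hw⟩ : ∃ w, w = ⁅t, x⁆ := ⟨_, rfl⟩
    rw [← hw] at hm ⊢
    have hwx : w * x = x * w := Subgroup.mem_centralizer_iff.1 (hC ▸ hx) w hm
    have e1 : t * x * t⁻¹ = w * x := by rw [hw, commutatorElement_def]; group
    have e2 : t * (x * x) * t⁻¹ = w * w * (x * x) := by
      rw [show t * (x * x) * t⁻¹ = t * x * t⁻¹ * (t * x * t⁻¹) by group, e1,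
        show w * x * (w * x) = w * (x * w) * x by simp only [mul_assoc], ← hwx]
      simp only [mul_assoc]
    rw [cZ (sqZ x hx) t, mul_inv_cancel_right] at e2
    exact right_eq_mul.1 e2 |>.trans rfl
  have hall : ∀ x y : R, ⁅x, y⁆ ∈ Subgroup.center R := by
    have cg : ∀ c ∈ C, ∀ d ∈ C, ⁅c * t, d⁆ ∈ Subgroup.center R := by
      intro c hc d hd
      have e : ⁅c * t, d⁆ = c * ⁅t, d⁆ * c⁻¹ * ⁅c, d⁆ := by simp only [commutatorElement_def]; group
      rw [e, cZ (htC d hd) c, mul_inv_cancel_right]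
      exact mul_mem (htC d hd) (betaZ c hc d hd)
    intro x y
    by_cases hx : x ∈ C <;> by_cases hy : y ∈ C
    · exact betaZ x hx y hy
    · rw [← commutatorElement_inv, show y = y * t⁻¹ * t by group]
      exact inv_mem (cg _ (hidx y hy) x hx)
    · rw [show x = x * t⁻¹ * t by group]
      exact cg _ (hidx x hx) y hy
    · obtain ⟨c, hc, rfl⟩ : ∃ c ∈ C, x = c * t := ⟨_, hidx x hx, by group⟩
      obtain ⟨d, hd, rfl⟩ : ∃ d ∈ C, y = d * t := ⟨_, hidx y hy, by group⟩
      have e : ⁅c * t, d * t⁆ = c * ⁅t, d * c⁻¹⁆ * c⁻¹ * ⁅c, d⁆ := by simp only [commutatorElement_def]; group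
      have hm := htC _ (mul_mem hd (inv_mem hc))
      rw [e, cZ hm c, mul_inv_cancel_right]
      exact mul_mem hm (betaZ c hc d hd)
  refine hnc ?_
  rw [commutator_def, Subgroup.commutator_le]
  exact fun x _ y _ => hall x y

end CfsgLib.QubitMax
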