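import Cfsg.Agent.Lib.QubitMax.Step
import Cfsg.Agent.Lib.Classical.SUFour.Symp
import Cfsg.Agent.Lib.Classical.SLFour.SympFour.Main

/-!
The dichotomy on four points, and hence on every higher power of two.
-/

set_option autoImplicit false
set_option linter.unusedSectionVars false

namespace CfsgLib.QubitMax

open Matrix
open CfsgLib.EightMax (Sform Isom tr tr_one tr_zero z2 sg2 sg2_zero sg2_one sg2_self sg2_ne sg2_add sg2_inj exists_sg2)
open CfsgLib.ClassicalAut (Unitary.Conj)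
open Cfsg.Geo (matrixSet subgroupNormalizer)

variable {F : Type} [Field F] [Finite F] {p : ℕ}

/-- The dichotomy does not depend on unitary coordinates. -/
theorem dich_conj {n : ℕ} [NeZero n] {k : Kd F p} {V : Type} [AddCommGroup V] {s : V → V → ZMod 2}
    {X : V → Matrix (Fin n) (Fin n) F} {B B' : Matrix (Fin n) (Fin n) F} (hB : k.Uni B) (hBB : B * B' = 1)
    (hd : ∀ P : Subgroup (GL (Fin n) F), P ≤ k.amb n →
      (∀ g ∈ k.amb n, (∃ L, Act (fun u => B' * X u * B) (g : Matrix (Fin n) (Fin n) F) L) → g ∈ P) →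
      P = k.amb n ∨ ∀ g ∈ P, ∃ L, Act (fun u => B' * X u * B) (g : Matrix (Fin n) (Fin n) F) L)
    (P : Subgroup (GL (Fin n) F)) (hP : P ≤ k.amb n)
    (hc : ∀ g ∈ k.amb n, (∃ L, Act X (g : Matrix (Fin n) (Fin n) F) L) → g ∈ P) :
    P = k.amb n ∨ ∀ g ∈ P, ∃ L, Act X (g : Matrix (Fin n) (Fin n) F) L := by
  have hB'B := mul_eq_one_comm.1 hBB
  obtain ⟨Bu, eBu, eBu'⟩ := exists_unit hBB
  obtain ⟨P', hP'⟩ : ∃ P', P' = P.map (MulAut.conj Bu⁻¹).toMonoidHom := ⟨_, rfl⟩
  have mem' : ∀ g', g' ∈ P' ↔ Bu * g' * Bu⁻¹ ∈ P := fun g' => by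
    rw [hP', Subgroup.mem_map]
    constructor
    · rintro ⟨x, hx, rfl⟩
      simpa [mul_assoc] using hx
    · exact fun hx => ⟨_, hx, by simp [mul_assoc]⟩
  have val' : ∀ g' : GL (Fin n) F, ((Bu * g' * Bu⁻¹ : GL (Fin n) F) : Matrix _ _ F) =
      B * (g' : Matrix (Fin n) (Fin n) F) * B' := fun g' => by rw [Units.val_mul, Units.val_mul, eBu, eBu']
  have sand : ∀ A A' : Matrix (Fin n) (Fin n) F, B * A * B' * (B * A' * B') = B * (A * A') * B' := fun A A' => by
    simp only [Matrix.mul_assoc]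
    rw [← Matrix.mul_assoc B' B, hB'B, Matrix.one_mul]
  have back : ∀ A : Matrix (Fin n) (Fin n) F, B' * (B * A * B') * B = A := fun A => by
    simp only [Matrix.mul_assoc]
    rw [hB'B, Matrix.mul_one, ← Matrix.mul_assoc, hB'B, Matrix.one_mul]
  have forth : ∀ A : Matrix (Fin n) (Fin n) F, B * (B' * A * B) * B' = A := fun A => by
    simp only [Matrix.mul_assoc]
    rw [hBB, Matrix.mul_one, ← Matrix.mul_assoc, hBB, Matrix.one_mul]
  have inA : ∀ g', g' ∈ k.amb n ↔ Bu * g' * Bu⁻¹ ∈ k.amb n := fun g' => by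
    rw [Kd.mem_amb, Kd.mem_amb, val', det_conj hB'B]
    refine and_congr_right fun _ => ⟨fun hu => k.uni_conj (k.uni_inv hB hBB) hB'B hu, fun hu => ?_⟩
    rw [← back (g' : Matrix (Fin n) (Fin n) F)]
    exact k.uni_conj hB hBB hu
  have hact : ∀ g' : GL (Fin n) F, (∃ L, Act (fun u => B' * X u * B) (g' : Matrix (Fin n) (Fin n) F) L) ↔
      ∃ L, Act X ((Bu * g' * Bu⁻¹ : GL (Fin n) F) : Matrix (Fin n) (Fin n) F) L := fun g' => by
    rw [val']
    refine exists_congr fun L => ⟨fun hL u => ?_, fun hL u => ?_⟩ <;> obtain ⟨f, hf⟩ := hL u <;> refine ⟨f, ?_⟩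
    · rw [← forth (X u), sand, hf, Matrix.mul_smul, Matrix.smul_mul, ← sand, forth]
    · have hf' : B * ((g' : Matrix (Fin n) (Fin n) F) * (B' * X u * B)) * B' =
          B * (f • (B' * X (L u) * B * (g' : Matrix (Fin n) (Fin n) F))) * B' := by
        rw [Matrix.mul_smul, Matrix.smul_mul, ← sand _ (B' * X u * B), ← sand (B' * X (L u) * B), forth, forth, hf]
      have := congrArg (fun Y => B' * Y * B) hf'
      simp only [back] at this
      exact this
  rcases hd P' (fun g' hg' => (inA g').2 (hP ((mem' g').1 hg')))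
      (fun g' hg' hL => (mem' g').2 (hc _ ((inA g').1 hg') ((hact g').1 hL))) with h1 | h1
  · refine Or.inl (le_antisymm hP fun g hg => ?_)
    have eg : g = Bu * (Bu⁻¹ * g * Bu) * Bu⁻¹ := by group
    rw [eg]
    exact (mem' _).1 (h1.symm ▸ (inA _).2 (eg ▸ hg))
  · refine Or.inr fun g hg => ?_
    have eg : Bu * (Bu⁻¹ * g * Bu) * Bu⁻¹ = g := by group
    have := (hact _).1 (h1 (Bu⁻¹ * g * Bu) ((mem' _).2 (eg.symm ▸ hg)))
    rwa [eg] at this

namespace Nice

variable {k : Kd F p} {V : Type} [AddCommGroup V] {s : V → V → ZMod 2} {X : V → Matrix (Fin 4) (Fin 4) F}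
  (hX : Nice k s X)
include hX

/-- Two pairs. -/
theorem exists_pairs : ∃ a b c d : V, s a b = 1 ∧ s c d = 1 ∧ s c a = 0 ∧ s c b = 0 ∧ s d a = 0 ∧ s d b = 0 := by
  classical
  have sf := hX.fm.form
  haveI := hX.fm.finite
  haveI := Fintype.ofFinite V
  have h16 : Fintype.card V = 16 := by rw [← Nat.card_eq_fintype_card, hX.fm.card, Fintype.card_fin]
  obtain ⟨a, ha⟩ : ∃ a : V, a ≠ 0 := Fintype.exists_ne_of_one_lt_card (by omega) 0
  obtain ⟨b, hb⟩ := sf.exists_one ha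
  obtain ⟨z, hz⟩ : ∃ z, z ∉ ({0, a, b, a + b} : Finset V) := by
    by_contra hno
    push Not at hno
    have := (Finset.eq_univ_iff_forall.2 hno).symm ▸ (Finset.card_le_four (a := (0 : V)) (b := a) (c := b) (d := a + b))
    rw [Finset.card_univ, h16] at this
    omega
  let pr : V → V := fun u => u + (if s u b = 1 then a else 0) + (if s u a = 1 then b else 0)
  have hba : s b a = 1 := by rw [sf.symm, hb]
  have hpr : ∀ u, s (pr u) a = 0 ∧ s (pr u) b = 0 := fun u => by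
    rcases z2 (s u b) with e1 | e1 <;> rcases z2 (s u a) with e2 | e2 <;>
      simp [pr, e1, e2, sf.add_left, sf.alt, hb, hba, CharTwo.add_self_eq_zero]
  have hz0 : pr z ≠ 0 := fun e0 => by
    simp only [Finset.mem_insert, Finset.mem_singleton, not_or] at hz
    simp only [pr] at e0
    rcases z2 (s z b) with e1 | e1 <;> rcases z2 (s z a) with e2 | e2 <;> rw [e1, e2] at e0 <;>
      simp only [if_true, if_neg (zero_ne_one : (0 : ZMod 2) ≠ 1), add_zero] at e0
    · exact hz.1 e0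
    · exact hz.2.2.1 (sf.eq_of_add_eq_zero e0)
    · exact hz.2.1 (sf.eq_of_add_eq_zero e0)
    · exact hz.2.2.2 (sf.eq_of_add_eq_zero (by rw [← add_assoc]; exact e0))
  obtain ⟨d₀, hd₀⟩ := sf.exists_one hz0
  refine ⟨a, b, pr z, pr d₀, hb, ?_, (hpr z).1, (hpr z).2, (hpr d₀).1, (hpr d₀).2⟩
  show s (pr z) (d₀ + _ + _) = 1
  rw [sf.add_right, sf.add_right, hd₀]
  split_ifs <;> simp [(hpr z).1, (hpr z).2, sf.zero_right]

theorem comm0 {u v : V} (h : s u v = 0) : X u * X v = X v * X u := by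
  rw [hX.fm.comm u v, h, sg2_zero, one_smul]

theorem anti {u v : V} (h : s u v = 1) : X v * X u = -(X u * X v) := by
  rw [hX.fm.comm v u, hX.fm.form.symm, h, sg2_one, neg_one_smul]

/-- The frame of four generators. -/
theorem exists_frame4 {i : F} (hi : i * i = -1) : ∃ (f : Pauli.Frame F (Fin 4)) (a b c d : V),
    f.a = X a ∧ f.b = X b ∧ f.c = i • X c ∧ f.d = i • X d := by
  obtain ⟨a, b, c, d, hab, hcd, hca, hcb, hda, hdb⟩ := hX.exists_pairs
  refine ⟨⟨X a, X b, i • X c, i • X d, hX.sq1 a, hX.sq1 b, ?_, ?_, hX.anti hab, ?_, ?_, ?_, ?_, ?_⟩, a, b, c, d,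
    rfl, rfl, rfl, rfl⟩
  · rw [Matrix.smul_mul, Matrix.mul_smul, smul_smul, hi, hX.sq1, neg_one_smul]
  · rw [Matrix.smul_mul, Matrix.mul_smul, smul_smul, hi, hX.sq1, neg_one_smul]
  · rw [Matrix.smul_mul, Matrix.mul_smul, smul_smul, hX.anti hcd, smul_neg, Matrix.smul_mul, Matrix.mul_smul, smul_smul]
  · rw [Matrix.smul_mul, Matrix.mul_smul, hX.comm0 hca]
  · rw [Matrix.smul_mul, Matrix.mul_smul, hX.comm0 hcb]
  · rw [Matrix.smul_mul, Matrix.mul_smul, hX.comm0 hda]
  · rw [Matrix.smul_mul, Matrix.mul_smul, hX.comm0 hdb]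

/-- The dichotomy in standard coordinates. -/
theorem four_std [Fintype F] (hk : k.Good) {i : F} (hi : i * i = -1) {a b c d : V}
    (ea : (CfsgLib.Classical.SLFour.SympFour.std i hi).a = X a) (eb : (CfsgLib.Classical.SLFour.SympFour.std i hi).b = X b)
    (ec : (CfsgLib.Classical.SLFour.SympFour.std i hi).c = i • X c)
    (ed : (CfsgLib.Classical.SLFour.SympFour.std i hi).d = i • X d)
    (P : Subgroup (GL (Fin 4) F)) (hP : P ≤ k.amb 4)
    (hc : ∀ g ∈ k.amb 4, (∃ L, Act X (g : Matrix (Fin 4) (Fin 4) F) L) → g ∈ P) :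
    P = k.amb 4 ∨ ∀ g ∈ P, ∃ L, Act X (g : Matrix (Fin 4) (Fin 4) F) L := by
  classical
  obtain ⟨hp, h2, -⟩ := k.good_facts hk
  have h4 : i ^ 4 = 1 := by linear_combination (i * i - 1) * hi
  obtain ⟨R, hR⟩ : ∃ R : Subgroup (GL (Fin 4) F), ∀ g, g ∈ R ↔
      ∃ (f : F) (v : V), f ^ 4 = 1 ∧ (g : Matrix (Fin 4) (Fin 4) F) = f • X v := by
    refine ⟨{ carrier := {g | ∃ (f : F) (v : V), f ^ 4 = 1 ∧ (g : Matrix (Fin 4) (Fin 4) F) = f • X v}
              one_mem' := ⟨1, 0, one_pow 4, by rw [Units.val_one, one_smul, hX.fm.one]⟩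
              mul_mem' := ?_, inv_mem' := ?_ }, fun g => Iff.rfl⟩
    · rintro g g' ⟨f, v, hf, eg⟩ ⟨f', v', hf', eg'⟩
      obtain ⟨m, hm, hm'⟩ := hX.fm.mul v v'
      refine ⟨f * (f' * m), v + v', ?_, ?_⟩
      · have hm4 : m ^ 4 = 1 := by
          obtain ⟨z, hz⟩ : ∃ z, z = s v v' := ⟨_, rfl⟩
          have e2 : X v * X v' * (X v * X v') = sg2 F z • (1 : Matrix (Fin 4) (Fin 4) F) := by
            calc X v * X v' * (X v * X v') = X v * (X v' * X v) * X v' := by simp only [Matrix.mul_assoc]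
              _ = _ := by
                rw [hX.fm.comm v' v, hX.fm.form.symm, ← hz, Matrix.mul_smul, Matrix.smul_mul, ← Matrix.mul_assoc,
                  hX.sq1, Matrix.one_mul, hX.sq1]
          rw [hm', Matrix.smul_mul, Matrix.mul_smul, smul_smul, hX.sq1] at e2
          have e3 := smul_left_injective F (one_ne_zero (α := Matrix (Fin 4) (Fin 4) F)) e2
          calc m ^ 4 = (m * m) ^ 2 := by ring
            _ = 1 := by rw [e3, pow_two, sg2_self]
        rw [mul_pow, mul_pow, hf, hf', hm4, one_mul, one_mul]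
      · rw [Units.val_mul, eg, eg', Matrix.smul_mul, Matrix.mul_smul, hm', smul_smul, smul_smul, mul_assoc]
    · rintro g ⟨f, v, hf, eg⟩
      have hf0 : f ≠ 0 := fun e0 => by simp [e0] at hf
      refine ⟨f⁻¹, v, by rw [inv_pow, hf, inv_one], g.isUnit.mul_left_cancel ?_⟩
      rw [Units.mul_inv, eg, Matrix.smul_mul, Matrix.mul_smul, smul_smul, mul_inv_cancel₀ hf0, hX.sq1, one_smul]
  have memR : ∀ (f : F) (v : V), f ^ 4 = 1 → f • X v ∈ matrixSet R := fun f v hf => by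
    have hd : (f • X v).det ≠ 0 := by
      have hf0 : f ≠ 0 := fun e0 => by simp [e0] at hf
      rw [det_smul, hX.det_eq_one hk (dvd_refl 4), mul_one]
      exact pow_ne_zero _ hf0
    exact ⟨GeneralLinearGroup.mkOfDetNeZero _ hd, (hR _).2 ⟨f, v, hf, rfl⟩, rfl⟩
  have hS : Pauli.Spans (CfsgLib.Classical.SLFour.SympFour.std i hi) R := by
    refine Pauli.spans_of_mem h2 (Fintype.card_fin 4) _ ?_ ?_ ?_ ?_ ?_
    · rw [ea, ← one_smul F (X a)]; exact memR _ _ (one_pow 4)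
    · rw [eb, ← one_smul F (X b)]; exact memR _ _ (one_pow 4)
    · rw [ec]; exact memR _ _ h4
    · rw [ed]; exact memR _ _ h4
    · rintro _ ⟨g, hg, rfl⟩ _ ⟨g', hg', rfl⟩
      obtain ⟨f, v, -, eg⟩ := (hR g).1 hg
      obtain ⟨f', v', -, eg'⟩ := (hR g').1 hg'
      simp only [eg, eg', Matrix.smul_mul, Matrix.mul_smul, smul_smul]
      rcases z2 (s v' v) with e0 | e0
      · left
        rw [hX.comm0 e0, mul_comm f' f]
      · right
        rw [hX.anti e0, mul_comm f' f, smul_neg, neg_neg]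
  have hneg : (-1 : Matrix (Fin 4) (Fin 4) F) ∈ matrixSet R := by
    rw [← hX.fm.one, ← neg_one_smul F (X 0)]
    exact memR _ _ (by ring)
  have him : i • (1 : Matrix (Fin 4) (Fin 4) F) ∈ matrixSet R := by
    rw [← hX.fm.one]; exact memR _ _ h4
  have hexp : ∀ g ∈ R, g ^ 4 = 1 := fun g hg => by
    obtain ⟨f, v, hf, eg⟩ := (hR g).1 hg
    refine Units.ext ?_
    rw [Units.val_pow_eq_pow_val, eg, smul_pow, hf, one_smul, Units.val_one]
    simp [pow_succ, Matrix.mul_assoc, hX.sq1]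
  have memN : ∀ g : GL (Fin 4) F, g ∈ subgroupNormalizer R ↔ ∃ L, Act X (g : Matrix (Fin 4) (Fin 4) F) L := by
    intro g
    rw [Cfsg.Geo.subgroupNormalizer, Subgroup.mem_normalizer_iff]
    constructor
    · intro hg
      have : ∀ v, ∃ (u : V) (f : F), (g : Matrix (Fin 4) (Fin 4) F) * X v = f • (X u * g) := fun v => by
        obtain ⟨r, hr, er⟩ := memR 1 v (one_pow 4)
        obtain ⟨f, u, -, eu⟩ := (hR _).1 ((hg r).1 hr)
        refine ⟨u, f, ?_⟩
        rw [Units.val_mul, Units.val_mul, show (r : Matrix (Fin 4) (Fin 4) F) = X v by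
          simpa using er] at eu
        rw [← Matrix.smul_mul, ← eu, Matrix.mul_assoc _ _ (g : Matrix (Fin 4) (Fin 4) F), Units.inv_mul, Matrix.mul_one]
      choose L f hL using this
      exact ⟨L, fun v => ⟨f v, hL v⟩⟩
    · rintro ⟨L, hL⟩
      have key : ∀ (g : GL (Fin 4) F) (L : V → V), Act X (g : Matrix (Fin 4) (Fin 4) F) L → ∀ r ∈ R, g * r * g⁻¹ ∈ R := by
        intro g L hL r hr
        obtain ⟨f, v, hf, er⟩ := (hR r).1 hr
        obtain ⟨q, hq⟩ := hL v
        refine (hR _).2 ⟨f * q, L v, by rw [mul_pow, hf, hX.fm.act_pow_four g.isUnit hq, one_mul], ?_⟩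
        rw [Units.val_mul, Units.val_mul, er, Matrix.mul_smul, hq, smul_smul, Matrix.smul_mul, Matrix.mul_assoc,
          Units.mul_inv, Matrix.mul_one]
      obtain ⟨L', hL', -⟩ := hX.fm.act_inv g.mul_inv g.inv_mul hL
      refine fun r => ⟨key g L hL r, fun hr => ?_⟩
      have := key g⁻¹ L' hL' _ hr
      rwa [inv_inv, ← mul_assoc, ← mul_assoc, inv_mul_cancel, one_mul, inv_mul_cancel_right] at this
  have fin : ∀ S : Subgroup (GL (Fin 4) F),
      Cfsg.Geo.IsMaximalIn (k.amb 4) S → (∀ g ∈ S, g ∈ k.amb 4 ∧ ∃ L, Act X (g : Matrix (Fin 4) (Fin 4) F) L) →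
      (∀ g ∈ S, g ∈ P) → P = k.amb 4 ∨ ∀ g ∈ P, ∃ L, Act X (g : Matrix (Fin 4) (Fin 4) F) L := by
    intro S hS hS1 hS2
    rcases hS.2 P hS2 hP with h1 | h1
    · exact Or.inr fun g hg => (hS1 g (h1 ▸ hg)).2
    · exact Or.inl h1
  cases k with
  | lin =>
    obtain ⟨-, hcard, hp4⟩ := hk
    haveI : Fact p.Prime := ⟨hp⟩
    haveI : CharP F p := charP_of_card_eq_prime hcard
    have h3 : (3 : F) ≠ 0 := fun e0 => by
      have := Nat.le_of_dvd (by norm_num) ((CharP.cast_eq_zero_iff F p 3).1 (by exact_mod_cast e0))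
      have := hp.two_le
      omega
    have hmax := CfsgLib.Classical.SLFour.SympFour.isMaximalIn_std
      (by rw [Nat.card_eq_fintype_card, hcard]; exact hp) h2 h3 hi hS hneg him hexp
    rw [← Kd.amb_lin (p := p)] at hmax
    exact fin _ hmax (fun g hg => ⟨hg.2, (memN g).1 hg.1⟩) fun g hg => hc g hg.2 ((memN g).1 hg.1)
  | unit K =>
    obtain ⟨-, hcard, hp4⟩ := hk
    have hRU : R ≤ Cfsg.GU 4 F p := fun g hg => by
      obtain ⟨f, v, hf, eg⟩ := (hR g).1 hg
      rw [Pauli.mem_GU K, eg, Pauli.adj_smul, Matrix.smul_mul, Matrix.mul_smul, smul_smul, K.bar_apply, ← pow_succ,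
        show p + 1 = 4 * (p / 4 + 1) by omega, pow_mul, hf, one_pow, one_smul]
      exact hX.uni v
    have hmax := CfsgLib.Classical.HermFour.Symp.isMaximalIn_std hp hp4 hcard hi hRU hS hneg him hexp
    rw [← Kd.amb_unit K] at hmax
    exact fin _ hmax (fun g hg => ⟨hg.2, (memN g).1 hg.1⟩) fun g hg => hc g hg.2 ((memN g).1 hg.1)

end Nice

/-- The dichotomy on four points. -/
theorem dich_four [Fintype F] {k : Kd F p} (hk : k.Good) : Dich k 4 := by
  intro V _ s X hX P hP hc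
  obtain ⟨hp, h2, i, hi, hbar⟩ := k.good_facts hk
  obtain ⟨f, a, b, c, d, ea, eb, ec, ed⟩ := hX.exists_frame4 hi
  obtain ⟨Q, hQu, hQ⟩ : ∃ Q : GL (Fin 4) F, k.Uni (Q : Matrix (Fin 4) (Fin 4) F) ∧
      ∀ v, f.M v * (Q : Matrix (Fin 4) (Fin 4) F) =
        (Q : Matrix (Fin 4) (Fin 4) F) * (CfsgLib.Classical.SLFour.SympFour.std i hi).M v := by
    cases k with
    | lin =>
      obtain ⟨Q, hQ⟩ := CfsgLib.Classical.SLFour.SympFour.exists_basis h2 f hi
      exact ⟨Q, trivial, hQ⟩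
    | unit K =>
      have hiq : i ^ p = -i := by rw [← K.bar_apply]; exact hbar K rfl
      have hui : ∀ {A : Matrix (Fin 4) (Fin 4) F}, (Kd.unit K).Uni A → (Kd.unit K).Uni (i • A) := fun {A} hA => by
        show Pauli.adj K (i • A) * (i • A) = 1
        rw [Pauli.adj_smul, Matrix.smul_mul, Matrix.mul_smul, smul_smul, hbar K rfl, neg_mul, hi, neg_neg, one_smul]
        exact hA
      have hfM : ∀ v, (Kd.unit K).Uni (f.M v) := fun v => by
        have pw : ∀ {A : Matrix (Fin 4) (Fin 4) F}, (Kd.unit K).Uni A → ∀ j : ℕ, (Kd.unit K).Uni (A ^ j) := by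
          intro A hA j
          induction j with
          | zero => rw [pow_zero]; exact Kd.uni_one _
          | succ j ih => rw [pow_succ]; exact Kd.uni_mul _ ih hA
        refine Kd.uni_mul _ (Kd.uni_mul _ (pw ?_ _) (pw ?_ _)) (Kd.uni_mul _ (pw ?_ _) (pw ?_ _))
        · rw [ea]; exact hX.uni a
        · rw [eb]; exact hX.uni b
        · rw [ec]; exact hui (hX.uni c)
        · rw [ed]; exact hui (hX.uni d)
      obtain ⟨Q, hQU, hQ⟩ := CfsgLib.Classical.HermFour.Symp.exists_unitary_basis K h2 f hi hiq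
        fun v x y => Pauli.h_iso K (hfM v) x y
      exact ⟨Q, (Pauli.mem_GU K).1 hQU, hQ⟩
  have gen : ∀ {A S : Matrix (Fin 4) (Fin 4) F}, A * (Q : Matrix (Fin 4) (Fin 4) F) = (Q : Matrix (Fin 4) (Fin 4) F) * S →
      S = ((Q⁻¹ : GL (Fin 4) F) : Matrix (Fin 4) (Fin 4) F) * A * (Q : Matrix (Fin 4) (Fin 4) F) := fun {A S} h => by
    rw [Matrix.mul_assoc, h, ← Matrix.mul_assoc, Units.inv_mul, Matrix.one_mul]
  refine dich_conj (s := s) (X := X) hQu Q.mul_inv (fun P' hP' hc' => ?_) P hP hc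
  refine (hX.conj hQu Q.mul_inv).four_std hk hi (a := a) (b := b) (c := c) (d := d) ?_ ?_ ?_ ?_ P' hP' hc'
  · exact gen (by rw [← ea, f.a_eq, (CfsgLib.Classical.SLFour.SympFour.std i hi).a_eq]; exact hQ _)
  · exact gen (by rw [← eb, f.b_eq, (CfsgLib.Classical.SLFour.SympFour.std i hi).b_eq]; exact hQ _)
  · rw [← Matrix.smul_mul, ← Matrix.mul_smul, ← ec]
    exact gen (by rw [f.c_eq, (CfsgLib.Classical.SLFour.SympFour.std i hi).c_eq]; exact hQ _)
  · rw [← Matrix.smul_mul, ← Matrix.mul_smul, ← ed]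
    exact gen (by rw [f.d_eq, (CfsgLib.Classical.SLFour.SympFour.std i hi).d_eq]; exact hQ _)

/-- The dichotomy on every power of two from four. -/
theorem dich_two_pow [Fintype F] {k : Kd F p} (hk : k.Good) : ∀ j, 2 ≤ j → Dich k (2 ^ j) := by
  intro j hj
  induction j, hj using Nat.le_induction with
  | base => exact dich_four hk
  | succ j hj ih =>
    rw [pow_succ, mul_comm]
    refine dich_step hk ?_ (by positivity) ih
    obtain ⟨t, rfl⟩ : ∃ t, j = 2 + t := ⟨j - 2, by omega⟩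
    exact ⟨2 ^ t, by rw [pow_add]; norm_num⟩

end CfsgLib.QubitMax
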