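import Cfsg.Agent.Lib.EightMax.Form

/-!
Groups with an elementary abelian subgroup normal in a subgroup that induces pairs of transvections on it: the
vectors whose transvections may occur are singled out by a predicate, so that symplectic and orthogonal groups are
covered at once.
-/

set_option autoImplicit false
set_option linter.unusedSectionVars false

namespace CfsgLib.QubitMax

open CfsgLib.EightMax (Sform Isom tr tr_one tr_zero z2)

variable {G : Type*} [Group G] {V : Type*} [AddCommGroup V]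

/-- `n` moves the vectors as `L` prescribes. -/
def Cj (W : V → G) (n : G) (L : V → V) : Prop := ∀ v, n * W v * n⁻¹ = W (L v)

theorem Cj.mul {W : V → G} {m n : G} {L K : V → V} (hm : Cj W m L) (hn : Cj W n K) : Cj W (m * n) (L ∘ K) := by
  intro v
  rw [Function.comp_apply, ← hm, ← hn]
  group

theorem cj_one (W : V → G) : Cj W 1 id := fun v => by simp

/-- A vector whose class meets the fixed vectors of every two-group of the subgroup. -/
def Full (W : V → G) (N : Subgroup G) (v : V) : Prop :=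
  v ≠ 0 ∧ ∀ P : Subgroup G, IsPGroup 2 P → P ≤ N →
    ∃ u, u ≠ 0 ∧ (∀ x ∈ P, x * W u = W u * x) ∧ ∃ n ∈ N, n * W u * n⁻¹ = W v

/-- The setting of the fusion argument. -/
structure Fr (s : V → V → ZMod 2) (ns : V → Prop) (W : V → G) (N : Subgroup G) : Prop where
  form : Sform s
  hom : ∀ a b, W (a + b) = W a * W b
  inj : ∀ a, W a = 1 → a = 0
  memN : ∀ a, W a ∈ N
  act : ∀ n ∈ N, ∃ L : V → V, Cj W n L ∧ (∀ a b, s (L a) (L b) = s a b) ∧ ∀ a, ns a → ns (L a)
  ker : ∀ n ∈ N, Cj W n id → ∃ v, n = W v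
  lift : ∀ a b, ns a → ns b → ∃ n ∈ N, Cj W n (tr s a ∘ tr s b)
  cent : ∀ v, v ≠ 0 → ∀ g, g * W v * g⁻¹ = W v → g ∈ N
  fuse : ∀ (g : G) (u u' : V), u ≠ 0 → g * W u * g⁻¹ = W u' → ∃ n ∈ N, n * W u' * n⁻¹ = W u
  ns_or : ∀ a b w, s w (a + b) = 1 → ns a ∨ ns b ∨ ns (a + w) ∨ ns (b + w)
  full : ∀ A : AddSubgroup V, 8 ≤ Nat.card A → ∃ v ∈ A, Full W N v
  big : 64 ≤ Nat.card V

namespace Fr

variable {s : V → V → ZMod 2} {ns : V → Prop} {W : V → G} {N : Subgroup G} (F : Fr s ns W N)
include F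

theorem finite : Finite V := Nat.finite_of_card_ne_zero (by have := F.big; omega)

theorem zero : W 0 = 1 := by
  have := F.hom 0 0
  rw [add_zero] at this
  exact mul_eq_left.1 this.symm

theorem sq (a : V) : W a * W a = 1 := by rw [← F.hom, F.form.two, F.zero]

theorem inv (a : V) : (W a)⁻¹ = W a := inv_eq_of_mul_eq_one_right (F.sq a)

theorem comm (a b : V) : W a * W b = W b * W a := by rw [← F.hom, add_comm, F.hom]

theorem inj' {a b : V} (e : W a = W b) : a = b :=
  F.form.eq_of_add_eq_zero (F.inj _ (by rw [F.hom, e, F.sq]))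

theorem conj_W (a b : V) : W a * W b * (W a)⁻¹ = W b := by rw [F.inv, F.comm a b, mul_assoc, F.sq, mul_one]

theorem cj_W (a : V) : Cj W (W a) id := F.conj_W a

theorem cj_uniq {n : G} {L K : V → V} (hL : Cj W n L) (hK : Cj W n K) : L = K :=
  funext fun v => F.inj' ((hL v).symm.trans (hK v))

theorem cj_isom {n : G} (hn : n ∈ N) {L : V → V} (hL : Cj W n L) : Isom s L := by
  obtain ⟨K, hK, hs, -⟩ := F.act n hn
  obtain rfl := F.cj_uniq hL hK
  refine ⟨fun a b => F.inj' ?_, hs⟩
  rw [F.hom, ← hL, ← hL, ← hL, F.hom]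
  group

theorem cj_ns {n : G} (hn : n ∈ N) {L : V → V} (hL : Cj W n L) {a : V} (ha : ns a) : ns (L a) := by
  obtain ⟨K, hK, -, hns⟩ := F.act n hn
  obtain rfl := F.cj_uniq hL hK
  exact hns a ha

theorem cj_comm_W {n : G} {L : V → V} (hL : Cj W n L) (v : V) : n * W v = W (L v) * n := by
  rw [← hL, inv_mul_cancel_right]

theorem commute_iff {n : G} {L : V → V} (hL : Cj W n L) (v : V) : n * W v = W v * n ↔ L v = v := by
  constructor
  · intro e
    refine F.inj' ?_
    rw [← hL, e, mul_inv_cancel_right]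
  · intro e
    rw [F.cj_comm_W hL, e]

/-- An element of order two moves the vectors by an involution. -/
theorem cj_invol {n : G} (h2 : n * n = 1) {L : V → V} (hL : Cj W n L) (v : V) : L (L v) = v :=
  congrFun (F.cj_uniq (hL.mul hL) (show Cj W (n * n) id by rw [h2]; exact cj_one W)) v

/-- Moving a vector to a vector by conjugation puts the element inside. -/
theorem cross {q : G} {u u' : V} (hu : u ≠ 0) (e : q * W u * q⁻¹ = W u') : q ∈ N := by
  obtain ⟨n, hn, en⟩ := F.fuse q u u' hu e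
  have := F.cent u hu (n * q) (by
    rw [← e] at en
    calc n * q * W u * (n * q)⁻¹ = n * (q * W u * q⁻¹) * n⁻¹ := by group
      _ = W u := en)
  have := mul_mem (inv_mem hn) this
  rwa [inv_mul_cancel_left] at this

/-- The vectors fixed by a map. -/
def fixGrp {L : V → V} (hL : Isom s L) : AddSubgroup V where
  carrier := {v | L v = v}
  add_mem' {a b} ha hb := by show L (a + b) = a + b; rw [hL.add, ha, hb]
  zero_mem' := by
    show L 0 = 0
    have := hL.add 0 0
    rw [add_zero] at this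
    exact left_eq_add.1 this
  neg_mem' {a} ha := by rw [F.form.neg_eq]; exact ha

/-- The twisting group as a subgroup. -/
def vecs (A : AddSubgroup V) : Subgroup G where
  carrier := {x | ∃ v ∈ A, x = W v}
  one_mem' := ⟨0, A.zero_mem, F.zero.symm⟩
  mul_mem' := by rintro _ _ ⟨a, ha, rfl⟩ ⟨b, hb, rfl⟩; exact ⟨a + b, A.add_mem ha hb, (F.hom a b).symm⟩
  inv_mem' := by rintro _ ⟨a, ha, rfl⟩; exact ⟨a, ha, F.inv a⟩

theorem vecs_le (A : AddSubgroup V) : F.vecs A ≤ N := by rintro _ ⟨v, -, rfl⟩; exact F.memN v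

theorem vecs_pgroup (A : AddSubgroup V) : IsPGroup 2 (F.vecs A) := by
  rintro ⟨_, a, ha, rfl⟩
  exact ⟨1, Subtype.ext (by simp [pow_two, F.sq])⟩

theorem le_normalizer_vecs {H : Subgroup G} (hH : H ≤ N) (A : AddSubgroup V)
    (hA : ∀ n ∈ H, ∀ L, Cj W n L → ∀ v ∈ A, L v ∈ A) : H ≤ Subgroup.normalizer (F.vecs A : Set G) := by
  have key : ∀ n ∈ H, ∀ x ∈ F.vecs A, n * x * n⁻¹ ∈ F.vecs A := by
    rintro n hn _ ⟨v, hv, rfl⟩
    obtain ⟨L, hL, -⟩ := F.act n (hH hn)
    exact ⟨L v, hA n hn L hL v hv, hL v⟩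
  intro n hn
  rw [Subgroup.mem_normalizer_iff]
  intro x
  refine ⟨key n hn x, fun hx => ?_⟩
  have := key n⁻¹ (inv_mem hn) _ hx
  rwa [show n⁻¹ * (n * x * n⁻¹) * n⁻¹⁻¹ = x by group] at this

end Fr

/-- The vectors orthogonal to a subgroup. -/
def perp {s : V → V → ZMod 2} (h : Sform s) (A : AddSubgroup V) : AddSubgroup V where
  carrier := {x | ∀ w ∈ A, s x w = 0}
  add_mem' {a b} ha hb w hw := by rw [h.add_left, ha w hw, hb w hw, add_zero]
  zero_mem' w _ := h.zero_left w
  neg_mem' {a} ha := by rw [h.neg_eq]; exact ha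

/-- A subgroup and the vectors orthogonal to it. -/
theorem card_perp [Finite V] {s : V → V → ZMod 2} (h : Sform s) (A : AddSubgroup V) :
    Nat.card A * Nat.card (perp h A) = Nat.card V := by
  classical
  haveI := Fintype.ofFinite V
  let e : ZMod 2 → ℤ := fun z => if z = 0 then 1 else -1
  have eadd : ∀ a b, e (a + b) = e a * e b := by decide
  have cancel : ∀ (S : Finset V) (f : V → ZMod 2) (y : V), y ∈ S → (∀ x ∈ S, x + y ∈ S) →
      (∀ x, f (x + y) = f x + f y) → f y = 1 → ∑ x ∈ S, e (f x) = 0 := by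
    intro S f y hy hS hf hfy
    refine Finset.sum_involution (fun x _ => x + y) (fun x _ => ?_) (fun x _ _ => ?_) (fun x hx => hS x hx)
      fun x _ => h.add_add_cancel x y
    · rw [hf, hfy, eadd, show e 1 = -1 from rfl]; ring
    · intro e0
      have h0 : f (x + y) = f x + 1 := by rw [hf, hfy]
      rw [e0] at h0
      exact absurd (left_eq_add.1 h0) (by decide)
  obtain ⟨T, hT⟩ : ∃ T : ℤ, T = ∑ x : V, ∑ w ∈ Finset.univ.filter (· ∈ A), e (s x w) := ⟨_, rfl⟩
  have h1 : T = Nat.card V := by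
    rw [hT, Finset.sum_comm, Finset.sum_eq_single (0 : V)]
    · simp [h.zero_right, e, Nat.card_eq_fintype_card]
    · intro w _ hw
      obtain ⟨y, hy⟩ := h.exists_one hw
      exact cancel Finset.univ _ y (Finset.mem_univ _) (fun _ _ => Finset.mem_univ _)
        (fun x => h.add_left x y w) (by rw [h.symm, hy])
    · intro hh
      exact absurd (Finset.mem_filter.2 ⟨Finset.mem_univ (0 : V), A.zero_mem⟩) hh
  have h2 : ∀ x : V, (∑ w ∈ Finset.univ.filter (· ∈ A), e (s x w)) = if x ∈ perp h A then (Nat.card A : ℤ) else 0 := by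
    intro x
    split_ifs with hx
    · rw [Finset.sum_eq_card_nsmul (b := 1) fun w hw => by
        show e (s x w) = 1
        rw [hx w (Finset.mem_filter.1 hw).2]; rfl]
      simp [Nat.card_eq_fintype_card, Fintype.card_subtype]
    · obtain ⟨y, hy, hxy⟩ : ∃ y ∈ A, s x y = 1 := by
        by_contra hno
        exact hx fun w hw => (z2 _).resolve_right fun e1 => hno ⟨w, hw, e1⟩
      refine cancel _ _ y (Finset.mem_filter.2 ⟨Finset.mem_univ _, hy⟩) (fun w hw => ?_) (fun w => h.add_right x w y) hxy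
      exact Finset.mem_filter.2 ⟨Finset.mem_univ _, A.add_mem (Finset.mem_filter.1 hw).2 hy⟩
  have h3 : T = (Nat.card A : ℤ) * Nat.card (perp h A) := by
    rw [hT, Finset.sum_congr rfl fun x _ => h2 x, Finset.sum_ite, Finset.sum_const, Finset.sum_const_zero, add_zero,
      nsmul_eq_mul, Nat.card_eq_fintype_card (α := perp h A), Fintype.card_subtype, mul_comm]
  exact_mod_cast h3.symm.trans h1

end CfsgLib.QubitMax
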