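import Cfsg.Agent.Lib.QubitMax.Cent

/-!
Matrices commuting with a member of a frame move the orthogonal vectors separately in the two halves.
-/

set_option autoImplicit false
set_option linter.unusedSectionVars false

namespace CfsgLib.QubitMax

open Matrix
open CfsgLib.EightMax (Sform Isom tr tr_one tr_zero z2 sg2 sg2_zero sg2_one sg2_self sg2_ne sg2_add sg2_inj exists_sg2)

variable {F : Type*} [Field F] {ι : Type*} [Fintype ι] [DecidableEq ι] [Nonempty ι]
variable {V : Type*} [AddCommGroup V]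

/-- The projection to the eigenspace of value one of `γ • X x`. -/
def hf (X : V → Matrix ι ι F) (x : V) (γ : F) : Matrix ι ι F := (2 : F)⁻¹ • (1 + γ • X x)

/-- `A` takes `w` to `u` in a half. -/
def Hr (X : V → Matrix ι ι F) (P A : Matrix ι ι F) (w u : V) : Prop :=
  ∃ c : F, c ≠ 0 ∧ P * (A * X w) = c • (P * (X u * A))

theorem Hr.comp {X : V → Matrix ι ι F} {P A B : Matrix ι ι F} (hA : P * A = A * P) {w u u' : V}
    (h1 : Hr X P B w u) (h2 : Hr X P A u u') : Hr X P (A * B) w u' := by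
  obtain ⟨c, hc, e⟩ := h1
  obtain ⟨d, hd, e'⟩ := h2
  refine ⟨c * d, mul_ne_zero hc hd, ?_⟩
  calc P * (A * B * X w) = A * (P * (B * X w)) := by rw [← Matrix.mul_assoc A P, ← hA]; simp only [Matrix.mul_assoc]
    _ = c • (A * (P * (X u * B))) := by rw [e, Matrix.mul_smul]
    _ = c • (P * (A * X u) * B) := by rw [← Matrix.mul_assoc A P, ← hA]; simp only [Matrix.mul_assoc]
    _ = (c * d) • (P * (X u' * (A * B))) := by rw [e', Matrix.smul_mul, smul_smul]; simp only [Matrix.mul_assoc]

theorem hr_of_act {X : V → Matrix ι ι F} (P : Matrix ι ι F) {A : Matrix ι ι F} {w u : V} {c : F} (hc : c ≠ 0)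
    (e : A * X w = c • (X u * A)) : Hr X P A w u := ⟨c, hc, by rw [e, Matrix.mul_smul]⟩

/-- A member squaring to one after scaling by `γ`. -/
structure Side (s : V → V → ZMod 2) (X : V → Matrix ι ι F) (x : V) (γ : F) : Prop where
  fm : Fm s X
  x0 : x ≠ 0
  g0 : γ ≠ 0
  sq : (γ • X x) * (γ • X x) = 1

theorem Side.neg {s : V → V → ZMod 2} {X : V → Matrix ι ι F} {x : V} {γ : F} (h : Side s X x γ) :
    Side s X x (-γ) :=
  ⟨h.fm, h.x0, neg_ne_zero.2 h.g0, by rw [neg_smul, Matrix.neg_mul, Matrix.mul_neg, neg_neg, h.sq]⟩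

namespace Side

variable {s : V → V → ZMod 2} {X : V → Matrix ι ι F} {x : V} {γ : F} (h : Side s X x γ)
include h

theorem hf_sq : hf X x γ * hf X x γ = hf X x γ := by
  have e : (1 + γ • X x) * (1 + γ • X x) = (2 : F) • (1 + γ • X x) := by
    rw [Matrix.add_mul, Matrix.one_mul, Matrix.mul_add, Matrix.mul_one, h.sq, two_smul]
    abel
  rw [hf, Matrix.smul_mul, Matrix.mul_smul, e, smul_smul ((2 : F)⁻¹) 2, inv_mul_cancel₀ h.fm.two, one_smul]

theorem hf_add : hf X x γ + hf X x (-γ) = 1 := by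
  rw [hf, hf, ← smul_add, show 1 + γ • X x + (1 + -γ • X x) = (2 : F) • (1 : Matrix ι ι F) by module, smul_smul,
    inv_mul_cancel₀ h.fm.two, one_smul]

theorem hf_comm {A : Matrix ι ι F} (hA : A * X x = X x * A) : hf X x γ * A = A * hf X x γ := by
  rw [hf, Matrix.smul_mul, Matrix.mul_smul, Matrix.add_mul, Matrix.mul_add, Matrix.one_mul, Matrix.mul_one,
    Matrix.smul_mul, Matrix.mul_smul, hA]

theorem comm_X {w : V} (hw : s w x = 0) : X w * X x = X x * X w := by
  rw [h.fm.comm w x, hw, sg2_zero, one_smul]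

theorem hf_X {w : V} (hw : s w x = 0) : hf X x γ * X w = X w * hf X x γ := h.hf_comm (h.comm_X hw)

theorem hf_mul_x : hf X x γ * X x = γ⁻¹ • hf X x γ := by
  have e : (γ • X x) * hf X x γ = hf X x γ := by
    rw [hf, Matrix.mul_smul, Matrix.mul_add, Matrix.mul_one, h.sq, add_comm]
  rw [h.hf_comm rfl]
  calc X x * hf X x γ = γ⁻¹ • ((γ • X x) * hf X x γ) := by
        rw [Matrix.smul_mul, smul_smul, inv_mul_cancel₀ h.g0, one_smul]
    _ = _ := by rw [e]

theorem hf_ne : hf X x γ ≠ 0 := fun e => by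
  rw [hf, smul_eq_zero, or_iff_right (inv_ne_zero h.fm.two), add_eq_zero_iff_eq_neg, ← neg_smul, ← h.fm.one] at e
  exact h.x0 (h.fm.inj e).symm

/-- Shifting by `x` does not matter in a half. -/
theorem hr_shift {A : Matrix ι ι F} (hA : A * X x = X x * A) {w u : V} (hu : s u x = 0)
    (hr : Hr X (hf X x γ) A w u) : Hr X (hf X x γ) A w (u + x) := by
  obtain ⟨c, hc, e⟩ := hr
  obtain ⟨d, hd, hd'⟩ := h.fm.mul u x
  refine ⟨c * γ * d⁻¹⁻¹, by rw [inv_inv]; exact mul_ne_zero (mul_ne_zero hc h.g0) hd, ?_⟩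
  rw [e, inv_inv]
  have e1 : hf X x γ * (X (u + x) * A) = (d⁻¹ * γ⁻¹) • (hf X x γ * (X u * A)) := by
    calc hf X x γ * (X (u + x) * A) = d⁻¹ • (hf X x γ * (X x * X u) * A) := by
          rw [← h.comm_X hu, hd', Matrix.mul_smul, Matrix.smul_mul, smul_smul, inv_mul_cancel₀ hd, one_smul,
            Matrix.mul_assoc]
      _ = _ := by rw [← Matrix.mul_assoc (hf X x γ), h.hf_mul_x, Matrix.smul_mul, Matrix.smul_mul, smul_smul,
            Matrix.mul_assoc]
  rw [e1, smul_smul]
  congr 1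
  field_simp [hd, h.g0]

theorem hf_mul_eq_zero {u u' : V} {a b : F} (e : hf X x γ * (a • X u + b • X u') = 0) (ha : a ≠ 0)
    (hu : s u x = 0) : u + u' = 0 ∨ u + u' = x := by
  classical
  haveI := h.fm.finite
  haveI := Fintype.ofFinite V
  obtain ⟨d, hd, hdd⟩ := h.fm.mul x u
  obtain ⟨d', -, hdd'⟩ := h.fm.mul x u'
  by_contra hno
  push Not at hno
  have n1 : u ≠ u' := fun e0 => hno.1 (by rw [e0, h.fm.form.two])
  have n2 : u ≠ x + u' := fun e0 => hno.2 (by rw [e0, h.fm.form.add_add_cancel])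
  have n3 : u ≠ x + u := fun e0 => h.x0 (right_eq_add.1 e0)
  have := h.fm.coeff_zero (a := fun z => ((if z = u then a else 0) + if z = u' then b else 0) +
    ((if z = x + u then γ * a * d else 0) + if z = x + u' then γ * b * d' else 0)) (by
      rw [hf, Matrix.smul_mul, smul_eq_zero, or_iff_right (inv_ne_zero h.fm.two), Matrix.add_mul, Matrix.one_mul,
        Matrix.smul_mul, Matrix.mul_add, Matrix.mul_smul, Matrix.mul_smul, hdd, hdd', smul_add, smul_smul,
        smul_smul, smul_smul, smul_smul] at e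
      rw [← e]
      simp only [add_smul, ite_smul, zero_smul, Finset.sum_add_distrib, Finset.sum_ite_eq', Finset.mem_univ, if_true]) u
  simp only [if_true, if_neg n1, if_neg n2, if_neg n3, add_zero] at this
  exact ha this

/-- A half takes a vector to one class only. -/
theorem hr_uniq {A : Matrix ι ι F} (hu : IsUnit A) {w u u' : V} (hux : s u x = 0)
    (h1 : Hr X (hf X x γ) A w u) (h2 : Hr X (hf X x γ) A w u') : u + u' = 0 ∨ u + u' = x := by
  obtain ⟨c, hc, e⟩ := h1
  obtain ⟨d, -, e'⟩ := h2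
  refine h.hf_mul_eq_zero (a := c) (b := -d) ?_ hc hux
  refine hu.mul_left_injective ?_
  show hf X x γ * (c • X u + -d • X u') * A = 0 * A
  rw [Matrix.zero_mul, Matrix.mul_add, Matrix.mul_smul, Matrix.mul_smul, Matrix.add_mul, Matrix.smul_mul,
    Matrix.smul_mul, Matrix.mul_assoc, Matrix.mul_assoc, ← e, neg_smul, ← e', add_neg_cancel]

/-- The factor of a vector kept in a half is a sign. -/
theorem hr_sign {A : Matrix ι ι F} (hA : A * X x = X x * A) (hu : IsUnit A) {w : V} (hw : s w x = 0) {c : F}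
    (e : hf X x γ * (A * X w) = c • (hf X x γ * (X w * A))) : c * c = 1 := by
  obtain ⟨f, hf'⟩ := h.fm.sq w
  have hP := h.hf_X hw
  have e2 : hf X x γ * (A * (X w * X w)) = (c * c) • (hf X x γ * (X w * X w * A)) := by
    calc hf X x γ * (A * (X w * X w)) = hf X x γ * (A * X w) * X w := by simp only [Matrix.mul_assoc]
      _ = c • (X w * (hf X x γ * (A * X w))) := by
        conv_lhs => rw [e, Matrix.smul_mul, ← Matrix.mul_assoc (hf X x γ), hP]
        simp only [Matrix.mul_assoc]
      _ = (c * c) • (hf X x γ * (X w * X w * A)) := by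
        rw [e, Matrix.mul_smul, smul_smul, ← Matrix.mul_assoc (X w), ← hP]
        simp only [Matrix.mul_assoc]
  rw [hf', Matrix.mul_smul, Matrix.mul_one, Matrix.smul_mul, Matrix.one_mul, Matrix.mul_smul, smul_smul] at e2
  have hne : hf X x γ * A ≠ 0 := fun e0 =>
    h.hf_ne (hu.mul_left_injective (show hf X x γ * A = 0 * A by rw [e0, Matrix.zero_mul]))
  exact mul_right_cancel₀ (sg2_ne f) (by rw [← smul_left_injective F hne e2, one_mul])

end Side

end CfsgLib.QubitMax
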