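import Cfsg.Agent.Lib.QubitMax.SingKer

/-!
The centraliser of a member squaring to one moves the orthogonal members inside the frame.
-/

set_option autoImplicit false
set_option linter.unusedSectionVars false
set_option maxHeartbeats 1000000

namespace CfsgLib.QubitMax

open Matrix
open CfsgLib.EightMax (Sform Isom tr tr_one tr_zero z2 sg2 sg2_zero sg2_one sg2_self sg2_ne sg2_add sg2_inj exists_sg2)

variable {F : Type*} [Field F] [Finite F] {ι : Type*} [Fintype ι] [DecidableEq ι] [Nonempty ι]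
variable {V : Type*} [AddCommGroup V]

namespace Sng

variable {s : V → V → ZMod 2} {X : V → Matrix ι ι F} {q : V → ZMod 2} {M : Subgroup (GL ι F)} {x y : V}
  (H : Sng s X q M x y)
include H

/-- Conjugation keeps the frame of either half. -/
theorem conj_K0 {σ : F} (hσ : σ * σ = 1) {g : GL ι F} (hg : g ∈ M)
    (hgx : (g : Matrix ι ι F) * X x = X x * (g : Matrix ι ι F)) :
    ∀ k ∈ H.K0 hσ, g * k * g⁻¹ ∈ H.K0 hσ := by
  intro k hk
  have hgi : ((g⁻¹ : GL ι F) : Matrix ι ι F) * X x = X x * ((g⁻¹ : GL ι F) : Matrix ι ι F) :=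
    (Commute.units_inv_left (show Commute (g : Matrix ι ι F) (X x) from hgx)).eq
  refine H.Ks_le hσ ⟨mul_mem (mul_mem hg hk.1.1) (inv_mem hg), ?_, ?_⟩
  · have h1 : Commute (g : Matrix ι ι F) (X x) := hgx
    have h2 : Commute (k : Matrix ι ι F) (X x) := hk.1.2.1
    have h3 := (h1.mul_left h2).mul_left (show Commute ((g⁻¹ : GL ι F) : Matrix ι ι F) (X x) from hgi)
    simpa [Units.val_mul] using h3.eq
  · rw [Units.val_mul, Units.val_mul, ← Matrix.mul_assoc, ← Matrix.mul_assoc, (H.side hσ).hf_comm hgx,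
      Matrix.mul_assoc (g : Matrix ι ι F), hk.1.2.2, ← (H.side hσ).hf_comm hgx, Units.mul_inv_cancel_right]

/-- Both halves are moved by one isometry. -/
theorem exists_common {g : GL ι F} (hg : g ∈ M) (hgx : (g : Matrix ι ι F) * X x = X x * (g : Matrix ι ι F)) :
    ∃ L, H.Rm 1 (g : Matrix ι ι F) L ∧ H.Rm (-1) (g : Matrix ι ι F) L ∧
      ∀ a : H.Ws, q (L a : V) = q (a : V) := by
  classical
  haveI := H.qdW.finite
  have h1 : (1 : F) * 1 = 1 := one_mul 1
  have hm := neg_sq h1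
  obtain ⟨Lm, hLm, hLmi, hLmq⟩ := H.exists_map h1 hg hgx (H.conj_K0 h1 hg hgx)
  obtain ⟨Lp, hLp, hLpi, hLpq⟩ := H.exists_map hm hg hgx (H.conj_K0 hm hg hgx)
  rw [neg_neg] at hLp
  obtain ⟨Li, hLi⟩ : ∃ Li : H.Ws → H.Ws, ∀ a, Lp (Li a) = a :=
    Classical.axiomOfChoice (Finite.injective_iff_surjective.1 (H.qdW.isom_inj hLpi))
  obtain ⟨Mp, hMp⟩ : ∃ Mp, ∀ a, Mp a = Li (Lm a) := ⟨fun a => Li (Lm a), fun _ => rfl⟩
  have hLM : ∀ a, Lp (Mp a) = Lm a := fun a => by rw [hMp, hLi]
  have hMi : Isom (fun a b : H.Ws => s a b) Mp :=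
    ⟨fun a b => H.qdW.isom_inj hLpi (by rw [hLM, hLmi.add, hLpi.add, hLM, hLM]),
     fun a b => by rw [← hLpi.pres, hLM, hLM, hLmi.pres]⟩
  have hMq : ∀ a, q (Mp a : V) = q (a : V) := fun a => by rw [← hLpq (Mp a), hLM, hLmq]
  have hMid : Mp = id := by
    refine H.qdW.eq_id_of_comm hMi hMq fun a b ha hb hab hne v => ?_
    -- compare the two halves on a pair of transvections
    obtain ⟨T, hT, eT, hTx, hTr⟩ := H.pair_rm ha hb h1 h1
    obtain ⟨c, hc, e1⟩ := hLp a
    obtain ⟨c', hc', e2⟩ := hLp b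
    have hS := H.side h1
    have cc : ∀ {v u : H.Ws} {d : F}, q (v : V) = 1 → q (u : V) = 1 →
        hf X x 1 * ((g : Matrix ι ι F) * X v) = d • (hf X x 1 * (X u * (g : Matrix ι ι F))) → d * d = 1 := by
      intro v u d hv hu e
      obtain ⟨k, hk, ek⟩ := H.frame_K0 hm v.2 hv
      obtain ⟨d', u', hu', hd', ek', -⟩ := H.K0_form hm (H.conj_K0 hm hg hgx k hk)
      have hP := hS.hf_comm hgx
      have e3 : hf X x 1 * ((g : Matrix ι ι F) * X v) = d' • (hf X x 1 * (X u' * (g : Matrix ι ι F))) := by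
        have hmul := H.hf'_mul_kk hm (X v)
        rw [neg_neg] at hmul
        calc hf X x 1 * ((g : Matrix ι ι F) * X v)
            = (g : Matrix ι ι F) * (hf X x 1 * (k : Matrix ι ι F)) := by
              rw [ek, hmul, ← Matrix.mul_assoc, hP, Matrix.mul_assoc]
          _ = hf X x 1 * ((g * k * g⁻¹ : GL ι F) : Matrix ι ι F) * (g : Matrix ι ι F) := by
              rw [← Matrix.mul_assoc, ← hP, Units.val_mul, Units.val_mul,
                Matrix.mul_assoc _ (_ * _) (g : Matrix ι ι F), Units.inv_mul_cancel_right, Matrix.mul_assoc]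
          _ = _ := by
              have hmul' := H.hf'_mul_kk hm (d' • X u')
              rw [neg_neg] at hmul'
              rw [ek', hmul', Matrix.mul_smul, Matrix.smul_mul, Matrix.mul_assoc]
      have hd0 : d ≠ 0 := fun e0 => by
        rw [e0, zero_smul] at e
        exact hS.hf_ne ((g.isUnit.mul (H.base.fm.isUnit v)).mul_left_injective
          (show hf X x 1 * ((g : Matrix ι ι F) * X v) = 0 * ((g : Matrix ι ι F) * X v) by rw [e, Matrix.zero_mul]))
      have hux := (H.mem_Ws.1 u.2).1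
      have hu'x := (H.mem_Ws.1 hu').1
      have hd'0 : d' ≠ 0 := fun e0 => zero_ne_one (α := F) (by rw [← hd', e0, mul_zero])
      rcases hS.hr_uniq g.isUnit hux ⟨d, hd0, e⟩ ⟨d', hd'0, e3⟩ with e4 | e4
      · have hval : hf X x 1 * (X u * (g : Matrix ι ι F)) ≠ 0 := fun e0 => hS.hf_ne
          (((H.base.fm.isUnit u).mul g.isUnit).mul_left_injective
            (show hf X x 1 * (X u * (g : Matrix ι ι F)) = 0 * (X u * (g : Matrix ι ι F)) by rw [e0, Matrix.zero_mul]))
        rw [e, ← H.base.fm.form.eq_of_add_eq_zero e4] at e3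
        rw [smul_left_injective F hval e3, hd']
      · have : s ((u : V) + u') y = s x y := congrArg (fun v => s v y) e4
        rw [H.base.fm.form.add_left, (H.mem_Ws.1 u.2).2, (H.mem_Ws.1 hu').2, H.sxy] at this
        exact absurd this (by decide)
    have hca := cc ha (by rw [hLpq, ha]) e1
    have hcb := cc hb (by rw [hLpq, hb]) e2
    obtain ⟨T', hT', eT', hT'x, hT'r⟩ := H.pair_rm (a := Lp a) (b := Lp b) (by rw [hLpq, ha]) (by rw [hLpq, hb])
      hca hcb
    have key : hf X x 1 * ((g : Matrix ι ι F) * (T : Matrix ι ι F)) =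
        hf X x 1 * ((T' : Matrix ι ι F) * (g : Matrix ι ι F)) := by
      have hP := hS.hf_X (H.mem_Ws.1 (Lp a).2).1
      have e3 : hf X x 1 * ((g : Matrix ι ι F) * (X a * X b)) =
          (c * c') • (hf X x 1 * (X (Lp a) * X (Lp b) * (g : Matrix ι ι F))) := by
        calc hf X x 1 * ((g : Matrix ι ι F) * (X a * X b))
            = hf X x 1 * ((g : Matrix ι ι F) * X a) * X b := by simp only [Matrix.mul_assoc]
          _ = c • (X (Lp a) * (hf X x 1 * ((g : Matrix ι ι F) * X b))) := by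
              rw [e1, Matrix.smul_mul, ← Matrix.mul_assoc (hf X x 1), hP]
              simp only [Matrix.mul_assoc]
          _ = _ := by
              rw [e2, Matrix.mul_smul, smul_smul, ← Matrix.mul_assoc (X (Lp a : V)), ← hP]
              simp only [Matrix.mul_assoc]
      rw [eT, eT']
      simp only [one_smul, Matrix.mul_add, Matrix.add_mul, Matrix.one_mul, Matrix.mul_one, Matrix.mul_smul,
        Matrix.smul_mul, smul_smul, smul_add, e3, e1, e2]
      module
    obtain ⟨e0, he0⟩ : ∃ e0, e0 = g * T * g⁻¹ * T'⁻¹ := ⟨_, rfl⟩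
    have hgi : ((g⁻¹ : GL ι F) : Matrix ι ι F) * X x = X x * ((g⁻¹ : GL ι F) : Matrix ι ι F) :=
      (Commute.units_inv_left (show Commute (g : Matrix ι ι F) (X x) from hgx)).eq
    have hT'i : ((T'⁻¹ : GL ι F) : Matrix ι ι F) * X x = X x * ((T'⁻¹ : GL ι F) : Matrix ι ι F) :=
      (Commute.units_inv_left (show Commute (T' : Matrix ι ι F) (X x) from hT'x)).eq
    have hK : e0 ∈ H.Ks h1 := by
      rw [he0]
      refine ⟨mul_mem (mul_mem (mul_mem hg hT) (inv_mem hg)) (inv_mem hT'), ?_, ?_⟩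
      · have k1 : Commute (g : Matrix ι ι F) (X x) := hgx
        have k2 : Commute (T : Matrix ι ι F) (X x) := hTx
        have k3 : Commute ((g⁻¹ : GL ι F) : Matrix ι ι F) (X x) := hgi
        have k4 : Commute ((T'⁻¹ : GL ι F) : Matrix ι ι F) (X x) := hT'i
        simpa [Units.val_mul] using (((k1.mul_left k2).mul_left k3).mul_left k4).eq
      · rw [Units.val_mul, Units.val_mul, Units.val_mul, ← Matrix.mul_assoc, ← Matrix.mul_assoc, key,
          Matrix.mul_assoc, Matrix.mul_assoc, Matrix.mul_assoc, Units.mul_inv_cancel_left, ← Units.val_mul,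
          mul_inv_cancel, Units.val_one, Matrix.mul_one]
    have hker := (H.Ks_le h1 hK).2
    have eg : (g : Matrix ι ι F) * (T : Matrix ι ι F) =
        (e0 : Matrix ι ι F) * ((T' : Matrix ι ι F) * (g : Matrix ι ι F)) := by
      rw [← Units.val_mul, ← Units.val_mul, ← Units.val_mul, he0]
      congr 1
      group
    have heq := H.rm_uniq hm (A := (g : Matrix ι ι F) * (T : Matrix ι ι F)) (g.isUnit.mul T.isUnit)
      (H.rm_comp hm hgx hLm (hTr (-1)))
      (eg ▸ H.rm_comp hm hK.2.1 (L := id) (fun w => hker w w.2) (H.rm_comp hm hT'x (hT'r (-1)) hLm))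
    refine H.qdW.isom_inj hLpi ?_
    rw [H.qdW.tr_conj hLpi, H.qdW.tr_conj hLpi, hLM, hLM, H.qdW.tr_conj hLpi, H.qdW.tr_conj hLpi]
    obtain ⟨v', hv'⟩ := Finite.injective_iff_surjective.1 (H.qdW.isom_inj hLmi) (Lp v)
    have := congrFun heq v'
    simp only [Function.comp_apply, id] at this
    rw [H.qdW.tr_conj hLmi, H.qdW.tr_conj hLmi, hv'] at this
    exact this
  have e : Lm = Lp := funext fun a => by rw [← hLM, hMid, id]
  exact ⟨Lp, hLp, e ▸ hLm, hLpq⟩

/-- A vector orthogonal to `x` and `y` is moved inside the frame. -/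
theorem moves {g : GL ι F} (hg : g ∈ M) (hgx : (g : Matrix ι ι F) * X x = X x * (g : Matrix ι ι F)) {w : V}
    (hw : w ∈ H.Ws) : ∃ (u : V) (c : F), (g : Matrix ι ι F) * X w = c • (X u * (g : Matrix ι ι F)) := by
  obtain ⟨L, hp, hm, -⟩ := H.exists_common hg hgx
  have h1 : (1 : F) * 1 = 1 := one_mul 1
  have hS := H.side h1
  obtain ⟨c, hc, e⟩ := hp ⟨w, hw⟩
  obtain ⟨c', hc', e'⟩ := hm ⟨w, hw⟩
  obtain ⟨u, hu⟩ : ∃ u, u = ((L ⟨w, hw⟩ : H.Ws) : V) := ⟨_, rfl⟩
  rw [← hu] at e e'
  have hux : s u x = 0 := hu ▸ (H.mem_Ws.1 (L ⟨w, hw⟩).2).1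
  have hA := hS.both e e'
  have hc2 : c * c = c' * c' := by
    have sq : ∀ {τ d : F}, τ * τ = 1 → hf X x τ * ((g : Matrix ι ι F) * X w) =
        d • (hf X x τ * (X u * (g : Matrix ι ι F))) → sg2 F (q w) = d * d * sg2 F (q u) := by
      intro τ d hτ e
      have hP := (H.side hτ).hf_X hux
      have e2 : hf X x τ * ((g : Matrix ι ι F) * (X w * X w)) =
          (d * d) • (hf X x τ * (X u * X u * (g : Matrix ι ι F))) := by
        calc hf X x τ * ((g : Matrix ι ι F) * (X w * X w))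
            = hf X x τ * ((g : Matrix ι ι F) * X w) * X w := by simp only [Matrix.mul_assoc]
          _ = d • (X u * (hf X x τ * ((g : Matrix ι ι F) * X w))) := by
              conv_lhs => rw [e, Matrix.smul_mul, ← Matrix.mul_assoc (hf X x τ), hP]
              simp only [Matrix.mul_assoc]
          _ = _ := by
              rw [e, Matrix.mul_smul, smul_smul, ← Matrix.mul_assoc (X u), ← hP]
              simp only [Matrix.mul_assoc]
      simp only [H.hsq, Matrix.mul_smul, Matrix.mul_one, Matrix.smul_mul, Matrix.one_mul, smul_smul] at e2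
      refine smul_left_injective F (fun e0 => (H.side hτ).hf_ne (g.isUnit.mul_left_injective ?_)) e2
      show hf X x τ * (g : Matrix ι ι F) = 0 * (g : Matrix ι ι F)
      rw [e0, Matrix.zero_mul]
    exact mul_right_cancel₀ (sg2_ne (q u)) ((sq h1 e).symm.trans (sq (neg_sq h1) e'))
  rcases mul_self_eq_mul_self_iff.1 hc2 with rfl | h0
  · exact ⟨u, c, by rw [hA, ← smul_add, ← Matrix.add_mul, hS.hf_add, Matrix.one_mul, Matrix.smul_mul]⟩
  · obtain ⟨d, -, hd⟩ := H.base.fm.mul x u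
    refine ⟨x + u, c * d, ?_⟩
    rw [hA, h0, hf, hf, Matrix.smul_mul, Matrix.smul_mul, Matrix.add_mul (1 : Matrix ι ι F),
      Matrix.add_mul (1 : Matrix ι ι F), Matrix.smul_mul, Matrix.smul_mul, Matrix.one_mul, hd, ← Matrix.smul_mul]
    congr 1
    match_scalars
    · ring
    · field_simp [H.base.fm.two]
      ring

/-- **The centraliser of `x` moves the vectors orthogonal to it inside the frame.** -/
theorem nrm {g : GL ι F} (hg : g ∈ M) (hgx : (g : Matrix ι ι F) * X x = X x * (g : Matrix ι ι F)) :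
    Nrm s X x (g : Matrix ι ι F) := by
  intro w hw
  have sf := H.base.fm.form
  rcases z2 (s w y) with e | e
  · exact H.moves hg hgx (H.mem_Ws.2 ⟨hw, e⟩)
  obtain ⟨u, c, e1⟩ := H.moves hg hgx (w := w + x) (H.mem_Ws.2
    ⟨by rw [sf.add_left, hw, sf.alt, add_zero], by rw [sf.add_left, e, H.sxy]; decide⟩)
  obtain ⟨m, hm, hm'⟩ := H.base.fm.mul (w + x) x
  obtain ⟨m', -, hm''⟩ := H.base.fm.mul u x
  rw [sf.add_add_cancel] at hm'
  refine ⟨u + x, m⁻¹ * (c * m'), ?_⟩
  rw [show X w = m⁻¹ • (X (w + x) * X x) by rw [hm', inv_smul_smul₀ hm], Matrix.mul_smul, ← Matrix.mul_assoc, e1,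
    Matrix.smul_mul, Matrix.mul_assoc, hgx, ← Matrix.mul_assoc, hm'', Matrix.smul_mul, smul_smul, smul_smul, mul_assoc]

end Sng

namespace Base

variable {s : V → V → ZMod 2} {X : V → Matrix ι ι F} {q : V → ZMod 2} {M : Subgroup (GL ι F)}

/-- **The centraliser of a member squaring to one normalises the members commuting with it.** -/
theorem nrm_of_singular (h : Base s X q 1 M) (hsq : ∀ v, X v * X v = sg2 F (q v) • 1)
    (hform : ∃ J : Matrix ι ι F, IsUnit J ∧ ∀ g ∈ M, (g : Matrix ι ι F)ᵀ * J * (g : Matrix ι ι F) = J)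
    (hns : ∀ v, v ≠ 0 → q v = 1 → ∀ g ∈ M, (g : Matrix ι ι F) * X v = X v * (g : Matrix ι ι F) →
      ∃ L, Act X (g : Matrix ι ι F) L)
    {x : V} (hx : x ≠ 0) (hqx : q x = 0) {g : GL ι F} (hg : g ∈ M)
    (hgx : (g : Matrix ι ι F) * X x = X x * (g : Matrix ι ι F)) : Nrm s X x (g : Matrix ι ι F) := by
  obtain ⟨y, hy⟩ := h.fm.form.exists_one hx
  exact Sng.nrm ⟨h, hsq, hform, hns, hqx, hy⟩ hg hgx

end Base

end CfsgLib.QubitMax
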