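import Cfsg.Agent.Lib.QubitMax.RealNs
import Cfsg.Agent.Lib.QubitMax.Singular

/-!
A group over the normaliser of a real frame acts on the frame unless it contains all unipotent isometries commuting
with a member squaring to minus one; matrices close to the identity do not act on the frame.
-/

set_option autoImplicit false
set_option linter.unusedSectionVars false

namespace CfsgLib.QubitMax

open Matrix
open CfsgLib.EightMax (Sform Isom tr tr_one tr_zero z2 sg2 sg2_zero sg2_one sg2_self sg2_ne sg2_add sg2_inj exists_sg2)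

variable {F : Type*} [Field F] [Finite F] {ι : Type*} [Fintype ι] [DecidableEq ι] [Nonempty ι]
variable {V : Type} [AddCommGroup V]

namespace Fm

variable {s : V → V → ZMod 2} {X : V → Matrix ι ι F} (h : Fm s X)
include h

/-- A multiple of a member different from the identity fixes at most half of the space. -/
theorem fix_le_half {w : V} (hw : w ≠ 0) (c : F) :
    2 * Module.finrank F (LinearMap.ker (Matrix.mulVecLin (c • X w - 1))) ≤ Fintype.card ι := by
  obtain ⟨z, hz⟩ := h.form.exists_one hw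
  obtain ⟨Uz, hUz⟩ := h.isUnit z
  obtain ⟨K₁, hK₁⟩ : ∃ K₁, K₁ = LinearMap.ker (Matrix.mulVecLin (c • X w - 1)) := ⟨_, rfl⟩
  obtain ⟨K₂, hK₂⟩ : ∃ K₂, K₂ = LinearMap.ker (Matrix.mulVecLin (c • X w + 1)) := ⟨_, rfl⟩
  have m1 : ∀ v, v ∈ K₁ ↔ c • (X w *ᵥ v) = v := fun v => by
    rw [hK₁, LinearMap.mem_ker, Matrix.mulVecLin_apply, Matrix.sub_mulVec, Matrix.smul_mulVec, Matrix.one_mulVec,
      sub_eq_zero]
  have m2 : ∀ v, v ∈ K₂ ↔ c • (X w *ᵥ v) = -v := fun v => by
    rw [hK₂, LinearMap.mem_ker, Matrix.mulVecLin_apply, Matrix.add_mulVec, Matrix.smul_mulVec, Matrix.one_mulVec,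
      add_eq_zero_iff_eq_neg]
  have hmap : ∀ v ∈ K₁, X z *ᵥ v ∈ K₂ := fun v hv => by
    rw [m2, Matrix.mulVec_mulVec, h.comm w z, hz, sg2_one, Matrix.smul_mulVec, ← Matrix.mulVec_mulVec,
      neg_one_smul, smul_neg, ← Matrix.mulVec_smul, (m1 v).1 hv]
  have hinj : Function.Injective fun v : K₁ => (⟨X z *ᵥ (v : ι → F), hmap _ v.2⟩ : K₂) := fun a b e0 =>
    Subtype.ext (Matrix.mulVec_injective_of_isUnit (h.isUnit z) (congrArg Subtype.val e0))
  have hle : Module.finrank F K₁ ≤ Module.finrank F K₂ := LinearMap.finrank_le_finrank_of_injective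
    (f := ((Matrix.mulVecLin (X z)).comp K₁.subtype).codRestrict K₂ fun v => hmap _ v.2) hinj
  have hdis : K₁ ⊓ K₂ = ⊥ := (Submodule.eq_bot_iff _).2 fun v hv => by
    have e1 := (m1 v).1 hv.1
    rw [(m2 v).1 hv.2] at e1
    have : (2 : F) • v = 0 := by rw [two_smul]; nth_rewrite 1 [← e1]; exact neg_add_cancel v
    exact (smul_eq_zero.1 this).resolve_left h.two
  have := Submodule.finrank_sup_add_finrank_inf_eq K₁ K₂
  rw [hdis, finrank_bot, add_zero] at this
  have hb := (Submodule.finrank_le (K₁ ⊔ K₂)).trans_eq (Module.finrank_fintype_fun_eq_card (η := ι) (R := F))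
  rw [← hK₁]
  omega

/-- A matrix moving every member inside the frame and fixing all but few dimensions is the identity. -/
theorem eq_one_of_act' {r : ℕ} (hn : 4 * r < Fintype.card ι) {g : Matrix ι ι F} (hu : IsUnit g) {L : V → V}
    (hL : Act X g L) (hr : Module.finrank F (LinearMap.range (Matrix.mulVecLin (g - 1))) ≤ r) : g = 1 := by
  have big : ∀ {w : V}, w ≠ 0 → ∀ c : F,
      ¬ Module.finrank F (LinearMap.range (Matrix.mulVecLin (c • X w - 1))) ≤ 2 * r := fun {w} hw c hle => by
    have h1 := (Matrix.mulVecLin (c • X w - 1)).finrank_range_add_finrank_ker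
    rw [Module.finrank_fintype_fun_eq_card] at h1
    have := h.fix_le_half hw c
    omega
  have hid : L = id := funext fun v => by
    by_contra hv
    obtain ⟨c, hc⟩ := hL v
    obtain ⟨d, hd, hd'⟩ := h.mul (L v) v
    obtain ⟨e, he⟩ := h.sq v
    have key : (g - 1) * X v - X v * (g - 1) = (c • X (L v) - X v) * g := by
      rw [Matrix.sub_mul, Matrix.mul_sub, Matrix.sub_mul, Matrix.one_mul, Matrix.mul_one, hc, Matrix.smul_mul]
      abel
    have key2 : ((g - 1) * X v - X v * (g - 1)) = ((c * sg2 F e * d) • X (L v + v) - 1) * (X v * g) := by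
      have e1 : (c * sg2 F e * d) • (X (L v + v) * X v) = c • X (L v) := by
        rw [mul_smul, ← Matrix.smul_mul, ← hd', Matrix.mul_assoc, he, Matrix.mul_smul, Matrix.mul_one, smul_smul,
          mul_assoc, sg2_self, mul_one]
      rw [key, ← e1, Matrix.sub_mul, Matrix.sub_mul, Matrix.one_mul, Matrix.smul_mul, Matrix.smul_mul, Matrix.mul_assoc]
    refine big (w := L v + v) (fun e0 => hv (h.form.eq_of_add_eq_zero e0)) (c * sg2 F e * d) ?_
    have hs : Function.Surjective (Matrix.mulVecLin (X v * g)) := Matrix.mulVec_surjective_iff_isUnit.2 ((h.isUnit v).mul hu)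
    have hr1 : LinearMap.range (Matrix.mulVecLin ((c * sg2 F e * d) • X (L v + v) - 1)) =
        LinearMap.range (Matrix.mulVecLin ((g - 1) * X v - X v * (g - 1))) := by
      rw [key2, Matrix.mulVecLin_mul _ (X v * g), LinearMap.range_comp, LinearMap.range_eq_top.2 hs, Submodule.map_top]
    have hle : LinearMap.range (Matrix.mulVecLin ((g - 1) * X v - X v * (g - 1))) ≤
        LinearMap.range (Matrix.mulVecLin (g - 1)) ⊔
          (LinearMap.range (Matrix.mulVecLin (g - 1))).map (Matrix.mulVecLin (X v)) := by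
      rintro _ ⟨u, rfl⟩
      rw [Matrix.mulVecLin_apply, Matrix.sub_mulVec, ← Matrix.mulVec_mulVec, ← Matrix.mulVec_mulVec]
      exact Submodule.sub_mem _ (Submodule.mem_sup_left ⟨_, rfl⟩) (Submodule.mem_sup_right ⟨_, ⟨u, rfl⟩, rfl⟩)
    rw [hr1]
    refine (Submodule.finrank_mono hle).trans ((Submodule.finrank_add_le_finrank_add_finrank _ _).trans ?_)
    have := Submodule.finrank_map_le (Matrix.mulVecLin (X v)) (LinearMap.range (Matrix.mulVecLin (g - 1)))
    omega
  obtain ⟨c, u, hc, e⟩ := h.act_id hu (hid ▸ hL)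
  by_cases hu0 : u = 0
  · rw [hu0, h.one] at e
    by_contra hne
    have hc1 : c - 1 ≠ 0 := fun e0 => hne (by rw [e, sub_eq_zero.1 e0, one_smul])
    have hs : Function.Surjective (Matrix.mulVecLin (g - 1)) := fun v => ⟨(c - 1)⁻¹ • v, by
      rw [Matrix.mulVecLin_apply, e, show c • (1 : Matrix ι ι F) - 1 = (c - 1) • 1 by rw [sub_smul, one_smul],
        Matrix.smul_mulVec, Matrix.one_mulVec, smul_smul, mul_inv_cancel₀ hc1, one_smul]⟩
    rw [LinearMap.range_eq_top.2 hs, finrank_top, Module.finrank_fintype_fun_eq_card] at hr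
    omega
  · rw [e] at hr
    exact absurd (hr.trans (by omega)) (big hu0 c)

/-- A matrix moving every member inside the frame and fixing all but two dimensions is the identity. -/
theorem eq_one_of_act (hn : 10 ≤ Fintype.card ι) {g : Matrix ι ι F} (hu : IsUnit g) {L : V → V} (hL : Act X g L)
    (hr : Module.finrank F (LinearMap.range (Matrix.mulVecLin (g - 1))) ≤ 2) : g = 1 :=
  h.eq_one_of_act' (r := 2) (by omega) hu hL hr

end Fm

namespace Real

variable {J : Matrix ι ι F} {δ : F} {s : V → V → ZMod 2} {X : V → Matrix ι ι F} {q : V → ZMod 2}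
  {M : Subgroup (GL ι F)} {p j : ℕ} (h : Real J δ s X q M p j)
include h

/-- Some element of the group moves a member squaring to minus one, even up to sign. -/
theorem mover {x : V} (hx : x ≠ 0) (hqx : q x = 1) : ¬ ∀ g ∈ M,
    (g : Matrix ι ι F) * X x = X x * (g : Matrix ι ι F) ∨ (g : Matrix ι ι F) * X x = -(X x * (g : Matrix ι ι F)) := by
  intro hall
  have sf := h.base.fm.form
  obtain ⟨w, hw⟩ := sf.exists_one hx
  obtain ⟨a, ha, hqa⟩ : ∃ a, s x a = 1 ∧ q a = 1 := by
    rcases z2 (q w) with e0 | e0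
    · obtain ⟨r, hr, -, hr1⟩ := h.base.quad.exists_flip (span3 x w 0) (h.base.quad.card_span3_le x w 0) 0
        (fun _ => by
          rcases h.base.quad.room rfl with h256 | -
          · exact Or.inl h256
          · refine Or.inr (Or.inr ⟨x, h.base.quad.mem_span3_left x w 0, ?_⟩)
            rw [hqx, sf.zero_left, mul_zero, add_zero]
            exact one_ne_zero)
      rw [sf.zero_left, mul_zero, add_zero] at hr1
      refine ⟨w + r, ?_, ?_⟩
      · rw [sf.add_right, hw, sf.symm, hr x (h.base.quad.mem_span3_left x w 0), add_zero]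
      · rw [h.base.quad.add, e0, hr1, sf.symm, hr w (h.base.quad.mem_span3_mid x w 0), mul_zero, add_zero, zero_add]
    · exact ⟨w, hw, e0⟩
  obtain ⟨g, hg, hL⟩ := h.base.lift a x hqa hqx
  obtain ⟨c, hc⟩ := hL x
  rw [Function.comp_apply, sf.tr_self, tr_one ha] at hc
  obtain ⟨d, hd⟩ : ∃ d : F, (g : Matrix ι ι F) * X x = d • (X x * (g : Matrix ι ι F)) := by
    rcases hall g hg with e1 | e1
    · exact ⟨1, by rw [e1, one_smul]⟩
    · exact ⟨-1, by rw [e1, neg_one_smul]⟩
  have hd0 := h.base.fm.scalar_ne g.isUnit hd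
  rw [hc, ← Matrix.smul_mul, ← Matrix.smul_mul] at hd
  have := h.base.fm.inj (c := d⁻¹ * c) (v := x) (w := x + a) (by
    rw [mul_smul, g.isUnit.mul_left_injective hd, inv_smul_smul₀ hd0])
  have ha0 : a = 0 := left_eq_add.1 this
  rw [ha0, sf.zero_right] at ha
  exact zero_ne_one ha

/-- The group acts on the frame. -/
theorem all_act (hbig : ∀ x, x ≠ 0 → q x = 1 → (∀ g : GL ι F, (g : Matrix ι ι F)ᵀ * J * (g : Matrix ι ι F) = J →
      (g : Matrix ι ι F) * X x = X x * (g : Matrix ι ι F) → IsNilpotent ((g : Matrix ι ι F) - 1) → g ∈ M) → False)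
    {g : GL ι F} (hg : g ∈ M) : ∃ L, Act X (g : Matrix ι ι F) L := by
  have hnrm : ∀ v, v ≠ 0 → q v = 1 → ∀ k ∈ M, (k : Matrix ι ι F) * X v = X v * (k : Matrix ι ι F) →
      Nrm s X v (k : Matrix ι ι F) := fun v hv hqv =>
    (h.ns_dich hv hqv).resolve_left fun hh => hbig v hv hqv hh
  have hns : ∀ v, v ≠ 0 → q v = 1 → ∀ k ∈ M, (k : Matrix ι ι F) * X v = X v * (k : Matrix ι ι F) →
      ∃ L, Act X (k : Matrix ι ι F) L := fun v hv hqv k hk hkv =>
    h.base.cent_of_nrm hv (fun w hw hqw => hnrm w hw (hqw.trans hqv)) hk hkv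
  refine (h.base.setup fun v hv k hk hkv => ?_).all_act hg
  rcases z2 (q v) with e0 | e0
  · refine h.base.cent_of_nrm hv (fun w hw hqw k' hk' hkw => ?_) hk hkv
    exact h.base.nrm_of_singular h.sq ⟨J, (Matrix.isUnit_iff_isUnit_det J).2 (isUnit_iff_ne_zero.2 h.jdet), h.isoM⟩
      hns hw (hqw.trans e0) hk' hkw
  · exact hns v hv e0 k hk hkv

end Real

end CfsgLib.QubitMax
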