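import Cfsg.Agent.Lib.QubitMax.SympType
import Cfsg.Agent.Lib.QubitMax.RealFinish

/-!
A classical group containing all squares of isometries contains the members of the frame of a symplectic-type group
and lifts of pairs of transvections; so an overgroup of the normaliser inside it is the normaliser or contains all
unipotent isometries commuting with a member squaring to minus one.
-/

set_option autoImplicit false
set_option linter.unusedSectionVars false

namespace CfsgLib.QubitMax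

open Matrix
open CfsgLib.EightMax (Sform Isom tr tr_one tr_zero z2 sg2 sg2_zero sg2_one sg2_add sg2_self sg2_ne sg2_inj exists_sg2)
open Cfsg.Geo (subgroupNormalizer IsMaximalIn)

variable {F : Type*} [Field F] [Finite F] {ι : Type} [Fintype ι] [DecidableEq ι] [Nonempty ι]
variable {V : Type} [AddCommGroup V]

/-- The matrices preserving a form are closed under products. -/
theorem iso_mul {J A A' : Matrix ι ι F} (hA : Aᵀ * J * A = J) (hA' : A'ᵀ * J * A' = J) :
    (A * A')ᵀ * J * (A * A') = J := by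
  rw [Matrix.transpose_mul, show A'ᵀ * Aᵀ * J * (A * A') = A'ᵀ * (Aᵀ * J * A) * A' by simp only [Matrix.mul_assoc],
    hA, hA']

theorem iso_inv {J : Matrix ι ι F} {g : GL ι F} (hg : (g : Matrix ι ι F)ᵀ * J * (g : Matrix ι ι F) = J) :
    ((g⁻¹ : GL ι F) : Matrix ι ι F)ᵀ * J * ((g⁻¹ : GL ι F) : Matrix ι ι F) = J := by
  calc _ = ((g⁻¹ : GL ι F) : Matrix ι ι F)ᵀ * ((g : Matrix ι ι F)ᵀ * J * (g : Matrix ι ι F)) *
        ((g⁻¹ : GL ι F) : Matrix ι ι F) := by rw [hg]
    _ = ((g : Matrix ι ι F) * ((g⁻¹ : GL ι F) : Matrix ι ι F))ᵀ * J *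
        ((g : Matrix ι ι F) * ((g⁻¹ : GL ι F) : Matrix ι ι F)) := by
      rw [Matrix.transpose_mul]; simp only [Matrix.mul_assoc]
    _ = J := by rw [Units.mul_inv, Matrix.transpose_one, Matrix.one_mul, Matrix.mul_one]

/-- One plus an isometry squaring to minus one is a similitude of multiplier two. -/
theorem iso_one_add {J A : Matrix ι ι F} (hA : Aᵀ * J * A = J) (hA2 : A * A = -1) :
    (1 + A)ᵀ * J * (1 + A) = (2 : F) • J := by
  have e : Aᵀ * J = -(J * A) := by
    calc Aᵀ * J = -(Aᵀ * J * (A * A)) := by rw [hA2, Matrix.mul_neg, Matrix.mul_one, neg_neg]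
      _ = -(J * A) := by rw [← Matrix.mul_assoc, hA]
  rw [Matrix.transpose_add, Matrix.transpose_one, Matrix.add_mul, Matrix.one_mul, e, ← sub_eq_add_neg,
    Matrix.sub_mul, Matrix.mul_add, Matrix.mul_add, Matrix.mul_one, Matrix.mul_one, Matrix.mul_assoc, hA2,
    Matrix.mul_neg, Matrix.mul_one]
  module

/-- Two anticommuting square roots of minus one give an element of order three. -/
theorem quat_cube {A A' g : Matrix ι ι F} (h2 : (2 : F) ≠ 0) (hA : A * A = -1) (hA' : A' * A' = -1)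
    (hc : A' * A = -(A * A')) (hg : g = (-(2 : F)⁻¹) • ((1 + A) * (1 + A'))) : g * g * g = 1 := by
  obtain ⟨P, hP⟩ : ∃ P, P = (1 + A) * (1 + A') := ⟨_, rfl⟩
  have hP' : P = 1 + A + A' + A * A' := by rw [hP, Matrix.add_mul, Matrix.mul_add, Matrix.mul_add]; simp; abel
  have c1 : A * A' * A = A' := by
    rw [Matrix.mul_assoc, hc, Matrix.mul_neg, ← Matrix.mul_assoc, hA]; simp
  have c2 : A' * (A * A') = A := by
    rw [← Matrix.mul_assoc, hc, Matrix.neg_mul, Matrix.mul_assoc, hA']; simp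
  have c3 : A * (A * A') = -A' := by rw [← Matrix.mul_assoc, hA]; simp
  have c4 : A * A' * A' = -A := by rw [Matrix.mul_assoc, hA']; simp
  have c5 : A * A' * (A * A') = -1 := by rw [Matrix.mul_assoc, c2, hA]
  have hPP : P * P = (2 : F) • P - (4 : F) • 1 := by
    rw [hP']
    simp only [Matrix.add_mul, Matrix.mul_add, Matrix.one_mul, Matrix.mul_one, hA, hA', hc, c1, c2, c3, c4, c5]
    module
  have hPPP : P * P * P = -((8 : F) • 1) := by
    rw [hPP, Matrix.sub_mul, Matrix.smul_mul, hPP, Matrix.smul_mul, Matrix.one_mul]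
    module
  rw [hg, ← hP, show ∀ a : F, a • P * a • P * a • P = (a * a * a) • (P * P * P) from fun a => by
      simp only [Matrix.smul_mul, Matrix.mul_smul, smul_smul]; congr 1; ring,
    hPPP, smul_neg, smul_smul, ← neg_smul]
  have e0 : -(-(2 : F)⁻¹ * -(2 : F)⁻¹ * -(2 : F)⁻¹ * 8) = 1 := by field_simp; ring
  rw [e0, one_smul]

namespace SympFrame

variable {R : Subgroup (GL ι F)} {k : ℕ} {s : V → V → ZMod 2} {X : V → Matrix ι ι F} {q : V → ZMod 2}
  (h : SympFrame R k s X q) {J : Matrix ι ι F}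
include h

theorem iso_X (hRJ : ∀ r ∈ R, (r : Matrix ι ι F)ᵀ * J * (r : Matrix ι ι F) = J) (v : V) :
    (X v)ᵀ * J * X v = J := by
  obtain ⟨g, hg, e⟩ := h.mem v
  rw [← e]
  exact hRJ g hg

theorem X_mem_normalizer {g : GL ι F} {v : V} {z : ZMod 2} (e : (g : Matrix ι ι F) = sg2 F z • X v) :
    g ∈ subgroupNormalizer R := by
  obtain ⟨r, hr, er⟩ := h.signed_mem v z
  rw [show g = r from Units.ext (e.trans er.symm)]
  exact Subgroup.le_normalizer hr

/-- An element of order three moving the frame along two non-orthogonal transvections. -/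
theorem lift_one (hRJ : ∀ r ∈ R, (r : Matrix ι ι F)ᵀ * J * (r : Matrix ι ι F) = J)
    {a b : V} (ha : q a = 1) (hb : q b = 1) (hab : s a b = 1) :
    ∃ g : GL ι F, (g : Matrix ι ι F)ᵀ * J * (g : Matrix ι ι F) = J ∧ g * g * g = 1 ∧
      Act X (g : Matrix ι ι F) (tr s a ∘ tr s b) := by
  have h2 := h.fm.two
  have sq1 : ∀ v, q v = 1 → X v * X v = -1 := fun v hv => by rw [h.sq, hv, sg2_one, neg_one_smul]
  have hc : X b * X a = -(X a * X b) := by
    rw [h.fm.comm b a, h.fm.form.symm, hab, sg2_one, neg_one_smul]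
  obtain ⟨g, hg⟩ : ∃ g, g = (-(2 : F)⁻¹) • ((1 + X a) * (1 + X b)) := ⟨_, rfl⟩
  have h3 : g * g * g = 1 := quat_cube h2 (sq1 a ha) (sq1 b hb) hc hg
  refine ⟨⟨g, g * g, by rw [← Matrix.mul_assoc, h3], h3⟩, ?_, Units.ext h3, ?_⟩
  · show gᵀ * J * g = J
    rw [hg, Matrix.transpose_smul, Matrix.smul_mul, Matrix.smul_mul, Matrix.mul_smul, smul_smul, Matrix.transpose_mul,
      show (1 + X b)ᵀ * (1 + X a)ᵀ * J * ((1 + X a) * (1 + X b)) =
        (1 + X b)ᵀ * ((1 + X a)ᵀ * J * (1 + X a)) * (1 + X b) by simp only [Matrix.mul_assoc],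
      iso_one_add (h.iso_X hRJ a) (sq1 a ha), Matrix.mul_smul, Matrix.smul_mul,
      iso_one_add (h.iso_X hRJ b) (sq1 b hb), smul_smul, smul_smul,
      show -(2 : F)⁻¹ * -(2 : F)⁻¹ * 2 * 2 = 1 by field_simp, one_smul]
  · show Act X g _
    rw [hg]
    exact (((h.fm.transvection (one_smul F (X a)).symm (sq1 a ha)).2.2).comp
      (h.fm.transvection (one_smul F (X b)).symm (sq1 b hb)).2.2).smul _

variable (hq : Quad s q 1)
include hq

/-- A distinguished vector meeting two others. -/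
theorem exists_two {a b : V} (ha : a ≠ 0) (hb : b ≠ 0) (hqa : q a = 1) :
    ∃ c, q c = 1 ∧ s a c = 1 ∧ s b c = 1 := by
  obtain ⟨u, hu1, hu2⟩ := h.fm.form.exists_one_one ha hb
  rcases z2 (q u) with e0 | e0
  · obtain ⟨r, hr, -, hr1⟩ := hq.exists_flip (span3 a b u) (hq.card_span3_le a b u) 0 (fun _ => by
      rcases hq.room rfl with h256 | -
      · exact Or.inl h256
      · refine Or.inr (Or.inr ⟨a, hq.mem_span3_left a b u, ?_⟩)
        rw [hqa, h.fm.form.zero_left, mul_zero, add_zero]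
        exact one_ne_zero)
    rw [h.fm.form.zero_left, mul_zero, add_zero] at hr1
    refine ⟨u + r, ?_, ?_, ?_⟩
    · rw [h.add, e0, hr1, h.fm.form.symm u, hr u (hq.mem_span3_right a b u)]; rfl
    · rw [h.fm.form.add_right, hu1, h.fm.form.symm, hr a (hq.mem_span3_left a b u), add_zero]
    · rw [h.fm.form.add_right, hu2, h.fm.form.symm, hr b (hq.mem_span3_mid a b u), add_zero]
  · exact ⟨u, e0, hu1, hu2⟩

/-- The normaliser inside a group containing all squares of isometries is a base for the frame. -/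
theorem base (hJ0 : J ≠ 0) (hRJ : ∀ r ∈ R, (r : Matrix ι ι F)ᵀ * J * (r : Matrix ι ι F) = J)
    {G M : Subgroup (GL ι F)} (hJ : IsUnit J)
    (hsqG : ∀ g : GL ι F, (g : Matrix ι ι F)ᵀ * J * (g : Matrix ι ι F) = J → g * g ∈ G)
    (hM : subgroupNormalizer R ⊓ G ≤ M)
    (hMJ : ∀ g ∈ M, (g : Matrix ι ι F)ᵀ * J * (g : Matrix ι ι F) = J) : Base s X q 1 M := by
  have sf := h.fm.form
  have q0 : q 0 = 0 := hq.zero
  have hlift : ∀ a b, q a = 1 → q b = 1 → s a b = 1 → ∃ g ∈ M,
      g ∈ G ∧ Act X (g : Matrix ι ι F) (tr s a ∘ tr s b) := by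
    intro a b ha hb hab
    obtain ⟨g, hgJ, hg3, hgA⟩ := h.lift_one hRJ ha hb hab
    have hgG : g ∈ G := by
      have := mul_mem (hsqG g hgJ) (hsqG g hgJ)
      rwa [← mul_assoc, hg3, one_mul] at this
    exact ⟨g, hM ⟨h.normal_of_act hJ hRJ hgJ hgA, hgG⟩, hgG, hgA⟩
  -- minus one and the members
  have hneg : ∀ g : GL ι F, (g : Matrix ι ι F) = -1 → g ∈ G := by
    intro g hg
    obtain ⟨w, hw⟩ : ∃ w : V, w ≠ 0 := by
      by_contra hno
      push Not at hno
      haveI : Subsingleton V := ⟨fun a b => (hno a).trans (hno b).symm⟩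
      have := hq.big
      rw [Nat.card_of_subsingleton (0 : V)] at this
      omega
    obtain ⟨r, -, -, hr1⟩ := hq.exists_flip (span3 w 0 0) (hq.card_span3_le w 0 0) 0 (fun _ =>
      Or.inr (Or.inl (hq.card_span3_zero w 0)))
    rw [sf.zero_left, mul_zero, add_zero] at hr1
    obtain ⟨gr, hgr, er⟩ := h.mem r
    have : g = gr * gr := Units.ext (by rw [Units.val_mul, er, hg, h.sq, hr1, sg2_one, neg_one_smul])
    rw [this]
    exact hsqG gr (hRJ gr hgr)
  have hns : ∀ v, q v = 1 → ∀ g : GL ι F, (g : Matrix ι ι F) = X v → g ∈ G := by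
    intro v hv g hg
    have hv0 : v ≠ 0 := fun e => by rw [e, q0] at hv; exact zero_ne_one hv
    obtain ⟨a, ha, hva, -⟩ := h.exists_two hq hv0 hv0 hv
    have hab : s a (a + v) = 1 := by rw [sf.add_right, sf.alt, sf.symm, hva, zero_add]
    have hb : q (a + v) = 1 := by rw [h.add, ha, hv, sf.symm a, hva]; decide
    obtain ⟨t, ht, htG, htA⟩ := hlift a (a + v) ha hb hab
    obtain ⟨c, hc⟩ := htA a
    rw [Function.comp_apply, tr_one hab, tr_one (show s (a + (a + v)) a = 1 by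
      rw [sf.add_left, sf.alt, sf.symm, hab, zero_add]), show a + (a + v) + a = a + v by
        rw [← add_assoc a a v, sf.two, zero_add, add_comm]] at hc
    obtain ⟨ga, hga, ea⟩ := h.mem a
    obtain ⟨gb, hgb, eb⟩ := h.mem (a + v)
    -- the commutator is a member at `v`
    obtain ⟨w, hw⟩ : ∃ w, w = t * ga * t⁻¹ * ga⁻¹ := ⟨_, rfl⟩
    have hwG : w ∈ G := by
      have e0 : w = (t * t) * ((t⁻¹ * ga) * (t⁻¹ * ga)) * (ga⁻¹ * ga⁻¹) := by rw [hw]; group
      rw [e0]
      have i1 := hMJ t ht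
      refine mul_mem (mul_mem (hsqG _ i1) (hsqG _ ?_)) (hsqG _ (iso_inv (hRJ ga hga)))
      rw [Units.val_mul]
      exact iso_mul (iso_inv i1) (hRJ ga hga)
    have hwv : ((ga⁻¹ : GL ι F) : Matrix ι ι F) = -X a := by
      rw [← ea]
      refine ga.isUnit.mul_left_cancel ?_
      rw [Units.mul_inv, Matrix.mul_neg, ea, h.sq, ha, sg2_one, neg_one_smul, neg_neg]
    obtain ⟨d, hd0, hd⟩ := h.fm.mul (a + v) a
    have ew : (w : Matrix ι ι F) = (-(c * d)) • X v := by
      rw [hw, Units.val_mul, Units.val_mul, Units.val_mul, ea, hc, hwv, Matrix.smul_mul, Matrix.smul_mul,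
        Matrix.mul_assoc (X (a + v)), Units.mul_inv, Matrix.mul_one, Matrix.mul_neg, hd, smul_neg, smul_smul]
      rw [show a + v + a = v by rw [add_comm a v, sf.add_add_cancel], neg_smul]
    have wiso : (w : Matrix ι ι F)ᵀ * J * (w : Matrix ι ι F) = J := by
      rw [hw, Units.val_mul, Units.val_mul, Units.val_mul]
      exact iso_mul (iso_mul (iso_mul (hMJ t ht) (hRJ ga hga)) (iso_inv (hMJ t ht))) (iso_inv (hRJ ga hga))
    rw [ew, Matrix.transpose_smul, Matrix.smul_mul, Matrix.smul_mul, Matrix.mul_smul, smul_smul, h.iso_X hRJ v]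
      at wiso
    have hsq : -(c * d) * -(c * d) = 1 := smul_left_injective F hJ0 (wiso.trans (one_smul F J).symm)
    rcases mul_self_eq_one_iff.1 hsq with e0 | e0
    · rw [e0, one_smul] at ew
      rwa [show g = w from Units.ext (hg.trans ew.symm)]
    · rw [e0, neg_one_smul] at ew
      obtain ⟨m, hm, em⟩ := h.neg
      rw [show g = m * w from Units.ext (by rw [Units.val_mul, em, ew, hg, neg_mul_neg, Matrix.one_mul])]
      exact mul_mem (hneg m em) hwG
  have hall : ∀ v, ∀ g : GL ι F, (g : Matrix ι ι F) = X v → g ∈ G := by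
    intro v g hg
    rcases z2 (q v) with e0 | e0
    · by_cases hv : v = 0
      · rw [show g = 1 from Units.ext (by rw [hg, hv, h.fm.one, Units.val_one])]
        exact one_mem _
      obtain ⟨r, hr, -, hr1⟩ := hq.exists_flip (span3 v 0 0) (hq.card_span3_le v 0 0) 0 (fun _ =>
        Or.inr (Or.inl (hq.card_span3_zero v 0)))
      rw [sf.zero_left, mul_zero, add_zero] at hr1
      have hvr : q (v + r) = 1 := by
        rw [h.add, e0, hr1, sf.symm, hr v (hq.mem_span3_left v 0 0)]; rfl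
      obtain ⟨g1, -, e1⟩ := h.mem (v + r)
      obtain ⟨g2, -, e2⟩ := h.mem r
      obtain ⟨d, hd0, hd⟩ := h.fm.mul (v + r) r
      rw [sf.add_add_cancel] at hd
      have iso2 : (d • X v)ᵀ * J * (d • X v) = J := hd ▸ iso_mul (h.iso_X hRJ _) (h.iso_X hRJ _)
      rw [Matrix.transpose_smul, Matrix.smul_mul, Matrix.smul_mul, Matrix.mul_smul, smul_smul, h.iso_X hRJ v] at iso2
      rcases mul_self_eq_one_iff.1 (smul_left_injective F hJ0 (iso2.trans (one_smul F J).symm)) with rfl | rfl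
      · rw [show g = g1 * g2 from Units.ext (by rw [Units.val_mul, e1, e2, hd, one_smul, hg])]
        exact mul_mem (hns _ hvr g1 e1) (hns _ hr1 g2 e2)
      · obtain ⟨m, hm, em⟩ := h.neg
        rw [show g = m * (g1 * g2) from Units.ext (by
          rw [Units.val_mul, Units.val_mul, e1, e2, hd, em, hg, neg_one_smul, neg_mul_neg, Matrix.one_mul])]
        exact mul_mem (hneg m em) (mul_mem (hns _ hvr g1 e1) (hns _ hr1 g2 e2))
    · exact hns v e0 g hg
  refine ⟨h.fm, hq, fun v => ?_, fun a b ha hb => ?_, fun g hg u u' c e => ?_, fun a ha => ⟨1, ?_⟩⟩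
  · obtain ⟨g, hgR, e⟩ := h.mem v
    exact ⟨g, hM ⟨Subgroup.le_normalizer hgR, hall v g e⟩, e⟩
  · have h0 : ∀ {x}, q x = 1 → x ≠ 0 := fun {x} hx e => by rw [e, q0] at hx; exact zero_ne_one hx
    rcases z2 (s a b) with e0 | e0
    · by_cases hab : a = b
      · refine ⟨1, one_mem _, ?_⟩
        rw [hab, show tr s b ∘ tr s b = id from funext (sf.tr_tr b), Units.val_one]
        exact act_one X
      · obtain ⟨c, hc, hac, hbc⟩ := h.exists_two hq (h0 ha) (h0 hb) ha
        obtain ⟨g1, hg1, -, hA1⟩ := hlift a c ha hc hac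
        obtain ⟨g2, hg2, -, hA2⟩ := hlift c b hc hb (by rw [sf.symm]; exact hbc)
        refine ⟨g1 * g2, mul_mem hg1 hg2, ?_⟩
        have := hA1.comp hA2
        rw [show (tr s a ∘ tr s c) ∘ (tr s c ∘ tr s b) = tr s a ∘ tr s b from funext fun x => by
          simp only [Function.comp_apply, sf.tr_tr]] at this
        rwa [Units.val_mul]
    · obtain ⟨g, hg, -, hA⟩ := hlift a b ha hb e0
      exact ⟨g, hg, hA⟩
  · have i1 := iso_mul (hMJ g hg) (h.iso_X hRJ u)
    have i2 := iso_mul (h.iso_X hRJ u') (hMJ g hg)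
    rw [e, Matrix.transpose_smul, Matrix.smul_mul, Matrix.smul_mul, Matrix.mul_smul, smul_smul, i2] at i1
    have hc : c * c = 1 := smul_left_injective F hJ0 (i1.trans (one_smul F J).symm)
    have e2 : (g : Matrix ι ι F) * (X u * X u) = (c * c) • (X u' * X u' * (g : Matrix ι ι F)) := by
      rw [← Matrix.mul_assoc, e, Matrix.smul_mul, Matrix.mul_assoc, e, Matrix.mul_smul, smul_smul, Matrix.mul_assoc]
    rw [h.sq, h.sq, hc, one_smul, Matrix.mul_smul, Matrix.mul_one, Matrix.smul_mul, Matrix.one_mul] at e2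
    exact sg2_inj h.fm.two (smul_left_injective F g.isUnit.ne_zero e2)
  · rw [one_smul, h.sq, ha, sg2_one, neg_one_smul]

omit hq in
/-- **Maximality of the normaliser, given the leaf.** -/
theorem isMaximalIn_of_leaf {δ : F} {p : ℕ} (hq : Quad s q 1) (hk : 3 ≤ k) (hJd : J.det ≠ 0) (hsign : δ = 1 ∨ δ = -1)
    (hjt : Jᵀ = δ • J) (hp : p.Prime) (hpo : Odd p) (hF : Nat.card F = p)
    (hRJ : ∀ r ∈ R, (r : Matrix ι ι F)ᵀ * J * (r : Matrix ι ι F) = J) {G : Subgroup (GL ι F)}
    (hGJ : ∀ g ∈ G, (g : Matrix ι ι F)ᵀ * J * (g : Matrix ι ι F) = J)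
    (hGdet : ∀ g ∈ G, (g : Matrix ι ι F).det = 1)
    (hsqG : ∀ g : GL ι F, (g : Matrix ι ι F)ᵀ * J * (g : Matrix ι ι F) = J → g * g ∈ G)
    {T : GL ι F} (hT : T ∈ G) (hTN : ∀ L, ¬ Act X (T : Matrix ι ι F) L)
    (hleaf : ∀ M ≤ G, ∀ x, x ≠ 0 → q x = 1 →
      (∀ g ∈ G, (g : Matrix ι ι F) * X x = X x * (g : Matrix ι ι F) → IsNilpotent ((g : Matrix ι ι F) - 1) → g ∈ M) →
      (∃ σ ∈ M, (σ : Matrix ι ι F) * X x = -(X x * (σ : Matrix ι ι F))) →
      (¬ ∀ g ∈ M, (g : Matrix ι ι F) * X x = X x * (g : Matrix ι ι F) ∨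
        (g : Matrix ι ι F) * X x = -(X x * (g : Matrix ι ι F))) → M = G) :
    IsMaximalIn G (subgroupNormalizer R ⊓ G) := by
  have hJ : IsUnit J := (Matrix.isUnit_iff_isUnit_det J).2 (isUnit_iff_ne_zero.2 hJd)
  refine ⟨lt_of_le_not_ge inf_le_right fun hge => ?_, fun M h1 h2 => ?_⟩
  · obtain ⟨L, hL⟩ := h.act_of_normal (hge hT).1
    exact hTN L hL
  have hMJ := fun g hg => hGJ g (h2 hg)
  have hb := h.base hq hJ.ne_zero hRJ hJ hsqG h1 hMJ
  have hreal : Real J δ s X q M p k :=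
    ⟨hb, h.sq, hJd, hsign, hjt, h.iso_X hRJ, hMJ, fun g hg => hGdet g (h2 hg), hp, Nat.odd_iff.1 hpo, hF, h.dim, hk⟩
  by_cases hMG : M = G
  · exact Or.inr hMG
  refine Or.inl (le_antisymm (fun g hg => ⟨?_, h2 hg⟩) h1)
  have hbig : ∀ x, x ≠ 0 → q x = 1 → (∀ g : GL ι F, (g : Matrix ι ι F)ᵀ * J * (g : Matrix ι ι F) = J →
      (g : Matrix ι ι F) * X x = X x * (g : Matrix ι ι F) → IsNilpotent ((g : Matrix ι ι F) - 1) → g ∈ M) → False := by
    intro x hx hqx hun
    obtain ⟨w, hw⟩ := h.fm.form.exists_one hx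
    obtain ⟨gw, hgw, ew⟩ := hb.memX w
    exact hMG (hleaf M h2 x hx hqx (fun g hg hgx hgn => hun g (hGJ g hg) hgx hgn)
      ⟨gw, hgw, by rw [ew, h.fm.comm w x, h.fm.form.symm, hw, sg2_one, neg_one_smul]⟩ (hreal.mover hx hqx))
  obtain ⟨L, hL⟩ := hreal.all_act hbig hg
  exact h.normal_of_act hJ hRJ (hMJ g hg) hL

end SympFrame

end CfsgLib.QubitMax
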