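import Cfsg.Agent.Lib.Classical.OrthPair
import Cfsg.Agent.Lib.Classical.OrthOverfieldUMax

/-!
A subgroup of the commutator subgroup of an orthogonal group containing every unipotent element commuting with an
isometry squaring to minus one, and an element inverting it, is the whole group unless all its elements keep that
isometry up to sign.
-/

set_option autoImplicit false
set_option linter.unusedSectionVars false

namespace CfsgLib.QubitMax

open Matrix
open CfsgLib.Orth

variable {F : Type*} [Field F] [Finite F] {ι : Type} [Fintype ι] [DecidableEq ι]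
variable {Q : QuadraticForm F (ι → F)}

local notation "B" => QuadraticMap.polar (DFunLike.coe Q)

/-- The matrix of an isometry. -/
abbrev gmat (g : Grp Q) : Matrix ι ι F := ((g : GL ι F) : Matrix ι ι F)

/-- A root element with singular orthogonal vectors is unipotent. -/
theorem siegel_nilpotent {y v : ι → F} {g : Grp Q} (hg : IsSiegel y v g) (hv : Q v = 0) :
    IsNilpotent (gmat g - 1) := by
  refine ⟨2, Matrix.ext_iff_mulVec.2 fun x => ?_⟩
  have e : ∀ z, (gmat g - 1) *ᵥ z = B z y • v - B z v • y := fun z => by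
    rw [Matrix.sub_mulVec, Matrix.one_mulVec, show gmat g *ᵥ z = ap g z from rfl, root_ap hg hv]
    abel
  rw [pow_two, ← Matrix.mulVec_mulVec, e, e, Matrix.zero_mulVec]
  simp only [b_sub_left, b_smul_left, b_self_zero hv, b_self_zero hg.1, hg.2.1, b_comm v y, mul_zero, sub_zero,
    zero_smul]

/-- **The orthogonal leaf.** -/
theorem orth_leaf (hB : Nondeg Q) (hn : 10 ≤ Module.finrank F (ι → F)) (h2 : (2 : F) ≠ 0)
    {M : Subgroup (Grp Q)} (hle : M ≤ El Q) {j : Matrix ι ι F} (hjj : j * j = -1)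
    (hj : ∀ x, Q (j *ᵥ x) = Q x)
    (hunip : ∀ g ∈ El Q, gmat g * j = j * gmat g → IsNilpotent (gmat g - 1) → g ∈ M)
    {σ : Grp Q} (hσ : σ ∈ M) (hσj : gmat σ * j = -(j * gmat σ))
    (hmove : ¬ ∀ g ∈ M, gmat g * j = j * gmat g ∨ gmat g * j = -(j * gmat g)) : M = El Q := by
  classical
  have hjx : ∀ x, j *ᵥ (j *ᵥ x) = -x := fun x => by
    rw [Matrix.mulVec_mulVec, hjj, Matrix.neg_mulVec, Matrix.one_mulVec]
  have hjb : ∀ x y, B (j *ᵥ x) (j *ᵥ y) = B x y := fun x y => by
    simp only [QuadraticMap.polar, ← Matrix.mulVec_add, hj]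
  have hskew : ∀ x y, B (j *ᵥ x) y = -B x (j *ᵥ y) := fun x y => by
    conv_rhs => rw [← hjb x (j *ᵥ y), hjx]
    rw [← neg_one_smul F y, b_smul_right, neg_one_mul, neg_neg]
  have hσx : ∀ x, ap σ (j *ᵥ x) = -(j *ᵥ ap σ x) := fun x => by
    show gmat σ *ᵥ (j *ᵥ x) = -(j *ᵥ (gmat σ *ᵥ x))
    rw [Matrix.mulVec_mulVec, hσj, Matrix.neg_mulVec, Matrix.mulVec_mulVec]
  have q_of_b : ∀ x, B x x = 0 → Q x = 0 := fun x e => by
    rw [b_self] at e
    exact (mul_eq_zero.1 e).resolve_left h2
  by_cases hi : ∃ i : F, i * i = -1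
  · obtain ⟨i, hi⟩ := hi
    have hi0 : i ≠ 0 := fun e => by rw [e, mul_zero] at hi; exact one_ne_zero (neg_eq_zero.1 hi.symm)
    obtain ⟨U, hU⟩ : ∃ U : Submodule F (ι → F), ∀ x, x ∈ U ↔ j *ᵥ x = i • x :=
      ⟨LinearMap.ker (Matrix.mulVecLin j - i • LinearMap.id), fun x => by simp [sub_eq_zero]⟩
    obtain ⟨W, hW⟩ : ∃ W : Submodule F (ι → F), ∀ x, x ∈ W ↔ j *ᵥ x = (-i) • x :=
      ⟨LinearMap.ker (Matrix.mulVecLin j - (-i) • LinearMap.id), fun x => by simp [sub_eq_zero, eq_neg_iff_add_eq_zero]⟩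
    have iso0 : ∀ (c : F), c * c = -1 → ∀ x, j *ᵥ x = c • x → Q x = 0 := by
      intro c hc x hx
      have := hj x
      rw [hx, q_smul, hc, neg_one_mul] at this
      exact (mul_eq_zero.1 (show (2 : F) * Q x = 0 by linear_combination -this)).resolve_left h2
    have hU0 : ∀ x ∈ U, Q x = 0 := fun x hx => iso0 i hi x ((hU x).1 hx)
    have hW0 : ∀ x ∈ W, Q x = 0 := fun x hx => iso0 (-i) (by rw [neg_mul_neg, hi]) x ((hW x).1 hx)
    have hcompl : IsCompl U W := by
      refine IsCompl.of_eq ((Submodule.eq_bot_iff _).2 fun x hx => ?_) (eq_top_iff.2 fun x _ => ?_)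
      · have e := (hU x).1 hx.1
        rw [(hW x).1 hx.2] at e
        have : ((2 : F) * i) • x = 0 := by
          rw [two_mul, add_smul]
          nth_rewrite 1 [← e]
          rw [neg_smul, neg_add_cancel]
        exact (smul_eq_zero.1 this).resolve_left (mul_ne_zero h2 hi0)
      · rw [show x = (2 : F)⁻¹ • (x - i • (j *ᵥ x)) + (2 : F)⁻¹ • (x + i • (j *ᵥ x)) by
          rw [← smul_add, show x - i • (j *ᵥ x) + (x + i • (j *ᵥ x)) = (2 : F) • x by module,
            inv_smul_smul₀ h2]]
        refine Submodule.add_mem_sup (U.smul_mem _ ((hU _).2 ?_)) (W.smul_mem _ ((hW _).2 ?_))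
        · rw [Matrix.mulVec_sub, Matrix.mulVec_smul, hjx, smul_sub, smul_smul, hi]; module
        · rw [Matrix.mulVec_add, Matrix.mulVec_smul, hjx, smul_add, smul_smul, neg_mul, hi]; module
    have hσU : ∀ x ∈ U, ap σ x ∈ W := fun x hx => (hW _).2 (by
      have := hσx x
      rw [(hU x).1 hx, ap_smul] at this
      rw [neg_smul, this, neg_neg])
    have hσW : ∀ x ∈ W, ap σ x ∈ U := fun x hx => (hU _).2 (by
      have := hσx x
      rw [(hW x).1 hx, ap_smul, neg_smul, neg_inj] at this
      exact this.symm)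
    obtain ⟨f, hf⟩ : ∃ f : (ι → F) →ₗ[F] (ι → F), ∀ x, f x = ap σ x := ⟨Matrix.mulVecLin (gmat σ), fun _ => rfl⟩
    have hdim : Module.finrank F U = Module.finrank F W := by
      refine le_antisymm ?_ ?_
      · exact LinearMap.finrank_le_finrank_of_injective (f := f.restrict fun x hx => hf x ▸ hσU x hx)
          fun a b e => Subtype.ext (ap_inj σ (by
            have := congrArg Subtype.val e
            simpa only [LinearMap.restrict_coe_apply, hf] using this))
      · exact LinearMap.finrank_le_finrank_of_injective (f := f.restrict fun x hx => hf x ▸ hσW x hx)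
          fun a b e => Subtype.ext (ap_inj σ (by
            have := congrArg Subtype.val e
            simpa only [LinearMap.restrict_coe_apply, hf] using this))
    have hsum := Submodule.finrank_add_eq_of_isCompl hcompl
    have S : Split Q U W := ⟨hcompl, ⟨hU0, by omega⟩, ⟨hW0, by omega⟩⟩
    have hfix : ∀ u ∈ U, ∀ w ∈ W, Root M u w := by
      intro u hu w hw c k hk
      have hcw : Q (c • w) = 0 := by rw [q_smul, hW0 w hw, mul_zero]
      refine hunip k (siegel_mem_El hk) (Matrix.ext_iff_mulVec.2 fun z => ?_) (siegel_nilpotent hk hcw)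
      rw [← Matrix.mulVec_mulVec, ← Matrix.mulVec_mulVec]
      show ap k (j *ᵥ z) = j *ᵥ ap k z
      rw [root_ap hk hcw, root_ap hk hcw, Matrix.mulVec_sub, Matrix.mulVec_add, Matrix.mulVec_smul,
        Matrix.mulVec_smul, Matrix.mulVec_smul, (hU u).1 hu, (hW w).1 hw, hskew, hskew, Matrix.mulVec_smul,
        (hU u).1 hu, (hW w).1 hw]
      simp only [b_smul_right]
      module
    refine le_antisymm hle ?_
    by_contra hno
    refine hmove fun g hg => ?_
    by_cases hf1 : (∀ x ∈ U, ap g x ∈ U) ∧ ∀ x ∈ W, ap g x ∈ W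
    · left
      refine Matrix.ext_iff_mulVec.2 fun x => ?_
      obtain ⟨a, ha, b, hb, rfl⟩ := S.parts x
      rw [← Matrix.mulVec_mulVec, ← Matrix.mulVec_mulVec]
      show ap g (j *ᵥ (a + b)) = j *ᵥ ap g (a + b)
      simp only [Matrix.mulVec_add, ap_add, ap_smul, (hU a).1 ha, (hW b).1 hb, (hU _).1 (hf1.1 a ha),
        (hW _).1 (hf1.2 b hb)]
    · by_cases hf2 : (∀ x ∈ U, ap g x ∈ W) ∧ ∀ x ∈ W, ap g x ∈ U
      · right
        refine Matrix.ext_iff_mulVec.2 fun x => ?_
        obtain ⟨a, ha, b, hb, rfl⟩ := S.parts x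
        rw [Matrix.neg_mulVec, ← Matrix.mulVec_mulVec, ← Matrix.mulVec_mulVec]
        show ap g (j *ᵥ (a + b)) = -(j *ᵥ ap g (a + b))
        simp only [Matrix.mulVec_add, ap_add, ap_smul, (hU a).1 ha, (hW b).1 hb, (hW _).1 (hf2.1 a ha),
          (hU _).1 (hf2.2 b hb)]
        module
      · exact absurd (El_le_of_pair hB S (by omega) hfix hσ hσU hσW hg hf1 hf2) hno
  · push Not at hi
    obtain ⟨J, hJ⟩ : ∃ J : (ι → F) →ₗ[F] (ι → F), ∀ x, J x = j *ᵥ x := ⟨Matrix.mulVecLin j, fun _ => rfl⟩
    have hS : Overfield.Setup Q J 0 1 := by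
      refine ⟨hB, hn, one_ne_zero, fun x => ?_, fun x y => ?_, fun x => ?_, fun x hx => ?_, fun c hc => hi c ?_⟩
      · rw [hJ, hJ, hjx, zero_smul, one_smul, zero_sub]
      · rw [hJ, hJ, hskew, zero_smul, zero_sub, ← neg_one_smul F (j *ᵥ y), b_smul_right, neg_one_mul]
      · rw [hJ, hj, one_mul]
      · rw [hJ]
        have e := hskew x x
        rw [b_comm (j *ᵥ x) x] at e
        exact (mul_eq_zero.1 (show (2 : F) * B x (j *ᵥ x) = 0 by linear_combination e)).resolve_left h2
      · linear_combination hc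
    have hM : ∀ y, Q y = 0 → ∀ (c : F) (g : Grp Q), IsSiegel y (c • J y) g → g ∈ M := by
      intro y hy c g hg
      refine hunip g (siegel_mem_El hg) (Matrix.ext_iff_mulVec.2 fun z => ?_)
        (siegel_nilpotent hg (by rw [q_smul, hS.singular_j hy, mul_zero]))
      rw [← Matrix.mulVec_mulVec, ← Matrix.mulVec_mulVec, ← hJ, ← hJ]
      exact hS.root_comm hy hg z
    refine le_antisymm hle ?_
    by_contra hno
    refine hmove fun g hg => ?_
    obtain ⟨α, β, hαβ⟩ := hS.conj_mem_span (g := g) fun a ha => by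
      by_contra hne
      exact hno (hS.el_le_of_moved hM hg ha hne)
    have e : gmat g * j = (α • (1 : Matrix ι ι F) + β • j) * gmat g := by
      refine Matrix.ext_iff_mulVec.2 fun x => ?_
      have := hαβ x
      rw [hJ, hJ] at this
      rw [← Matrix.mulVec_mulVec, ← Matrix.mulVec_mulVec, Matrix.add_mulVec, Matrix.smul_mulVec,
        Matrix.smul_mulVec, Matrix.one_mulVec]
      exact this
    haveI : Nonempty ι := by
      rw [← Fintype.card_pos_iff, ← Module.finrank_fintype_fun_eq_card (R := F)]; omega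
    have e2 : (α • (1 : Matrix ι ι F) + β • j) * (α • (1 : Matrix ι ι F) + β • j) = -1 := by
      refine (g : GL ι F).isUnit.mul_left_injective ?_
      show _ * gmat g = _ * gmat g
      calc _ = (α • (1 : Matrix ι ι F) + β • j) * (gmat g * j) := by rw [Matrix.mul_assoc, e]
        _ = gmat g * j * j := by rw [← Matrix.mul_assoc, ← e]
        _ = _ := by rw [Matrix.mul_assoc, hjj, Matrix.mul_neg, Matrix.mul_one, Matrix.neg_mul, Matrix.one_mul]
    have e3 : (α * α - β * β + 1) • (1 : Matrix ι ι F) + (2 * (α * β)) • j = 0 := by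
      rw [add_mul, mul_add, mul_add, smul_mul_smul_comm, smul_mul_smul_comm, smul_mul_smul_comm, smul_mul_smul_comm,
        hjj, Matrix.one_mul, Matrix.one_mul, Matrix.mul_one] at e2
      linear_combination (norm := module) e2
    have hns : ∀ c : F, j ≠ c • (1 : Matrix ι ι F) := fun c ec => by
      refine hi c ?_
      rw [ec, smul_mul_smul_comm, Matrix.mul_one, ← neg_one_smul F (1 : Matrix ι ι F)] at hjj
      exact smul_left_injective F one_ne_zero hjj
    have hab : α * β = 0 := by
      by_contra hne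
      refine hns (-(α * α - β * β + 1) / (2 * (α * β))) ?_
      rw [div_eq_inv_mul, mul_smul, neg_smul, eq_neg_of_add_eq_zero_left e3, neg_neg,
        inv_smul_smul₀ (mul_ne_zero h2 hne)]
    rw [hab, mul_zero, zero_smul, add_zero] at e3
    have e4 : α * α - β * β + 1 = 0 := (smul_eq_zero.1 e3).resolve_right one_ne_zero
    have hα : α = 0 := (mul_eq_zero.1 hab).resolve_right fun hb => hi α (by rw [hb] at e4; linear_combination e4)
    rw [hα, zero_smul, zero_add] at e
    have hb2 : β * β = 1 := by rw [hα] at e4; linear_combination -e4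
    rcases mul_self_eq_one_iff.1 hb2 with rfl | rfl
    · left; rw [e, one_smul]
    · right; rw [e, neg_one_smul, Matrix.neg_mul]

end CfsgLib.QubitMax
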