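import Cfsg.Agent.Lib.QubitMax.Lifts
import Cfsg.Agent.Lib.QubitMax.OrthLeaf
import Cfsg.Agent.Lib.Classical.OrthTwoRank

/-!
The normaliser of a plus type extraspecial group is maximal in the commutator subgroup of an orthogonal group.
-/

set_option autoImplicit false
set_option linter.unusedSectionVars false

namespace CfsgLib.QubitMax

open Matrix
open CfsgLib.Orth
open CfsgLib.EightMax (sg2)
open Cfsg.Geo (subgroupNormalizer IsMaximalIn IsSymplecticTypeGroup ActsAbsolutelyIrreducibly matrixSet omegaGL)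

variable {F : Type*} [Field F] [Fintype F] {n : ℕ} {Q : QuadraticForm F (Fin n → F)}

local notation "B" => QuadraticMap.polar (DFunLike.coe Q)

/-- The Gram matrix of the polar form. -/
noncomputable def polarMat (Q : QuadraticForm F (Fin n → F)) : Matrix (Fin n) (Fin n) F :=
  LinearMap.toMatrix₂' F (QuadraticMap.polarBilin Q)

theorem polarMat_apply (i j : Fin n) : polarMat Q i j = B (Pi.single i 1) (Pi.single j 1) := by
  simp [polarMat, LinearMap.toMatrix₂'_apply]

theorem b_eq_dot (x y : Fin n → F) : B x y = x ⬝ᵥ (polarMat Q *ᵥ y) := by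
  rw [← Matrix.toLinearMap₂'_apply', polarMat, Matrix.toLinearMap₂'_toMatrix']
  rfl

theorem polarMat_transpose : (polarMat Q)ᵀ = polarMat Q :=
  Matrix.ext fun i j => by rw [Matrix.transpose_apply, polarMat_apply, polarMat_apply, b_comm]

theorem polarMat_det (hB : Nondeg Q) : (polarMat Q).det ≠ 0 := fun e => by
  obtain ⟨v, hv, hv0⟩ := Matrix.exists_mulVec_eq_zero_iff.2 e
  exact hv (hB v fun y => by rw [b_comm, b_eq_dot, hv0, dotProduct_zero])

theorem iso_iff (h2 : (2 : F) ≠ 0) {A : Matrix (Fin n) (Fin n) F} :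
    Aᵀ * polarMat Q * A = polarMat Q ↔ ∀ x, Q (A *ᵥ x) = Q x := by
  have key : ∀ x y, B (A *ᵥ x) (A *ᵥ y) = x ⬝ᵥ ((Aᵀ * polarMat Q * A) *ᵥ y) := fun x y => by
    rw [b_eq_dot, ← Matrix.mulVec_mulVec, ← Matrix.mulVec_mulVec, Matrix.dotProduct_mulVec x Aᵀ,
      Matrix.vecMul_transpose]
  constructor
  · intro h x
    have := key x x
    rw [h, ← b_eq_dot, b_self, b_self] at this
    exact mul_left_cancel₀ h2 this
  · intro h
    refine Matrix.ext fun i j => ?_
    have := key (Pi.single i 1) (Pi.single j 1)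
    rw [show B (A *ᵥ Pi.single i 1) (A *ᵥ Pi.single j 1) = B (Pi.single i 1) (Pi.single j 1) by
      simp only [QuadraticMap.polar, ← Matrix.mulVec_add, h], ← polarMat_apply] at this
    simpa using this.symm

/-- **The normaliser of a plus type extraspecial group is maximal in the orthogonal group.** -/
theorem orth_normalizer_maximal (hn : 13 ≤ n) (hB : Nondeg Q) {p k : ℕ} (hp : p.Prime) (hpo : Odd p)
    (hF : Fintype.card F = p) (R : Subgroup (GL (Fin n) F)) (hR : IsSymplecticTypeGroup 2 R)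
    (hirr : ActsAbsolutelyIrreducibly (matrixSet R)) (hRD : R ≤ Cfsg.isometryGroup F ⇑Q)
    (hcard : Nat.card R = 2 ^ (1 + 2 * k)) (hZ : Nat.card (Subgroup.center R) = 2) :
    IsMaximalIn (omegaGL ⇑Q) (subgroupNormalizer R ⊓ omegaGL ⇑Q) := by
  classical
  haveI : Nonempty (Fin n) := ⟨⟨0, by omega⟩⟩
  haveI : Fact p.Prime := ⟨hp⟩
  haveI : CharP F p := charP_of_card_eq_prime hF
  have h2 : (2 : F) ≠ 0 := Ring.two_ne_zero (by
    rw [ringChar.eq F p]
    rintro rfl
    exact absurd hpo (by decide))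
  have hd : Module.finrank F (Fin n → F) = n := Module.finrank_fin_fun F
  obtain ⟨V, _, s, X, q, h⟩ := exists_sympFrame h2 hR hirr hcard hZ
  have hk : 4 ≤ k := by
    by_contra hk
    have := h.dim
    rw [Fintype.card_fin] at this
    have := Nat.pow_le_pow_right two_pos (show k ≤ 3 by omega)
    omega
  have hq := h.quad (by omega) (Or.inl hk)
  have isoI : ∀ g : GL (Fin n) F,
      g ∈ Cfsg.isometryGroup F ⇑Q ↔ (g : Matrix (Fin n) (Fin n) F)ᵀ * polarMat Q * g = polarMat Q := fun g => by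
    rw [iso_iff h2]
    exact ⟨fun hg x => hg x x, fun hg x _ => hg x⟩
  have hΩ := omega_eq_El hB (show 5 ≤ Module.finrank F (Fin n → F) by omega)
  obtain ⟨u, -, hu0, hu⟩ := exists_singular (Q := Q) (U := (⊤ : Submodule F (Fin n → F))) (by
    rw [finrank_top]; omega)
  obtain ⟨v, hv, hvu⟩ : ∃ v, v ∈ orth Q (Submodule.span F {u}) ∧ v ∉ Submodule.span F {u} := by
    by_contra hc
    push Not at hc
    have h1 := finrank_orth hB (Submodule.span F {u})
    have h3 := Submodule.finrank_mono hc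
    rw [finrank_span_singleton hu0] at h1 h3
    omega
  have huv : B u v = 0 := mem_orth.1 hv u (Submodule.mem_span_singleton_self u)
  obtain ⟨T, hT⟩ := exists_siegel hB hu huv
  refine h.isMaximalIn_of_leaf hq (by omega) (polarMat_det hB) (Or.inl rfl)
    (by rw [one_smul, polarMat_transpose]) hp hpo (Nat.card_eq_fintype_card.trans hF)
    (fun r hr => (isoI r).1 (hRD hr)) (fun g hg => ?_) (fun g hg => ?_) (fun g hg => ?_)
    (T := (T : GL (Fin n) F)) ⟨T, hΩ.symm ▸ siegel_mem_El hT, rfl⟩ (fun L hL => ?_)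
    fun M hM x hx hqx hun hσ hmove => ?_
  · obtain ⟨g', -, rfl⟩ := hg
    exact (isoI _).1 g'.2
  · obtain ⟨g', hg', rfl⟩ := hg
    exact TwoRank.det_omega hg'
  · exact ⟨⟨g, (isoI g).2 hg⟩ * ⟨g, (isoI g).2 hg⟩, sq_mem_omega hB (by omega) _, rfl⟩
  · have hone := h.fm.eq_one_of_act (by rw [Fintype.card_fin]; omega) (Units.isUnit _) hL (by
      refine (Submodule.finrank_mono (?_ : _ ≤ Submodule.span F (Set.range ![v, u]))).trans
        ((finrank_range_le_card (R := F) ![v, u]).trans_eq (Fintype.card_fin 2))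
      rintro _ ⟨z, rfl⟩
      rw [Matrix.mulVecLin_apply, Matrix.sub_mulVec, Matrix.one_mulVec,
        show ((T : GL (Fin n) F) : Matrix (Fin n) (Fin n) F) *ᵥ z = ap T z from rfl, hT.2.2]
      have mv : v ∈ Submodule.span F (Set.range ![v, u]) := Submodule.subset_span ⟨0, rfl⟩
      have mu : u ∈ Submodule.span F (Set.range ![v, u]) := Submodule.subset_span ⟨1, rfl⟩
      rw [show z + B z u • v - B z v • u - (Q v * B z u) • u - z = B z u • v - (B z v + Q v * B z u) • u by module]
      exact sub_mem (Submodule.smul_mem _ _ mv) (Submodule.smul_mem _ _ mu))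
    obtain ⟨z, hz, hvz⟩ := exists_orth_one hB hvu
    have hzu : B z u = 0 := by rw [b_comm]; exact mem_orth.1 hz u (Submodule.mem_span_singleton_self u)
    have := hT.2.2 z
    rw [show ap T z = z by show _ *ᵥ z = z; rw [hone, Matrix.one_mulVec], hzu, b_comm z v, hvz, zero_smul,
      mul_zero, zero_smul, add_zero, sub_zero, one_smul] at this
    exact hu0 (sub_eq_self.1 this.symm)
  · obtain ⟨M', hM'⟩ : ∃ M', M' = M.comap (Cfsg.isometryGroup F ⇑Q).subtype := ⟨_, rfl⟩
    have memM' : ∀ g : Grp Q, g ∈ M' ↔ (g : GL (Fin n) F) ∈ M := fun g => by rw [hM']; rfl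
    obtain ⟨σ, hσM, hσj⟩ := hσ
    obtain ⟨σ', -, rfl⟩ := hM hσM
    have hle : M' ≤ El Q := fun g hg => by
      obtain ⟨g', hg', e⟩ := hM ((memM' g).1 hg)
      rw [← hΩ, ← (Subtype.ext e : g' = g)]
      exact hg'
    have hwhole : M' = El Q := orth_leaf hB (by omega) h2 hle (j := X x)
      (by rw [h.sq, hqx, EightMax.sg2_one, neg_one_smul]) ((iso_iff h2).1 (h.iso_X (fun r hr => (isoI r).1 (hRD hr)) x))
      (fun g hg hgx hgn => (memM' g).2 (hun g ⟨g, hΩ.symm ▸ hg, rfl⟩ hgx hgn))
      ((memM' σ').2 hσM) hσj (fun hall => hmove fun g hg => by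
        obtain ⟨g', -, rfl⟩ := hM hg
        exact hall g' ((memM' g').2 hg))
    refine le_antisymm hM ?_
    rintro _ ⟨g, hg, rfl⟩
    exact (memM' g).1 (hwhole ▸ (hΩ ▸ hg : g ∈ El Q))

end CfsgLib.QubitMax
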