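import Cfsg.Agent.Lib.EightMax.Pauli

/-!
Frames: matrices indexed by the vectors of a symplectic space over the field with two elements, multiplying up to
scalars as the vectors add and commuting up to the sign of the form, as many as there are matrix entries.
-/

set_option autoImplicit false
set_option linter.unusedSectionVars false

namespace CfsgLib.QubitMax

open Matrix
open CfsgLib.EightMax (Sform Isom tr tr_one tr_zero z2 sg2 sg2_zero sg2_one sg2_add sg2_self sg2_ne sg2_inj exists_sg2)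

variable {F : Type*} [Field F] {ι : Type*} [Fintype ι] [DecidableEq ι] {V : Type*} [AddCommGroup V]

/-- A frame of Pauli matrices. -/
structure Fm (s : V → V → ZMod 2) (X : V → Matrix ι ι F) : Prop where
  form : Sform s
  two : (2 : F) ≠ 0
  one : X 0 = 1
  mul : ∀ v w, ∃ c : F, c ≠ 0 ∧ X v * X w = c • X (v + w)
  comm : ∀ v w, X v * X w = sg2 F (s v w) • (X w * X v)
  sq : ∀ v, ∃ e : ZMod 2, X v * X v = sg2 F e • 1
  card : Nat.card V = Fintype.card ι * Fintype.card ι

/-- `A` moves the frame as `L` prescribes. -/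
def Act (X : V → Matrix ι ι F) (A : Matrix ι ι F) (L : V → V) : Prop :=
  ∀ v, ∃ c : F, A * X v = c • (X (L v) * A)

theorem Act.comp {X : V → Matrix ι ι F} {A B : Matrix ι ι F} {L K : V → V} (hA : Act X A L) (hB : Act X B K) :
    Act X (A * B) (L ∘ K) := fun v => by
  obtain ⟨c, hc⟩ := hB v
  obtain ⟨e, he⟩ := hA (K v)
  exact ⟨c * e, by rw [Matrix.mul_assoc, hc, Matrix.mul_smul, ← Matrix.mul_assoc, he, Matrix.smul_mul, smul_smul,
    Matrix.mul_assoc]; rfl⟩

theorem Act.smul {X : V → Matrix ι ι F} {A : Matrix ι ι F} {L : V → V} (hA : Act X A L) (a : F) :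
    Act X (a • A) L := fun v => by
  obtain ⟨c, hc⟩ := hA v
  exact ⟨c, by rw [Matrix.smul_mul, hc, Matrix.mul_smul, smul_comm]⟩

theorem act_one (X : V → Matrix ι ι F) : Act X (1 : Matrix ι ι F) id := fun v => ⟨1, by simp⟩

namespace Fm

variable {s : V → V → ZMod 2} {X : V → Matrix ι ι F} (h : Fm s X) [Nonempty ι]
include h

theorem finite : Finite V := Nat.finite_of_card_ne_zero (by rw [h.card]; simp)

theorem isUnit (v : V) : IsUnit (X v) := by
  obtain ⟨e, he⟩ := h.sq v
  exact IsUnit.of_mul_eq_one (sg2 F e • X v) (by rw [Matrix.mul_smul, he, smul_smul, sg2_self, one_smul])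

theorem ne_zero (v : V) : X v ≠ 0 := (h.isUnit v).ne_zero

theorem card_ne : (Fintype.card ι : F) ≠ 0 := by
  intro e
  obtain ⟨k, hk⟩ : ∃ k, Nat.card V = 2 ^ k := by
    haveI := h.finite
    haveI : Fact (Nat.Prime 2) := ⟨Nat.prime_two⟩
    exact IsPGroup.iff_card.1 (fun g : Multiplicative V => ⟨1, by
      rw [pow_one, pow_two]; exact congrArg Multiplicative.ofAdd (h.form.two _)⟩ : IsPGroup 2 (Multiplicative V))
      |>.imp fun k hk => (Nat.card_congr Multiplicative.ofAdd).trans hk
  have := congrArg (fun n : ℕ => (n : F)) (hk.symm.trans h.card)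
  simp only [Nat.cast_pow, Nat.cast_ofNat, Nat.cast_mul, e, mul_zero] at this
  exact pow_ne_zero k h.two this

/-- The matrices of a frame are linearly independent. -/
theorem coeff_zero [Fintype V] {a : V → F} (ha : ∑ v, a v • X v = 0) (u : V) : a u = 0 := by
  classical
  have key : ∀ w, ∑ v, (sg2 F (s v w) * a v) • X v = 0 := by
    intro w
    have e := congrArg (fun A : Matrix ι ι F => A * X w) ha
    simp only [Finset.sum_mul, Matrix.smul_mul, Matrix.zero_mul, h.comm _ w, smul_smul, mul_comm (a _)] at e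
    have e' : X w * (∑ v, (sg2 F (s v w) * a v) • X v) = X w * 0 := by
      rw [Finset.mul_sum, Matrix.mul_zero, ← e]
      exact Finset.sum_congr rfl fun v _ => Matrix.mul_smul _ _ _
    exact (h.isUnit w).mul_left_cancel e'
  have e := Finset.sum_eq_zero (s := (Finset.univ : Finset V))
    (f := fun w => sg2 F (s u w) • ∑ v, (sg2 F (s v w) * a v) • X v) fun w _ => by rw [key, smul_zero]
  simp only [Finset.smul_sum, smul_smul] at e
  rw [Finset.sum_comm] at e
  simp only [← Finset.sum_smul] at e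
  rw [Finset.sum_eq_single u] at e
  · have hsum : (∑ w : V, sg2 F (s u w) * (sg2 F (s u w) * a u)) = (Fintype.card V : F) * a u := by
      simp only [← mul_assoc, sg2_self, one_mul, Finset.sum_const, Finset.card_univ, nsmul_eq_mul]
    rw [hsum, smul_eq_zero, mul_eq_zero, ← Nat.card_eq_fintype_card, h.card, Nat.cast_mul, mul_eq_zero,
      or_iff_left (h.ne_zero u)] at e
    exact (e.resolve_left fun e' => h.card_ne (e'.elim id id))
  · intro v _ hv
    obtain ⟨y, hy⟩ := h.form.exists_one (a := u + v) fun e0 => hv (h.form.eq_of_add_eq_zero e0).symm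
    have e0 : ∑ w : V, sg2 F (s u w) * (sg2 F (s v w) * a v) = 0 := by
      refine Finset.sum_involution (fun w _ => w + y) (fun w _ => ?_) (fun w _ _ e0 => ?_) (fun w _ => Finset.mem_univ _)
        fun w _ => h.form.add_add_cancel w y
      · have e1 : sg2 F (s u (w + y)) * sg2 F (s v (w + y)) = -(sg2 F (s u w) * sg2 F (s v w)) := by
          rw [← sg2_add, ← sg2_add, ← h.form.add_left, h.form.add_right, hy, sg2_add, sg2_one, h.form.add_left]
          ring
        linear_combination (a v) * e1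
      · rw [add_eq_left.1 e0, h.form.zero_right] at hy
        exact absurd hy (by decide)
    rw [e0, zero_smul]
  · simp

/-- Every matrix is a combination of the frame. -/
theorem exists_coeff [Fintype V] (A : Matrix ι ι F) : ∃ a : V → F, A = ∑ v, a v • X v := by
  have hli : LinearIndependent F X := Fintype.linearIndependent_iff.2 fun g hg i => h.coeff_zero hg i
  have htop := hli.span_eq_top_of_card_eq_finrank' (by
    rw [Module.finrank_matrix, Module.finrank_self, mul_one, ← Nat.card_eq_fintype_card, h.card])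
  obtain ⟨a, ha⟩ := (Submodule.mem_span_range_iff_exists_fun F).1 (htop ▸ Submodule.mem_top (x := A))
  exact ⟨a, ha.symm⟩

/-- A matrix commuting up to given signs with some vectors is supported on the vectors with those signs. -/
theorem supp [Fintype V] {A : Matrix ι ι F} {a : V → F} (hA : A = ∑ v, a v • X v) {w : V} {e : ZMod 2}
    (hw : A * X w = sg2 F e • (X w * A)) {v : V} (hv : a v ≠ 0) : s v w = e := by
  classical
  rw [hA, Finset.sum_mul, Finset.mul_sum, Finset.smul_sum] at hw
  have h0 : X w * ∑ v, ((sg2 F (s v w) - sg2 F e) * a v) • X v = X w * 0 := by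
    rw [Matrix.mul_zero, Finset.mul_sum, ← sub_eq_zero.2 hw, ← Finset.sum_sub_distrib]
    refine Finset.sum_congr rfl fun u _ => ?_
    rw [Matrix.smul_mul, h.comm u w, Matrix.mul_smul, smul_smul, Matrix.mul_smul, smul_smul, ← sub_smul]
    congr 1
    ring
  have := h.coeff_zero ((h.isUnit w).mul_left_cancel h0) v
  exact sg2_inj h.two (sub_eq_zero.1 ((mul_eq_zero.1 this).resolve_right hv))

/-- A matrix commuting up to signs with the whole frame is a multiple of one member. -/
theorem eq_single {A : Matrix ι ι F} (hA : A ≠ 0)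
    (hc : ∀ w, ∃ e, A * X w = sg2 F e • (X w * A)) : ∃ (c : F) (u : V), c ≠ 0 ∧ A = c • X u := by
  classical
  haveI := h.finite
  haveI := Fintype.ofFinite V
  obtain ⟨a, ha⟩ := h.exists_coeff A
  obtain ⟨u, hu⟩ : ∃ u, a u ≠ 0 := by
    by_contra hno
    push Not at hno
    exact hA (by rw [ha]; exact Finset.sum_eq_zero fun v _ => by rw [hno, zero_smul])
  refine ⟨a u, u, hu, ?_⟩
  rw [ha, Finset.sum_eq_single u (fun v _ hv => ?_) (by simp)]
  by_cases hav : a v = 0
  · rw [hav, zero_smul]
  · refine absurd (h.form.ext fun w => ?_) hv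
    obtain ⟨e, he⟩ := hc w
    rw [h.supp ha he hav, h.supp ha he hu]

theorem inj {v w : V} {c : F} (e : X v = c • X w) : v = w := by
  classical
  haveI := h.finite
  haveI := Fintype.ofFinite V
  by_contra hne
  have := h.coeff_zero (a := fun u => (if u = v then (1 : F) else 0) - if u = w then c else 0) (by
    simp only [sub_smul, Finset.sum_sub_distrib, ite_smul, zero_smul, one_smul, Finset.sum_ite_eq',
      Finset.mem_univ, if_true, e, sub_self]) v
  simp [hne] at this

theorem act_ne {A : Matrix ι ι F} (hu : IsUnit A) {L : V → V} {v : V} {c : F}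
    (e : A * X v = c • (X (L v) * A)) : c ≠ 0 := fun e0 => by
  rw [e0, zero_smul] at e
  exact (hu.mul (h.isUnit v)).ne_zero e

theorem act_uniq {A : Matrix ι ι F} (hu : IsUnit A) {L K : V → V} (hL : Act X A L) (hK : Act X A K) : L = K :=
  funext fun v => by
    obtain ⟨c, hc⟩ := hL v
    obtain ⟨e, he⟩ := hK v
    rw [hc, ← Matrix.smul_mul, ← Matrix.smul_mul] at he
    exact h.inj (c := c⁻¹ * e) (by rw [mul_smul, ← hu.mul_left_injective he, inv_smul_smul₀ (h.act_ne hu hc)])

theorem act_isom {A : Matrix ι ι F} (hu : IsUnit A) {L : V → V} (hL : Act X A L) : Isom s L := by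
  have hh : ∀ {x y : V} {a b : F}, A * X x = a • (X (L x) * A) → A * X y = b • (X (L y) * A) →
      A * (X x * X y) = (a * b) • (X (L x) * X (L y) * A) := fun {x y a b} ha hb => by
    rw [← Matrix.mul_assoc, ha, Matrix.smul_mul, Matrix.mul_assoc, hb, Matrix.mul_smul, smul_smul, Matrix.mul_assoc]
  constructor
  · intro v w
    obtain ⟨a, ha⟩ := hL v
    obtain ⟨b, hb⟩ := hL w
    obtain ⟨c, hc⟩ := hL (v + w)
    obtain ⟨d, hd0, hd⟩ := h.mul v w
    obtain ⟨d', hd0', hd'⟩ := h.mul (L v) (L w)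
    have e := hh ha hb
    rw [hd, hd', Matrix.mul_smul, hc, smul_smul, Matrix.smul_mul, smul_smul, ← Matrix.smul_mul,
      ← Matrix.smul_mul] at e
    refine h.inj (c := (d * c)⁻¹ * (a * b * d')) ?_
    rw [mul_smul, ← hu.mul_left_injective e, inv_smul_smul₀ (mul_ne_zero hd0 (h.act_ne hu hc))]
  · intro v w
    obtain ⟨a, ha⟩ := hL v
    obtain ⟨b, hb⟩ := hL w
    have e := hh ha hb
    rw [h.comm v w, Matrix.mul_smul, hh hb ha, smul_smul, h.comm (L v), Matrix.smul_mul, smul_smul,
      mul_comm b a] at e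
    have hnz : X (L w) * X (L v) * A ≠ 0 := (((h.isUnit _).mul (h.isUnit _)).mul hu).ne_zero
    refine sg2_inj h.two (mul_left_cancel₀ (mul_ne_zero (h.act_ne hu ha) (h.act_ne hu hb)) ?_)
    rw [← smul_left_injective F hnz e, mul_comm]

theorem act_X (u : V) : Act X (X u) id := fun v => ⟨sg2 F (s u v), h.comm u v⟩

/-- The factor in `Act` is a fourth root of unity. -/
theorem act_pow_four {A : Matrix ι ι F} (hu : IsUnit A) {L : V → V} {v : V} {c : F}
    (e : A * X v = c • (X (L v) * A)) : c ^ 4 = 1 := by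
  obtain ⟨f, hf⟩ := h.sq v
  obtain ⟨f', hf'⟩ := h.sq (L v)
  have e2 : A * (X v * X v) = (c * c) • (X (L v) * X (L v) * A) := by
    rw [← Matrix.mul_assoc, e, Matrix.smul_mul, Matrix.mul_assoc, e, Matrix.mul_smul, smul_smul, Matrix.mul_assoc]
  rw [hf, hf', Matrix.mul_smul, Matrix.mul_one, Matrix.smul_mul, Matrix.one_mul, smul_smul] at e2
  have e3 := smul_left_injective F hu.ne_zero e2
  calc c ^ 4 = (c * c * sg2 F f') ^ 2 := by
        rw [mul_pow, pow_two (sg2 F f'), sg2_self]; ring
    _ = 1 := by rw [← e3, pow_two, sg2_self]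

/-- A matrix inducing the identity is a multiple of a member of the frame. -/
theorem act_id {A : Matrix ι ι F} (hu : IsUnit A) (hA : Act X A id) : ∃ (c : F) (u : V), c ≠ 0 ∧ A = c • X u := by
  refine h.eq_single hu.ne_zero fun w => ?_
  obtain ⟨c, hc⟩ := hA w
  obtain ⟨f, hf⟩ := h.sq w
  have e2 : A * (X w * X w) = (c * c) • (X w * X w * A) := by
    rw [← Matrix.mul_assoc, hc, Matrix.smul_mul, Matrix.mul_assoc]
    simp only [id] at hc ⊢
    rw [hc, Matrix.mul_smul, smul_smul, Matrix.mul_assoc]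
  rw [hf, Matrix.mul_smul, Matrix.mul_one, Matrix.smul_mul, Matrix.one_mul, smul_smul] at e2
  have e3 := smul_left_injective F hu.ne_zero e2
  obtain ⟨e, rfl⟩ := exists_sg2 (show c * c = 1 from mul_right_cancel₀ (sg2_ne f) (by rw [← e3, one_mul]))
  exact ⟨e, hc⟩

theorem act_inv {A B : Matrix ι ι F} (hAB : A * B = 1) (hBA : B * A = 1) {L : V → V} (hA : Act X A L) :
    ∃ K, Act X B K ∧ (∀ v, L (K v) = v) ∧ ∀ v, K (L v) = v := by
  haveI := h.finite
  have hu : IsUnit A := IsUnit.of_mul_eq_one B hAB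
  have hL := h.act_isom hu hA
  have hinj : Function.Injective L := fun a b e => h.form.ext fun c => by rw [← hL.pres a c, e, hL.pres]
  obtain ⟨e, he⟩ : ∃ e : V ≃ V, ∀ v, e v = L v :=
    ⟨Equiv.ofBijective L ⟨hinj, Finite.injective_iff_surjective.1 hinj⟩, fun _ => rfl⟩
  refine ⟨e.symm, fun v => ?_, fun v => by rw [← he, e.apply_symm_apply],
    fun v => by rw [← he, e.symm_apply_apply]⟩
  obtain ⟨c, hc⟩ := hA (e.symm v)
  rw [← he, e.apply_symm_apply] at hc
  refine ⟨c⁻¹, ?_⟩
  have hc0 : c ≠ 0 := fun e0 => by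
    rw [e0, zero_smul] at hc
    exact (hu.mul (h.isUnit _)).ne_zero hc
  have e2 := congrArg (fun Y => c⁻¹ • (B * Y * B)) hc
  simp only [Matrix.mul_smul, Matrix.smul_mul, smul_smul, inv_mul_cancel₀ hc0, one_smul, Matrix.mul_assoc,
    hAB, Matrix.mul_one] at e2
  rw [← Matrix.mul_assoc B A, hBA, Matrix.one_mul] at e2
  exact e2.symm

/-- Two matrices with the same action differ by a multiple of a member of the frame. -/
theorem act_eq {A B : Matrix ι ι F} (hA : IsUnit A) (hB : IsUnit B) {L : V → V} (aA : Act X A L) (aB : Act X B L) :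
    ∃ (c : F) (u : V), c ≠ 0 ∧ A = c • (B * X u) := by
  obtain ⟨B', rfl⟩ := hB
  obtain ⟨K, hK, -, hKL⟩ := h.act_inv B'.mul_inv B'.inv_mul aB
  obtain ⟨c, u, hc, e⟩ := h.act_id ((B'⁻¹).isUnit.mul hA) (A := ((B'⁻¹ : (Matrix ι ι F)ˣ) : Matrix ι ι F) * A) (by
    have := hK.comp aA
    rwa [show K ∘ L = id from funext hKL] at this)
  refine ⟨c, u, hc, ?_⟩
  have := congrArg (fun Y => (B' : Matrix ι ι F) * Y) e
  rwa [← Matrix.mul_assoc, Units.mul_inv, Matrix.one_mul, Matrix.mul_smul] at this

/-- The matrix inducing the transvection at a vector. -/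
theorem transvection {v : V} {γ : F} {Y : Matrix ι ι F} (hY : Y = γ • X v) (hY2 : Y * Y = -1) :
    (1 + Y) * (1 - Y) = (2 : F) • (1 : Matrix ι ι F) ∧ IsUnit (1 + Y) ∧ Act X (1 + Y) (tr s v) := by
  have h1 : (1 + Y) * (1 - Y) = (2 : F) • (1 : Matrix ι ι F) := by
    rw [Matrix.add_mul, Matrix.mul_sub, Matrix.mul_sub, Matrix.one_mul, Matrix.one_mul, Matrix.mul_one, hY2]
    module
  refine ⟨h1, IsUnit.of_mul_eq_one ((2 : F)⁻¹ • (1 - Y))
    (by rw [Matrix.mul_smul, h1, smul_smul, inv_mul_cancel₀ h.two, one_smul]), fun w => ?_⟩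
  rcases z2 (s w v) with e | e
  · refine ⟨1, ?_⟩
    rw [tr_zero e, one_smul, Matrix.add_mul, Matrix.mul_add, Matrix.one_mul, Matrix.mul_one, hY, Matrix.smul_mul,
      Matrix.mul_smul, h.comm w v, e, sg2_zero, one_smul]
  · obtain ⟨d, hd0, hd⟩ := h.mul v w
    refine ⟨γ * d, ?_⟩
    have hYw : Y * X w = (γ * d) • X (v + w) := by rw [hY, Matrix.smul_mul, hd, smul_smul]
    have hwY : X w * Y = -(Y * X w) := by
      rw [hY, Matrix.mul_smul, Matrix.smul_mul, h.comm w v, e, sg2_one, smul_smul, mul_neg, mul_one, neg_smul]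
    rw [tr_one e, add_comm w v, ← Matrix.smul_mul, ← hYw, Matrix.add_mul, Matrix.mul_add, Matrix.one_mul,
      Matrix.mul_one, Matrix.mul_assoc Y, hwY, Matrix.mul_neg, ← Matrix.mul_assoc, hY2, Matrix.neg_mul,
      Matrix.one_mul, neg_neg, add_comm]

end Fm

end CfsgLib.QubitMax
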