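import Cfsg.Agent.Lib.QubitMax.Frame

/-!
Vectors of value one of a quadratic map over the field with two elements, and the triviality of an isometry whose
commutators with pairs of transvections fix no vector of value one.
-/

set_option autoImplicit false
set_option linter.unusedSectionVars false

namespace CfsgLib.QubitMax

open CfsgLib.EightMax (Sform Isom tr tr_one tr_zero z2)

variable {W : Type*} [AddCommGroup W]

/-- A quadratic map polarising to the form. -/
structure Qd (s : W → W → ZMod 2) (q : W → ZMod 2) : Prop where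
  form : Sform s
  add : ∀ a b, q (a + b) = q a + q b + s a b
  big : 16 ≤ Nat.card W

namespace Qd

variable {s : W → W → ZMod 2} {q : W → ZMod 2} (h : Qd s q)
include h

theorem finite : Finite W := Nat.finite_of_card_ne_zero (by have := h.big; omega)

theorem zero : q 0 = 0 := by
  have := h.add 0 0
  rw [add_zero, h.form.zero_left, add_zero] at this
  exact left_eq_add.1 this

theorem ne_zero {a : W} (ha : q a = 1) : a ≠ 0 := fun e => by
  rw [e, h.zero] at ha
  exact absurd ha (by decide)

/-- A subgroup with more elements than the square root of the space has a vector of value one. -/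
theorem ns_in (A : AddSubgroup W) (hA : Nat.card W < Nat.card A * Nat.card A) : ∃ a ∈ A, q a = 1 := by
  haveI := h.finite
  by_contra hno
  push Not at hno
  have hz : ∀ a ∈ A, q a = 0 := fun a ha => (z2 _).resolve_right (hno a ha)
  have hiso : A ≤ perp h.form A := fun a ha b hb => by
    have := h.add a b
    rw [hz _ (A.add_mem ha hb), hz a ha, hz b hb, zero_add, zero_add] at this
    exact this.symm
  have := Nat.mul_le_mul_left (Nat.card A) (AddSubgroup.card_le_of_le hiso)
  rw [card_perp h.form A] at this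
  omega

/-- The vectors orthogonal to one. -/
def pr (a : W) : AddSubgroup W where
  carrier := {x | s x a = 0}
  add_mem' {x y} hx hy := by
    show s (x + y) a = 0
    rw [h.form.add_left, hx, hy, add_zero]
  zero_mem' := h.form.zero_left a
  neg_mem' {x} hx := by
    show s (-x) a = 0
    rw [h.form.neg_eq]; exact hx

theorem mem_pr {a x : W} : x ∈ h.pr a ↔ s x a = 0 := Iff.rfl

theorem half (A : AddSubgroup W) (a : W) : Nat.card A ≤ 2 * Nat.card (A ⊓ h.pr a : AddSubgroup W) := by
  haveI := h.finite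
  let f : A →+ ZMod 2 := AddMonoidHom.mk' (fun x => s (x : W) a) fun x y => h.form.add_left _ _ _
  have h1 := AddSubgroup.card_eq_card_quotient_mul_card_addSubgroup f.ker
  rw [Nat.card_congr (QuotientAddGroup.quotientKerEquivRange f).toEquiv] at h1
  have h2 : Nat.card f.range ≤ 2 :=
    (Nat.card_le_card_of_injective _ Subtype.val_injective).trans (by simp)
  have h3 : Nat.card f.ker = Nat.card (A ⊓ h.pr a : AddSubgroup W) :=
    Nat.card_congr
      { toFun := fun x => ⟨(x : A), (x : A).2, AddMonoidHom.mem_ker.1 x.2⟩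
        invFun := fun x => ⟨⟨x, x.2.1⟩, AddMonoidHom.mem_ker.2 x.2.2⟩
        left_inv := fun x => rfl
        right_inv := fun x => rfl }
  rw [h1, h3]
  exact Nat.mul_le_mul_right _ h2

theorem card_pr (a : W) : Nat.card W ≤ 2 * Nat.card (h.pr a) := by
  have := h.half ⊤ a
  rwa [AddSubgroup.card_top, top_inf_eq] at this

theorem card_pr_pr (a b : W) : Nat.card W ≤ 4 * Nat.card (h.pr a ⊓ h.pr b : AddSubgroup W) := by
  have := h.card_pr a
  have := h.half (h.pr a) b
  omega

/-- A vector of value one not orthogonal to a given one. -/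
theorem exists_ns_one {a : W} (ha : a ≠ 0) : ∃ r, q r = 1 ∧ s r a = 1 := by
  haveI := h.finite
  obtain ⟨r, hr⟩ := h.form.exists_one ha
  rw [h.form.symm] at hr
  rcases z2 (q r) with e | e
  swap
  · exact ⟨r, e, hr⟩
  obtain ⟨t, ht, hq⟩ : ∃ t ∈ h.pr a, q t + s r t = 1 := by
    by_contra hno
    push Not at hno
    have hlin : ∀ t ∈ h.pr a, q t + s r t = 0 := fun t ht => (z2 _).resolve_right (hno t ht)
    have hiso : h.pr a ≤ perp h.form (h.pr a) := fun x hx y hy => by
      have e0 := hlin _ ((h.pr a).add_mem hx hy)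
      rw [h.add, h.form.add_right] at e0
      have : ∀ a b c d u : ZMod 2, a + b + u + (c + d) = 0 → a + c = 0 → b + d = 0 → u = 0 := by decide
      exact this _ _ _ _ _ e0 (hlin x hx) (hlin y hy)
    have := Nat.mul_le_mul_left (Nat.card (h.pr a)) (AddSubgroup.card_le_of_le hiso)
    rw [card_perp h.form] at this
    have := h.card_pr a
    have := h.big
    nlinarith
  refine ⟨r + t, by rw [h.add, e, zero_add, hq], ?_⟩
  rw [h.form.add_left, hr, h.mem_pr.1 ht, add_zero]

/-- A vector of value zero is the sum of two of value one. -/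
theorem split {v : W} (hv : q v = 0) : ∃ t, q t = 1 ∧ q (v + t) = 1 := by
  have := h.card_pr v
  have := h.big
  obtain ⟨t, ht, hqt⟩ := h.ns_in (h.pr v) (by nlinarith)
  refine ⟨t, hqt, ?_⟩
  rw [h.add, hv, hqt, h.form.symm, h.mem_pr.1 ht, add_zero, zero_add]

/-- Two vectors of value one, orthogonal to a third and different from it, in a subgroup. -/
theorem two_partners (A : AddSubgroup W) {a : W} (haA : a ∈ A) (ha : q a = 1) (hperp : ∀ x ∈ A, s x a = 0)
    (hA : 8 ≤ Nat.card A) :
    ∃ b ∈ A, ∃ b' ∈ A, q b = 1 ∧ q b' = 1 ∧ b ≠ a ∧ b' ≠ a ∧ b ≠ b' := by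
  classical
  haveI := h.finite
  haveI := Fintype.ofFinite A
  have pick : ∀ S : Finset A, S.card < 8 → ∃ x, x ∉ S := fun S hS => by
    by_contra hno
    push Not at hno
    rw [Finset.eq_univ_iff_forall.2 hno, Finset.card_univ, ← Nat.card_eq_fintype_card] at hS
    omega
  have one : ∀ w ∈ A, w ≠ 0 → w ≠ a → ∃ b ∈ A, q b = 1 ∧ b ≠ a ∧ (b = w ∨ b = w + a) := by
    intro w hw hw0 hwa
    rcases z2 (q w) with e | e
    · exact ⟨w + a, A.add_mem hw haA, by rw [h.add, e, ha, hperp w hw, add_zero, zero_add],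
        fun e1 => hw0 (add_eq_right.1 e1), Or.inr rfl⟩
    · exact ⟨w, hw, e, hwa, Or.inl rfl⟩
  obtain ⟨w, hw⟩ := pick {0, ⟨a, haA⟩} (Finset.card_le_two.trans_lt (by norm_num))
  simp only [Finset.mem_insert, Finset.mem_singleton, not_or] at hw
  obtain ⟨b, hbA, hb, hba, -⟩ := one w w.2 (fun e => hw.1 (Subtype.ext e)) fun e => hw.2 (Subtype.ext e)
  obtain ⟨w', hw'⟩ := pick {0, ⟨a, haA⟩, ⟨b, hbA⟩, ⟨b + a, A.add_mem hbA haA⟩}
    (Finset.card_le_four.trans_lt (by norm_num))
  simp only [Finset.mem_insert, Finset.mem_singleton, not_or] at hw'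
  obtain ⟨b', hb'A, hb', hb'a, hor⟩ := one w' w'.2 (fun e => hw'.1 (Subtype.ext e)) fun e => hw'.2.1 (Subtype.ext e)
  refine ⟨b, hbA, b', hb'A, hb, hb', hba, hb'a, fun e => ?_⟩
  rcases hor with rfl | rfl
  · exact hw'.2.2.1 (Subtype.ext e.symm)
  · exact hw'.2.2.2 (Subtype.ext (by show (w' : W) = b + a; rw [e, h.form.add_add_cancel]))

theorem isom_inj {L : W → W} (hL : Isom s L) : Function.Injective L :=
  fun a b e => h.form.ext fun c => by rw [← hL.pres a c, e, hL.pres]

theorem tr_conj {L : W → W} (hL : Isom s L) (a x : W) : L (tr s a x) = tr s (L a) (L x) := by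
  rcases z2 (s x a) with e | e
  · rw [tr_zero e, tr_zero (by rw [hL.pres, e])]
  · rw [tr_one e, tr_one (by rw [hL.pres, e]), hL.add]

theorem tr_comm {a b : W} (e : s a b = 0) (x : W) : tr s a (tr s b x) = tr s b (tr s a x) := by
  have := h.tr_conj (h.form.tr_isom b) a x
  rw [tr_zero (s := s) e] at this
  exact this.symm

/-- Two pairs of orthogonal transvections inducing the same map share their vectors. -/
theorem pair_eq {a b c d : W} (hab : s a b = 0) (hqa : q a = 1) (hqb : q b = 1) (hc : q c = 1) (hcd : c ≠ d)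
    (e : ∀ x, tr s c (tr s d x) = tr s a (tr s b x)) : c = a ∨ c = b := by
  obtain ⟨x, h1, h2⟩ := h.form.exists_one_one (h.ne_zero hc) (fun e0 => hcd (h.form.eq_of_add_eq_zero e0))
  rw [h.form.symm c] at h1
  rw [h.form.add_left, h.form.symm c, h1, add_eq_left, h.form.symm d] at h2
  have e1 := e x
  rw [tr_zero h2, tr_one h1] at e1
  rcases z2 (s x b) with eb | eb
  · rw [tr_zero eb] at e1
    rcases z2 (s x a) with ea | ea
    · rw [tr_zero ea, add_eq_left] at e1
      exact absurd e1 (h.ne_zero hc)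
    · rw [tr_one ea] at e1
      exact Or.inl (add_left_cancel e1)
  · rw [tr_one eb] at e1
    rcases z2 (s (x + b) a) with ea | ea
    · rw [tr_zero ea] at e1
      exact Or.inr (add_left_cancel e1)
    · rw [tr_one ea, add_assoc] at e1
      have := congrArg q (add_left_cancel e1)
      rw [hc, h.add, hqa, hqb, h.form.symm, hab] at this
      exact absurd this (by decide)

theorem tr_inj {u u' : W} (hu : u ≠ 0) (e : ∀ x, tr s u x = tr s u' x) : u = u' := by
  obtain ⟨x, hx⟩ := h.form.exists_one hu
  rw [h.form.symm] at hx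
  have e1 := e x
  rw [tr_one hx] at e1
  rcases z2 (s x u') with e2 | e2
  · rw [tr_zero e2, add_eq_left] at e1
    exact absurd e1 hu
  · rw [tr_one e2] at e1
    exact add_left_cancel e1

/-- An isometry commuting with the pairs of orthogonal transvections is trivial. -/
theorem eq_id_of_comm {L : W → W} (hL : Isom s L) (hq : ∀ a, q (L a) = q a)
    (hc : ∀ a b, q a = 1 → q b = 1 → s a b = 0 → a ≠ b → ∀ x,
      tr s (L a) (tr s (L b) x) = tr s a (tr s b x)) : L = id := by
  haveI := h.finite
  have fix : ∀ a, q a = 1 → L a = a := by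
    intro a ha
    have := h.card_pr a
    have := h.big
    obtain ⟨b, hb, b', hb', hqb, hqb', hba, hba', hbb⟩ := h.two_partners (h.pr a) (h.form.alt a) ha
      (fun x hx => hx) (by omega)
    have get : ∀ b, b ∈ h.pr a → q b = 1 → b ≠ a → L a = a ∨ L a = b := fun b hb hqb hba => by
      have sab : s a b = 0 := by rw [h.form.symm]; exact hb
      exact h.pair_eq sab ha hqb (by rw [hq, ha]) (fun e => hba (h.isom_inj hL e).symm)
        (hc a b ha hqb sab (Ne.symm hba))
    rcases get b hb hqb hba with e | e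
    · exact e
    rcases get b' hb' hqb' hba' with e' | e'
    · exact e'
    · exact absurd (e.symm.trans e') hbb
  funext v
  rcases z2 (q v) with e | e
  · obtain ⟨t, ht, ht'⟩ := h.split e
    have e1 := fix _ ht'
    rw [hL.add, fix t ht] at e1
    exact add_right_cancel e1
  · exact fix v e

/-- The commutator of an isometry with a pair of transvections. -/
def E (_h : Qd s q) (L : W → W) (a b : W) : W → W :=
  fun x => tr s (L a) (tr s (L b) (tr s b (tr s a x)))

theorem comm_of_E {L : W → W} {a b : W} (he : ∀ x, h.E L a b x = x) (x : W) :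
    tr s (L a) (tr s (L b) x) = tr s a (tr s b x) := by
  have := he (tr s a (tr s b x))
  rwa [E, h.form.tr_tr, h.form.tr_tr] at this

/-- **An isometry none of whose relevant commutators fixes a vector of value one is trivial.** -/
theorem eq_id {L : W → W} (hL : Isom s L) (hq : ∀ a, q (L a) = q a)
    (f1 : ∀ a, q a = 1 → L a = a → L = id)
    (f2 : ∀ a, q a = 1 → L (L a) = a → L ∘ L = id)
    (f3 : ∀ a, q a = 1 → L (L (L a)) = a → L ∘ L ∘ L = id)
    (fe : ∀ a b c, q a = 1 → q b = 1 → q c = 1 → h.E L a b c = c → ∀ x, h.E L a b x = x)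
    (hW : 64 ≤ Nat.card W ∨ ∀ A : AddSubgroup W, 4 ≤ Nat.card A → ∃ a ∈ A, q a = 1) : L = id := by
  classical
  haveI := h.finite
  by_contra hne
  have hfix : ∀ a, q a = 1 → L a ≠ a := fun a ha e => hne (f1 a ha e)
  have hinj := h.isom_inj hL
  have hsur := Finite.injective_iff_surjective.1 hinj
  have b16 := h.big
  rcases hW with hW | hW
  · -- the large case
    obtain ⟨c, -, hc⟩ := h.ns_in ⊤ (by rw [AddSubgroup.card_top]; nlinarith)
    obtain ⟨c', hc'⟩ := hsur c
    obtain ⟨a, ha, hqa⟩ := h.ns_in (h.pr c ⊓ h.pr c') (by have := h.card_pr_pr c c'; nlinarith)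
    obtain ⟨b, hb, b', hb', hqb, hqb', hba, hba', hbb⟩ := h.two_partners (h.pr c ⊓ h.pr c' ⊓ h.pr a)
      (show a ∈ _ from ⟨ha, h.form.alt a⟩) hqa (fun x hx => hx.2) (by
        have := h.card_pr_pr c c'
        have := h.half (h.pr c ⊓ h.pr c') a
        omega)
    have get : ∀ b, b ∈ h.pr c ⊓ h.pr c' ⊓ h.pr a → q b = 1 → b ≠ a → L a = b := by
      intro b hb hqb hba
      have sab : s a b = 0 := by rw [h.form.symm]; exact hb.2
      have e1 : s c (L a) = 0 := by rw [← hc', hL.pres, h.form.symm]; exact ha.2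
      have e2 : s c (L b) = 0 := by rw [← hc', hL.pres, h.form.symm]; exact hb.1.2
      have e3 : s c a = 0 := by rw [h.form.symm]; exact ha.1
      have e4 : s c b = 0 := by rw [h.form.symm]; exact hb.1.1
      have he := fe a b c hqa hqb hc (by rw [E, tr_zero e3, tr_zero e4, tr_zero e2, tr_zero e1])
      exact (h.pair_eq sab hqa hqb (by rw [hq, hqa]) (fun e => hba (hinj e).symm) (h.comm_of_E he)).resolve_left
        (hfix a hqa)
    exact hbb ((get b hb hqb hba).symm.trans (get b' hb' hqb' hba'))
  -- no totally singular lines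
  have key : ∀ a, q a = 1 → (s a (L a) = 0 ∧ L (L a) = a) ∨ (L (L a) = a + L a ∧ L (L (L a)) = a) := by
    intro a ha
    obtain ⟨c, hc, hqc⟩ := hW (h.pr a ⊓ h.pr (tr s (L a) (L (L a)))) (by
      have := h.card_pr_pr a (tr s (L a) (L (L a)))
      omega)
    have he : h.E L a (L a) c = c := by
      have hi : Isom s (tr s (L a)) := h.form.tr_isom _
      rw [E, tr_zero (h.mem_pr.1 hc.1)]
      rw [h.tr_conj hi, h.form.tr_tr, tr_zero (h.mem_pr.1 hc.2)]
    have hcm := h.comm_of_E (fe a (L a) c ha (by rw [hq, ha]) hqc he)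
    rcases z2 (s a (L a)) with e | e
    · refine Or.inl ⟨e, ?_⟩
      have hcm' : ∀ x, tr s (L (L a)) (tr s (L a) x) = tr s a (tr s (L a) x) := fun x => by
        rw [h.tr_comm (by rw [hL.pres, h.form.symm, e]), hcm]
      rcases h.pair_eq e ha (by rw [hq, ha]) (by rw [hq, hq, ha]) (fun e0 => hfix a ha (hinj e0)) hcm' with e1 | e1
      · exact e1
      · exact absurd (hinj e1) (hfix a ha)
    · refine Or.inr ?_
      have e1 : L (L a) = a + L a := by
        refine h.tr_inj (h.ne_zero (by rw [hq, hq, ha])) fun x => ?_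
        have := congrArg (tr s (L a)) (hcm x)
        rw [h.form.tr_tr] at this
        rw [this, h.tr_conj (h.form.tr_isom (L a)), h.form.tr_tr, tr_one e]
      refine ⟨e1, ?_⟩
      rw [e1, hL.add, e1, add_left_comm, h.form.two, add_zero]
  by_cases h0 : ∃ a, q a = 1 ∧ L (L a) = a
  · obtain ⟨a, ha, e⟩ := h0
    have hinv : ∀ x, L (L x) = x := congrFun (f2 a ha e)
    let D : W →+ W := AddMonoidHom.mk' (fun x => L x + x) fun a b => by rw [hL.add]; abel
    have hR : D.range ≤ D.ker := by
      rintro _ ⟨x, rfl⟩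
      rw [AddMonoidHom.mem_ker]
      show L (L x + x) + (L x + x) = 0
      rw [hL.add, hinv, add_comm x, h.form.two]
    have h1 := AddSubgroup.card_eq_card_quotient_mul_card_addSubgroup D.ker
    rw [Nat.card_congr (QuotientAddGroup.quotientKerEquivRange D).toEquiv] at h1
    have h2 := AddSubgroup.card_le_of_le hR
    obtain ⟨c, hc, hqc⟩ := hW D.ker (by
      by_contra h4
      push Not at h4
      nlinarith)
    exact hfix c hqc (h.form.eq_of_add_eq_zero (AddMonoidHom.mem_ker.1 hc))
  push Not at h0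
  have hsum : ∀ v, L (L v) = v + L v := by
    have one : ∀ a, q a = 1 → L (L a) = a + L a := fun a ha =>
      ((key a ha).resolve_left fun e => h0 a ha e.2).1
    intro v
    rcases z2 (q v) with e | e
    · obtain ⟨t, ht, ht'⟩ := h.split e
      have e1 := one _ ht'
      rw [hL.add, hL.add, one t ht] at e1
      exact add_right_cancel (e1.trans (add_add_add_comm _ _ _ _))
    · exact one v e
  -- a vector of value zero
  obtain ⟨a, -, ha⟩ := h.ns_in ⊤ (by rw [AddSubgroup.card_top]; nlinarith)
  obtain ⟨b, hb, -, -, hqb, -, hba, -⟩ := h.two_partners (h.pr a) (h.form.alt a) ha (fun x hx => hx)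
    (by have := h.card_pr a; omega)
  obtain ⟨z, hz⟩ : ∃ z, z = b + a := ⟨_, rfl⟩
  have hz0 : z ≠ 0 := fun e => hba (h.form.eq_of_add_eq_zero (hz ▸ e))
  have hqz : q z = 0 := by rw [hz, h.add, hqb, ha, h.mem_pr.1 hb]; decide
  have hsz : s z (L z) = 0 := by
    have e1 := h.add z (L z)
    rw [← hsum, hq, hq, hqz, zero_add, zero_add] at e1
    exact e1.symm
  obtain ⟨A, hA⟩ : ∃ A, A = AddSubgroup.zmultiples z ⊔ AddSubgroup.zmultiples (L z) := ⟨_, rfl⟩
  have mA : ∀ x ∈ A, q x = 0 := by
    have one : ∀ {c y : W}, y ∈ AddSubgroup.zmultiples c → y = 0 ∨ y = c := by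
      rintro c y ⟨k, rfl⟩
      have h2 : (2 : ℤ) • c = 0 := by rw [two_zsmul, h.form.two]
      rcases Int.even_or_odd k with ⟨j, rfl⟩ | ⟨j, rfl⟩
      · left; show (j + j) • c = 0; rw [show j + j = j * 2 by ring, mul_zsmul, h2, zsmul_zero]
      · right; show (2 * j + 1) • c = c
        rw [add_zsmul, one_zsmul, mul_comm, mul_zsmul, h2, zsmul_zero, zero_add]
    intro x hx
    obtain ⟨p, hp, r, hr, rfl⟩ := AddSubgroup.mem_sup.1 (hA ▸ hx)
    rcases one hp with rfl | rfl <;> rcases one hr with rfl | rfl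
    · rw [add_zero, h.zero]
    · rw [zero_add, hq, hqz]
    · rw [add_zero, hqz]
    · rw [h.add, hq, hqz, hsz, add_zero, add_zero]
  have hA4 : 4 ≤ Nat.card A := by
    haveI := Fintype.ofFinite A
    have h1 : z ∈ A := hA ▸ AddSubgroup.mem_sup_left (AddSubgroup.mem_zmultiples z)
    have h2 : L z ∈ A := hA ▸ AddSubgroup.mem_sup_right (AddSubgroup.mem_zmultiples _)
    have hL0 : L 0 = 0 := by
      have := hL.add 0 0
      rw [add_zero] at this
      exact left_eq_add.1 this
    have hLz0 : L z ≠ 0 := fun e => hz0 (hinj (e.trans hL0.symm))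
    have hLzz : L z ≠ z := fun e => hz0 (by
      have := hsum z
      rwa [e, e, left_eq_add] at this)
    have hne2 : z + L z ≠ 0 := fun e => hLzz (h.form.eq_of_add_eq_zero e).symm
    have := Finset.card_le_univ ({(0 : A), ⟨z, h1⟩, ⟨L z, h2⟩, ⟨z + L z, A.add_mem h1 h2⟩} : Finset A)
    rw [Finset.card_insert_of_notMem (by simp [Subtype.ext_iff, Ne.symm hz0, Ne.symm hLz0, Ne.symm hne2]),
      Finset.card_insert_of_notMem (by simp [Subtype.ext_iff, Ne.symm hLzz, hLz0]),
      Finset.card_insert_of_notMem (by simp [Subtype.ext_iff, hz0]), Finset.card_singleton,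
      ← Nat.card_eq_fintype_card] at this
    omega
  obtain ⟨x, hx, hqx⟩ := hW A hA4
  rw [mA x hx] at hqx
  exact absurd hqx (by decide)

end Qd

end CfsgLib.QubitMax
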