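import Cfsg.Agent.Lib.QubitMax.Emb
import Cfsg.Agent.Lib.QubitMax.Four

/-!
Centralisers of members squaring to minus one in a real frame: they contain all unipotent isometries commuting with
the member, or only move the orthogonal members inside the frame.
-/

set_option autoImplicit false
set_option linter.unusedSectionVars false
set_option maxHeartbeats 1000000

namespace CfsgLib.QubitMax

open Matrix
open CfsgLib.EightMax (Sform Isom tr tr_one tr_zero z2 sg2 sg2_zero sg2_one sg2_self sg2_ne sg2_add sg2_inj exists_sg2)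

/-- Unipotent matrices in odd characteristic have determinant one. -/
theorem det_unipotent' {K : Type*} [Field K] [Finite K] {h : ℕ} {a : Matrix (Fin h) (Fin h) K}
    (ha : IsNilpotent (a - 1)) : a.det = 1 := by
  obtain ⟨p, _⟩ := CharP.exists K
  haveI : Fact p.Prime := ⟨CharP.char_is_prime K p⟩
  obtain ⟨m, hm⟩ := ha
  rcases Nat.eq_zero_or_pos h with rfl | hh
  · exact Matrix.det_fin_zero
  haveI : Nonempty (Fin h) := ⟨⟨0, hh⟩⟩
  have h1 : a ^ p ^ m = 1 := by
    rw [show a = 1 + (a - 1) by rw [add_sub_cancel], add_pow_char_pow_of_commute (R := Matrix (Fin h) (Fin h) K) p m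
      (Commute.one_left _), one_pow, pow_eq_zero_of_le (Nat.lt_pow_self (Fact.out : p.Prime).one_lt).le hm, add_zero]
  have h2 : a.det ^ p ^ m = 1 := by rw [← det_pow, h1, det_one]
  have h3 : (a.det - 1) ^ p ^ m = 0 := by rw [sub_pow_char_pow, h2, one_pow, sub_self]
  exact sub_eq_zero.1 (eq_zero_of_pow_eq_zero h3)

variable {F : Type*} [Field F] [Finite F] {ι : Type*} [Fintype ι] [DecidableEq ι] [Nonempty ι]
variable {V : Type} [AddCommGroup V]

/-- A real frame: members are isometries of a symmetric or alternating form. -/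
structure Real (J : Matrix ι ι F) (δ : F) (s : V → V → ZMod 2) (X : V → Matrix ι ι F) (q : V → ZMod 2)
    (M : Subgroup (GL ι F)) (p j : ℕ) : Prop where
  base : Base s X q 1 M
  sq : ∀ v, X v * X v = sg2 F (q v) • (1 : Matrix ι ι F)
  jdet : J.det ≠ 0
  sign : δ = 1 ∨ δ = -1
  jt : Jᵀ = δ • J
  isoX : ∀ v, (X v)ᵀ * J * X v = J
  isoM : ∀ g ∈ M, (g : Matrix ι ι F)ᵀ * J * (g : Matrix ι ι F) = J
  detM : ∀ g ∈ M, (g : Matrix ι ι F).det = 1
  prime : p.Prime
  odd : p % 2 = 1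
  card : Nat.card F = p
  dim : Fintype.card ι = 2 ^ j
  three : 3 ≤ j

namespace Real

variable {J : Matrix ι ι F} {δ : F} {s : V → V → ZMod 2} {X : V → Matrix ι ι F} {q : V → ZMod 2}
  {M : Subgroup (GL ι F)} {p j : ℕ} (h : Real J δ s X q M p j)
include h

theorem ns_dich {x : V} (hx0 : x ≠ 0) (hqx : q x = 1) :
    (∀ g : GL ι F, (g : Matrix ι ι F)ᵀ * J * (g : Matrix ι ι F) = J →
      (g : Matrix ι ι F) * X x = X x * (g : Matrix ι ι F) → IsNilpotent ((g : Matrix ι ι F) - 1) → g ∈ M) ∨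
    ∀ g ∈ M, (g : Matrix ι ι F) * X x = X x * (g : Matrix ι ι F) → Nrm s X x (g : Matrix ι ι F) := by
  classical
  letI := Fintype.ofFinite F
  have hF : Fintype.card F = p := by rw [← Nat.card_eq_fintype_card, h.card]
  have sf := h.base.fm.form
  haveI := h.base.fm.finite
  -- coordinates
  obtain ⟨e⟩ : Nonempty (Fin (2 ^ j) ≃ ι) := ⟨(Fintype.equivFinOfCardEq h.dim).symm⟩
  obtain ⟨K, _, _, k, φ, P₀, P₀', hk, hemb⟩ := exists_emb h.prime h.odd hF e h.jdet h.sign h.jt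
  haveI : NeZero (2 ^ j) := ⟨by positivity⟩
  obtain ⟨-, h2, i, hi, hbar⟩ := k.good_facts hk
  have hi0 : i ≠ 0 := fun e0 => by rw [e0, mul_zero] at hi; exact (neg_ne_zero.2 one_ne_zero) hi.symm
  obtain ⟨ω, hω⟩ : ∃ ω : V → K, ω = fun v => if q v = 1 then i else 1 := ⟨_, rfl⟩
  have hω2 : ∀ v, ω v * ω v = sg2 K (q v) := fun v => by
    rcases z2 (q v) with e0 | e0 <;> simp [hω, e0, hi, sg2_zero, sg2_one]
  have hω0 : ∀ v, ω v ≠ 0 := fun v => by
    rcases z2 (q v) with e0 | e0 <;> simp [hω, e0, hi0]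
  have hsg : ∀ z : ZMod 2, φ (sg2 F z) = sg2 K z := fun z => by
    rcases z2 z with rfl | rfl <;> simp [sg2_zero, sg2_one]
  have nice : ∀ {P P' : Matrix (Fin (2 ^ j)) (Fin (2 ^ j)) K}, Emb k φ e J P P' →
      Nice k s fun v => ω v • up φ e P P' (X v) := by
    intro P P' hP
    refine ⟨⟨sf, h2, ?_, fun v w => ?_, fun v w => ?_, fun v => ⟨0, ?_⟩, ?_⟩, fun v => ?_, fun v => ?_⟩
    · have hq0 : q 0 = 0 := h.base.quad.zero
      rw [h.base.fm.one, up_one hP.inv, show ω 0 = 1 by simp [hω, hq0], one_smul]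
    · obtain ⟨c, hc, e0⟩ := h.base.fm.mul v w
      refine ⟨ω v * ω w * φ c / ω (v + w), div_ne_zero (mul_ne_zero (mul_ne_zero (hω0 v) (hω0 w))
        ((map_ne_zero φ).2 hc)) (hω0 _), ?_⟩
      rw [Matrix.smul_mul, Matrix.mul_smul, ← up_mul hP.inv, e0, up_smul, smul_smul, smul_smul, smul_smul,
        div_mul_cancel₀ _ (hω0 _), mul_assoc]
    · rw [Matrix.smul_mul, Matrix.mul_smul, ← up_mul hP.inv, h.base.fm.comm v w, up_smul, up_mul hP.inv, hsg,
        Matrix.smul_mul, Matrix.mul_smul, smul_smul, smul_smul, smul_smul, smul_smul]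
      congr 1; ring
    · rw [Matrix.smul_mul, Matrix.mul_smul, smul_smul, ← up_mul hP.inv, h.sq v, up_smul, up_one hP.inv, smul_smul,
        hω2, hsg, sg2_self, sg2_zero]
    · rw [h.base.fm.card, h.dim, Fintype.card_fin]
    · show ω v • up φ e P P' (X v) * ω v • up φ e P P' (X v) = 1
      rw [Matrix.smul_mul, Matrix.mul_smul, smul_smul, ← up_mul hP.inv, h.sq v, up_smul, up_one hP.inv, smul_smul,
        hω2, hsg, sg2_self, one_smul]
    · have hu := hP.uni (X v) (h.isoX v)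
      cases k with
      | lin => trivial
      | unit C =>
        show Pauli.adj C (ω v • up φ e P P' (X v)) * (ω v • up φ e P P' (X v)) = 1
        rw [Pauli.adj_smul, Matrix.smul_mul, Matrix.mul_smul, smul_smul, show Pauli.adj C (up φ e P P' (X v)) * _ = 1 from hu]
        rcases z2 (q v) with e0 | e0
        · simp [hω, e0]
        · rw [show ω v = i by simp [hω, e0], hbar C rfl, neg_mul, hi, neg_neg, one_smul]
  obtain ⟨y, hy⟩ := sf.exists_one hx0
  obtain ⟨hh, eb, B, B', hB, hBB, e1, e2⟩ := exists_coord hk (nice hemb) hy (γ := 1) (one_mul 1)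
  obtain ⟨P, hPd⟩ : ∃ P, P = P₀ * B := ⟨_, rfl⟩
  obtain ⟨P', hP'd⟩ : ∃ P', P' = B' * P₀' := ⟨_, rfl⟩
  have hP : Emb k φ e J P P' := hPd ▸ hP'd ▸ hemb.conj hB hBB
  obtain ⟨U, hU⟩ : ∃ U : Matrix ι ι F → Matrix (Fin (2 ^ j)) (Fin (2 ^ j)) K, U = up φ e P P' := ⟨_, rfl⟩
  obtain ⟨Z, hZ⟩ : ∃ Z : V → Matrix (Fin (2 ^ j)) (Fin (2 ^ j)) K, Z = fun v => ω v • U (X v) := ⟨_, rfl⟩
  have Umul : ∀ A A', U (A * A') = U A * U A' := fun A A' => by rw [hU, up_mul hP.inv]
  have Uone : U 1 = 1 := by rw [hU, up_one hP.inv]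
  have Usmul : ∀ (a : F) A, U (a • A) = φ a • U A := fun a A => by rw [hU, up_smul]
  have Uinj : ∀ {A A'}, U A = U A' → A = A' := fun {A A'} e0 => up_inj hP.inv (hU ▸ e0)
  have hcard : 2 ^ j = 2 * hh := by
    have := Fintype.card_congr eb
    rw [Fintype.card_sum, Fintype.card_fin, Fintype.card_fin] at this
    omega
  have hh2 : hh = 2 ^ (j - 1) := by
    have : 2 ^ j = 2 * 2 ^ (j - 1) := by rw [← pow_succ', Nat.sub_add_cancel (by have := h.three; omega)]
    omega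
  have h4 : 4 ∣ hh := by
    rw [hh2, show (4 : ℕ) = 2 ^ 2 from rfl]
    exact pow_dvd_pow 2 (by have := h.three; omega)
  have hpos : 0 < hh := by rw [hh2]; positivity
  have c : Corner k eb s Z x y 1 := by
    have hZe : ∀ v, Z v = B' * (ω v • up φ e P₀ P₀' (X v)) * B := fun v => by
      rw [hZ, hU, hPd, hP'd, Matrix.mul_smul, Matrix.smul_mul, ← up_conj]
    refine ⟨?_, h4, hpos, hy, one_mul 1, ?_, ?_⟩
    · rw [hZ, hU]; exact nice hP
    · rw [one_smul, hZe, ← e1, one_smul]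
    · rw [hZe, ← e2]
  haveI := c.nezero'
  -- the image of the group
  obtain ⟨ψ, hψ⟩ : ∃ ψ : GL ι F →* GL (Fin (2 ^ j)) K, ∀ g, (ψ g : Matrix (Fin (2 ^ j)) (Fin (2 ^ j)) K) = U g :=
    ⟨Units.map ⟨⟨U, Uone⟩, Umul⟩, fun _ => rfl⟩
  obtain ⟨M', hM'⟩ : ∃ M', M' = M.map ψ := ⟨_, rfl⟩
  have hM'amb : M' ≤ k.amb (2 ^ j) := by
    rw [hM']
    rintro _ ⟨g, hg, rfl⟩
    refine ⟨?_, ?_⟩
    · rw [hψ, hU, up_det hP.inv, h.detM g hg, map_one]
    · rw [hψ, hU]; exact hP.uni _ (h.isoM g hg)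
  have mapM : ∀ g ∈ M, ψ g ∈ M' := fun g hg => hM' ▸ Subgroup.mem_map_of_mem ψ hg
  obtain ⟨Bg, hBg⟩ : ∃ Bg : Subgroup (GL (Fin hh) K), ∀ a, a ∈ Bg ↔
      ∃ (g : GL (Fin (2 ^ j)) K) (b : Matrix (Fin hh) (Fin hh) K), g ∈ M' ∧
        (g : Matrix (Fin (2 ^ j)) (Fin (2 ^ j)) K) = blk eb a b := by
    refine ⟨{ carrier := {a | ∃ (g : GL (Fin (2 ^ j)) K) (b : Matrix (Fin hh) (Fin hh) K), g ∈ M' ∧
                (g : Matrix (Fin (2 ^ j)) (Fin (2 ^ j)) K) = blk eb (a : Matrix (Fin hh) (Fin hh) K) b}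
              one_mem' := ⟨1, 1, one_mem _, by rw [Units.val_one, Units.val_one, blk_one]⟩
              mul_mem' := ?_, inv_mem' := ?_ }, fun a => Iff.rfl⟩
    · rintro a a' ⟨g, b, hg, eg⟩ ⟨g', b', hg', eg'⟩
      exact ⟨g * g', b * b', mul_mem hg hg', by rw [Units.val_mul, Units.val_mul, eg, eg', blk_mul]⟩
    · rintro a ⟨g, b, hg, eg⟩
      have hdb : b.det ≠ 0 := fun e0 => by
        have := (hM'amb hg).1
        rw [eg, blk_det, e0, mul_zero] at this
        exact zero_ne_one this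
      refine ⟨g⁻¹, b⁻¹, inv_mem hg, g.isUnit.mul_left_cancel ?_⟩
      rw [Units.mul_inv, eg, blk_mul, Units.mul_inv, Matrix.mul_nonsing_inv _ (isUnit_iff_ne_zero.2 hdb), blk_one]
  have Buni : ∀ a ∈ Bg, k.Uni (a : Matrix (Fin hh) (Fin hh) K) := fun a ha => by
    obtain ⟨g, b, hg, eg⟩ := (hBg a).1 ha
    exact ((uni_blk_iff eb _ _ k).1 (eg ▸ (hM'amb hg).2)).1
  obtain ⟨Bs, hBs⟩ : ∃ Bs : Subgroup (GL (Fin hh) K), ∀ a, a ∈ Bs ↔ k.Uni (a : Matrix (Fin hh) (Fin hh) K) ∧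
      ∃ (t : K) (a' : GL (Fin hh) K), t ≠ 0 ∧ a' ∈ Bg ∧
        (a' : Matrix (Fin hh) (Fin hh) K) = t • (a : Matrix (Fin hh) (Fin hh) K) := by
    refine ⟨{ carrier := {a | k.Uni (a : Matrix (Fin hh) (Fin hh) K) ∧ ∃ (t : K) (a' : GL (Fin hh) K), t ≠ 0 ∧
                a' ∈ Bg ∧ (a' : Matrix (Fin hh) (Fin hh) K) = t • (a : Matrix (Fin hh) (Fin hh) K)}
              one_mem' := ⟨by rw [Units.val_one]; exact k.uni_one, 1, 1, one_ne_zero, one_mem _, by rw [one_smul]⟩
              mul_mem' := ?_, inv_mem' := ?_ }, fun a => Iff.rfl⟩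
    · rintro a b ⟨ua, t, a', ht, ha', ea⟩ ⟨ub, t', b', ht', hb', eb'⟩
      refine ⟨by rw [Units.val_mul]; exact k.uni_mul ua ub, t * t', a' * b', mul_ne_zero ht ht', mul_mem ha' hb', ?_⟩
      rw [Units.val_mul, Units.val_mul, ea, eb', Matrix.smul_mul, Matrix.mul_smul, smul_smul]
    · rintro a ⟨ua, t, a', ht, ha', ea⟩
      refine ⟨k.uni_inv ua a.mul_inv, t⁻¹, a'⁻¹, inv_ne_zero ht, inv_mem ha', a'.isUnit.mul_left_cancel ?_⟩
      rw [Units.mul_inv, ea, Matrix.smul_mul, Matrix.mul_smul, smul_smul, Units.mul_inv, mul_inv_cancel₀ ht, one_smul]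
  -- a block of a member of the group
  have inB : ∀ (g : GL ι F) (a b : Matrix (Fin hh) (Fin hh) K), g ∈ M → U g = blk eb a b →
      ∃ a' ∈ Bg, (a' : Matrix (Fin hh) (Fin hh) K) = a := by
    intro g a b hg eg
    have hd : a.det ≠ 0 := fun e0 => by
      have := (hM'amb (mapM g hg)).1
      rw [hψ, eg, blk_det, e0, zero_mul] at this
      exact zero_ne_one this
    exact ⟨GeneralLinearGroup.mkOfDetNeZero a hd, (hBg _).2 ⟨ψ g, b, mapM g hg, by rw [hψ, eg]; rfl⟩, rfl⟩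
  have hYB : ∀ u : c.perp2, ∃ a' ∈ Bg, (a' : Matrix (Fin hh) (Fin hh) K) = (ω u)⁻¹ • c.blkY u := fun u => by
    obtain ⟨g, hg, eg⟩ := h.base.memX u
    refine inB g _ ((ω u)⁻¹ • c.blkY u) hg ?_
    rw [← blk_smul, ← c.X_eq, congrFun hZ (u : V), smul_smul, inv_mul_cancel₀ (hω0 _), one_smul, eg]
  have hZ0 : ∀ v, U (X v) = (ω v)⁻¹ • Z v := fun v => by
    rw [hZ, smul_smul, inv_mul_cancel₀ (hω0 v), one_smul]
  have hcomm : ∀ g : GL ι F, (g : Matrix ι ι F) * X x = X x * (g : Matrix ι ι F) →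
      U g * Z x = Z x * U g := fun g hg => by
    rw [hZ, Matrix.mul_smul, Matrix.smul_mul, ← Umul, hg, Umul]
  have hblock : ∀ g : GL ι F, (g : Matrix ι ι F) * X x = X x * (g : Matrix ι ι F) →
      ∃ a b, U g = blk eb a b := fun g hg => by
    refine exists_blk eb c.two ?_
    rw [← c.hx, one_smul, hcomm g hg]
  have hlift : ∀ a : c.perp2, ∃ g ∈ Bg, Act c.blkY (g : Matrix (Fin hh) (Fin hh) K)
      (tr (fun v w : c.perp2 => s v w) a) := by
    intro a
    by_cases ha : a = 0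
    · refine ⟨1, one_mem _, ?_⟩
      have : tr (fun v w : c.perp2 => s v w) a = id := funext fun w => by
        rw [ha, tr_zero]
        · rfl
        · exact sf.zero_right _
      rw [this, Units.val_one]
      exact act_one _
    obtain ⟨w', hw', hw'q⟩ : ∃ w' : V, (w' = a ∨ w' = (a : V) + x) ∧ q w' = 1 := by
      rcases z2 (q a) with e0 | e0
      · refine ⟨_, Or.inr rfl, ?_⟩
        rw [h.base.quad.add, e0, hqx, show s (a : V) x = 0 from a.2.1]; simp
      · exact ⟨_, Or.inl rfl, e0⟩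
    obtain ⟨n0, hn0, hL0⟩ := h.base.lift w' x hw'q hqx
    have hw'x : s x w' = 0 := by
      rcases hw' with rfl | rfl
      · rw [sf.symm]; exact a.2.1
      · rw [sf.add_right, sf.symm, show s (a : V) x = 0 from a.2.1, sf.alt, add_zero]
    have hLx : (tr s w' ∘ tr s x) x = x := by
      show tr s w' (tr s x x) = x
      rw [sf.tr_self, tr_zero hw'x]
    obtain ⟨n1, hn1, hL1, hn1x⟩ : ∃ n1 ∈ M, Act X (n1 : Matrix ι ι F) (tr s w' ∘ tr s x) ∧
        (n1 : Matrix ι ι F) * X x = X x * (n1 : Matrix ι ι F) := by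
      obtain ⟨d, hd⟩ := hL0 x
      rw [hLx] at hd
      obtain ⟨z, rfl⟩ := h.base.fm.sign n0.isUnit hd
      rcases z2 z with rfl | rfl
      · exact ⟨n0, hn0, hL0, by rw [hd, sg2_zero, one_smul]⟩
      · obtain ⟨gy, hgy, egy⟩ := h.base.memX y
        refine ⟨gy * n0, mul_mem hgy hn0, ?_, ?_⟩
        · rw [Units.val_mul, egy]
          have := (h.base.fm.act_X y).comp hL0
          exact this
        · rw [Units.val_mul, egy, Matrix.mul_assoc, hd, Matrix.mul_smul, ← Matrix.mul_assoc,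
            h.base.fm.comm y x, c.yx, Matrix.smul_mul, smul_smul, sg2_self, one_smul, Matrix.mul_assoc]
    obtain ⟨a1, b1, eab⟩ := hblock n1 hn1x
    obtain ⟨g, hg, eg⟩ := inB n1 a1 b1 hn1 eab
    refine ⟨g, hg, fun w => ?_⟩
    obtain ⟨f, hf0⟩ := hL1 w
    obtain ⟨z, hz⟩ : ∃ z : c.perp2, z = tr (fun v w : c.perp2 => s v w) a w := ⟨_, rfl⟩
    have hLw : (tr s w' ∘ tr s x) (w : V) = z ∨ (tr s w' ∘ tr s x) (w : V) = (z : V) + x := by
      show tr s w' (tr s x w) = _ ∨ tr s w' (tr s x w) = _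
      rw [tr_zero (a := x) (show s (w : V) x = 0 from w.2.1), hz]
      have hs' : s (w : V) w' = s (w : V) a := by
        rcases hw' with rfl | rfl
        · rfl
        · rw [sf.add_right, show s (w : V) x = 0 from w.2.1, add_zero]
      rcases z2 (s (w : V) a) with e0 | e0
      · left
        rw [tr_zero (hs'.trans e0), tr_zero (s := fun v w : c.perp2 => s v w) e0]
      · rw [tr_one (hs'.trans e0), tr_one (s := fun v w : c.perp2 => s v w) e0]
        rcases hw' with rfl | rfl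
        · exact Or.inl rfl
        · exact Or.inr (add_assoc _ _ _).symm
    rw [← hz, eg]
    have he := congrArg U hf0
    rw [Umul, Usmul, Umul, hZ0, hZ0, eab, c.X_eq, Matrix.mul_smul, blk_mul, Matrix.smul_mul, smul_smul] at he
    rcases hLw with e0 | e0
    · rw [e0, c.X_eq, blk_mul, blk_smul, blk_smul] at he
      have := (blk_inj eb he).1
      refine ⟨ω w * (φ f * (ω z)⁻¹), ?_⟩
      rw [mul_smul, ← this, smul_smul, mul_inv_cancel₀ (hω0 _), one_smul]
    · obtain ⟨d, hd, hd'⟩ := c.nice.fm.mul (z : V) x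
      rw [e0, show Z ((z : V) + x) = d⁻¹ • (Z z * Z x) by rw [hd', inv_smul_smul₀ hd], c.X_eq, c.X_x, one_smul,
        blk_mul, Matrix.smul_mul, smul_smul, blk_mul, blk_smul, blk_smul, Matrix.mul_one] at he
      have := (blk_inj eb he).1
      refine ⟨ω w * (φ f * (ω ((z : V) + x))⁻¹ * d⁻¹), ?_⟩
      rw [mul_smul, ← this, smul_smul, mul_inv_cancel₀ (hω0 _), one_smul]
  have hbY := c.block_nice
  have hinS : ∀ a ∈ k.amb hh, (∃ L, Act c.blkY (a : Matrix (Fin hh) (Fin hh) K) L) → a ∈ Bs := by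
    rintro a ha ⟨L, hL⟩
    obtain ⟨g, hg, hgL⟩ := hbY.fm.form.isom_induction
      (fun L => ∃ g ∈ Bg, Act c.blkY (g : Matrix (Fin hh) (Fin hh) K) L)
      ⟨1, one_mem _, by rw [Units.val_one]; exact act_one _⟩
      (fun u L ⟨g, hg, hgL⟩ => by
        obtain ⟨g', hg', hg'L⟩ := hlift u
        exact ⟨g' * g, mul_mem hg' hg, by rw [Units.val_mul]; exact hg'L.comp hgL⟩)
      L (hbY.fm.act_isom a.isUnit hL)
    obtain ⟨f, u, hf0, ea⟩ := hbY.fm.act_eq a.isUnit g.isUnit hL hgL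
    obtain ⟨gu, hgu, egu⟩ := hYB u
    refine (hBs a).2 ⟨ha.2, (ω u)⁻¹ * f⁻¹, g * gu, mul_ne_zero (inv_ne_zero (hω0 _)) (inv_ne_zero hf0),
      mul_mem hg hgu, ?_⟩
    rw [Units.val_mul, egu, Matrix.mul_smul, ea, smul_smul, mul_assoc, inv_mul_cancel₀ hf0, mul_one]
  -- the adjoint
  obtain ⟨JK, hJK⟩ : ∃ JK, JK = Pᵀ * (J.map φ).submatrix e e * P := ⟨_, rfl⟩
  have hPP' := hP.inv
  have hJKu : IsUnit JK := by
    have hPu : IsUnit P := IsUnit.of_mul_eq_one P' hPP'
    have hPt : IsUnit Pᵀ := IsUnit.of_mul_eq_one P'ᵀ (by rw [← Matrix.transpose_mul, mul_eq_one_comm.1 hPP', Matrix.transpose_one])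
    rw [hJK]
    refine (hPt.mul ?_).mul hPu
    rw [Matrix.isUnit_iff_isUnit_det, Matrix.det_submatrix_equiv_self, ← RingHom.mapMatrix_apply, ← RingHom.map_det]
    exact isUnit_iff_ne_zero.2 ((map_ne_zero φ).2 h.jdet)
  have hUiso : ∀ A : Matrix ι ι F, Aᵀ * J * A = J → (U A)ᵀ * JK * U A = JK := by
    intro A hA
    rw [hU, up, hJK]
    calc (P' * (A.map φ).submatrix e e * P)ᵀ * (Pᵀ * (J.map φ).submatrix e e * P) *
          (P' * (A.map φ).submatrix e e * P)
        = Pᵀ * (((A.map φ).submatrix e e)ᵀ * ((P * P')ᵀ * ((J.map φ).submatrix e e) * (P * P')) *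
            (A.map φ).submatrix e e) * P := by
          simp only [Matrix.transpose_mul, Matrix.mul_assoc]
      _ = Pᵀ * (((A.map φ).submatrix e e)ᵀ * (J.map φ).submatrix e e * (A.map φ).submatrix e e) * P := by
          rw [hPP', Matrix.transpose_one, Matrix.one_mul, Matrix.mul_one]
      _ = _ := by
          rw [Matrix.transpose_submatrix, Matrix.submatrix_mul_equiv, Matrix.submatrix_mul_equiv, ← Matrix.transpose_map,
            ← Matrix.map_mul, ← Matrix.map_mul, hA]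
  have hUadj : ∀ (A : Matrix ι ι F) (z : ZMod 2), Aᵀ * J * A = J → A * A = sg2 F z • 1 →
      (U A)ᵀ * JK = sg2 K z • (JK * U A) := by
    intro A z hA hA2
    have e3 : U A * U A = sg2 K z • (1 : Matrix (Fin (2 ^ j)) (Fin (2 ^ j)) K) := by
      rw [← Umul, hA2, Usmul, Uone, hsg]
    calc (U A)ᵀ * JK = sg2 K z • ((U A)ᵀ * JK * (U A * U A)) := by
          rw [e3, Matrix.mul_smul, smul_smul, sg2_self, Matrix.mul_one, one_smul]
      _ = _ := by rw [← Matrix.mul_assoc, hUiso A hA]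
  have hfadj : (hf Z x (1 : K))ᵀ * JK = JK * hf Z x (-1) := by
    have := hUadj (X x) (q x) (h.isoX x) (h.sq x)
    rw [hqx, sg2_one, neg_one_smul, hZ0, Matrix.transpose_smul, Matrix.smul_mul, Matrix.mul_smul, ← smul_neg] at this
    have e4 : (Z x)ᵀ * JK = -(JK * Z x) := by
      have := congrArg (fun Y => ω x • Y) this
      simpa [smul_smul, mul_inv_cancel₀ (hω0 x)] using this
    rw [hf, hf, Matrix.transpose_smul, Matrix.transpose_add, Matrix.transpose_one, one_smul, neg_one_smul,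
      Matrix.smul_mul, Matrix.mul_smul, Matrix.add_mul, Matrix.mul_add, Matrix.one_mul, Matrix.mul_one, e4,
      Matrix.mul_neg]
  -- the dichotomy of the blocks
  have hd : Dich k hh := hh2 ▸ dich_two_pow hk (j - 1) (by have := h.three; omega)
  rcases hd c.perp2 _ c.blkY hbY (Bs ⊓ k.amb hh) inf_le_right (fun g hg hL => ⟨hinS g hg hL, hg⟩) with hbig | hsm
  · left
    -- all of the ambient group is among the blocks
    haveI : Finite (GL (Fin hh) K) := Finite.of_injective _ Units.val_injective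
    have hBs' : ∀ a ∈ k.amb hh, a ∈ Bs := fun a ha => by
      rw [← hbig] at ha
      exact ha.1
    have hconjB : ∀ a ∈ Bs, ∀ b ∈ Bg, a * b * a⁻¹ ∈ Bg := by
      intro a ha b hb
      obtain ⟨-, t, a', ht, ha', ea⟩ := (hBs a).1 ha
      have : a * b * a⁻¹ = a' * b * a'⁻¹ := by
        refine Units.ext (a'.isUnit.mul_left_injective ?_)
        show ((a * b * a⁻¹ : GL (Fin hh) K) : Matrix (Fin hh) (Fin hh) K) * (a' : Matrix (Fin hh) (Fin hh) K) =
          ((a' * b * a'⁻¹ : GL (Fin hh) K) : Matrix (Fin hh) (Fin hh) K) * (a' : Matrix (Fin hh) (Fin hh) K)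
        simp only [Units.val_mul, Matrix.mul_assoc, Units.inv_mul, Matrix.mul_one]
        rw [ea]
        simp only [Matrix.mul_smul, Matrix.smul_mul, Matrix.mul_assoc, Units.inv_mul, Matrix.mul_one]
      rw [this]
      exact mul_mem (mul_mem ha' hb) (inv_mem ha')
    obtain ⟨w, hw⟩ := c.exists_ne
    obtain ⟨z, hz⟩ := hbY.fm.form.exists_one hw
    have hz0 : z ≠ 0 := fun e0 => by
      rw [e0, hbY.fm.form.zero_right] at hz
      exact zero_ne_one hz
    obtain ⟨m, hm, hmL⟩ := hbY.exists_pair_lift hk h4 (a := z) (b := w) (Or.inl ⟨hz0, hw⟩)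
    obtain ⟨mw, hmw, emw⟩ := hbY.mem hk h4 w
    obtain ⟨gc, hgc⟩ : ∃ gc, gc = m * mw * m⁻¹ * mw⁻¹ := ⟨_, rfl⟩
    have hgcB : gc ∈ Bg := by
      obtain ⟨-, t, mw', ht, hmw', emw'⟩ := (hBs mw).1 (hBs' mw hmw)
      have h1 := mul_mem (hconjB m (hBs' m hm) mw' hmw') (inv_mem hmw')
      have : gc = m * mw' * m⁻¹ * mw'⁻¹ := by
        refine Units.ext (mw'.isUnit.mul_left_injective ?_)
        show (gc : Matrix (Fin hh) (Fin hh) K) * (mw' : Matrix (Fin hh) (Fin hh) K) =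
          ((m * mw' * m⁻¹ * mw'⁻¹ : GL (Fin hh) K) : Matrix (Fin hh) (Fin hh) K) * (mw' : Matrix (Fin hh) (Fin hh) K)
        simp only [hgc, Units.val_mul, Matrix.mul_assoc, Units.inv_mul, Matrix.mul_one]
        rw [emw']
        simp only [Matrix.mul_smul, Matrix.smul_mul, Matrix.mul_assoc, Units.inv_mul, Matrix.mul_one]
      rw [this]
      exact h1
    have hns : ¬ ∃ t : K, (gc : Matrix (Fin hh) (Fin hh) K) = t • 1 := by
      rintro ⟨t, et⟩
      have e3 : (m : Matrix (Fin hh) (Fin hh) K) * c.blkY w = t • (c.blkY w * (m : Matrix (Fin hh) (Fin hh) K)) := by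
        rw [← emw, ← Units.val_mul, ← Units.val_mul, ← Matrix.one_mul ((mw * m : GL (Fin hh) K) : Matrix (Fin hh) (Fin hh) K),
          ← Matrix.smul_mul, ← et, ← Units.val_mul, hgc]
        congr 1
        group
      obtain ⟨f, ef⟩ := hmL w
      rw [e3, ← Matrix.smul_mul, ← Matrix.smul_mul] at ef
      have hf0 : t ≠ 0 := hbY.fm.scalar_ne m.isUnit e3
      have e4 := hbY.fm.inj (c := t⁻¹ * f) (v := w) (by
        rw [mul_smul, ← m.isUnit.mul_left_injective ef, inv_smul_smul₀ hf0])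
      rw [Function.comp_apply, hbY.fm.form.tr_self, tr_one (s := fun v w : c.perp2 => s v w) hz] at e4
      exact hz0 (left_eq_add.1 e4)
    have hKtop := k.normal_top hk (by omega : 3 ≤ hh) (K := Bg ⊓ k.amb hh) inf_le_right
      (fun a ha b hb => ⟨hconjB a (hBs' a ha) b hb.1,
        (mul_mem (mul_mem ha (show b ∈ k.amb hh from hb.2)) (inv_mem ha) : a * b * a⁻¹ ∈ k.amb hh)⟩)
      (g := gc) ⟨hgcB, (hgc ▸ mul_mem (mul_mem (mul_mem hm hmw) (inv_mem hm)) (inv_mem hmw) : gc ∈ k.amb hh)⟩ hns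
    intro g hg hgx hgn
    obtain ⟨a, b, eab⟩ := hblock g hgx
    have hgu : k.Uni (U g) := by rw [hU]; exact hP.uni _ hg
    have hnil : IsNilpotent (a - 1) := by
      obtain ⟨m, hm⟩ := hgn
      refine ⟨m, ?_⟩
      have e3 : U ((g : Matrix ι ι F) - 1) = blk eb (a - 1) (b - 1) := by
        have hadd : U ((g : Matrix ι ι F) - 1) + U 1 = U g := by rw [hU, ← up_add, sub_add_cancel]
        rw [← add_left_inj (blk eb (1 : Matrix (Fin hh) (Fin hh) K) 1), blk_add, sub_add_cancel, sub_add_cancel,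
          ← eab, blk_one, ← hadd, Uone]
      have e4 : ∀ l : ℕ, U (((g : Matrix ι ι F) - 1) ^ l) = blk eb ((a - 1) ^ l) ((b - 1) ^ l) := by
        intro l
        induction l with
        | zero => rw [pow_zero, pow_zero, pow_zero, Uone, blk_one]
        | succ l ih => rw [pow_succ, pow_succ, pow_succ, Umul, ih, e3, blk_mul]
      have e5 := e4 m
      rw [hm, show (0 : Matrix ι ι F) = (0 : F) • 1 by rw [zero_smul], Usmul, map_zero, zero_smul] at e5
      have : blk eb (0 : Matrix (Fin hh) (Fin hh) K) 0 = 0 := by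
        rw [← zero_smul K (blk eb (0 : Matrix (Fin hh) (Fin hh) K) 0), blk_smul, smul_zero]
      exact ((blk_inj eb (this.trans e5)).1).symm
    obtain ⟨ag, hag, eag⟩ := k.gl_of (det_unipotent' hnil) ((uni_blk_iff eb a b k).1 (eab ▸ hgu)).1
    obtain ⟨g2, b', hg2, eg2⟩ := (hBg ag).1 (hKtop.ge hag).1
    rw [hM'] at hg2
    obtain ⟨g1, hg1, rfl⟩ := hg2
    rw [hψ, eag] at eg2
    have hd0 : (g1 : Matrix ι ι F)⁻¹ * g = 1 := by
      obtain ⟨d, hd⟩ : ∃ d, d = ((g1⁻¹ * g : GL ι F) : Matrix ι ι F) := ⟨_, rfl⟩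
      have hdiso : dᵀ * J * d = J := by
        have hinv : ((g1⁻¹ : GL ι F) : Matrix ι ι F)ᵀ * J * ((g1⁻¹ : GL ι F) : Matrix ι ι F) = J :=
          h.isoM _ (inv_mem hg1)
        rw [hd, Units.val_mul, Matrix.transpose_mul]
        calc _ = (g : Matrix ι ι F)ᵀ * (((g1⁻¹ : GL ι F) : Matrix ι ι F)ᵀ * J * ((g1⁻¹ : GL ι F) : Matrix ι ι F)) *
              (g : Matrix ι ι F) := by simp only [Matrix.mul_assoc]
          _ = J := by rw [hinv, hg]
      obtain ⟨a2, b2, e3⟩ : ∃ a2 b2, U d = blk eb a2 b2 := by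
        refine exists_blk eb c.two ?_
        have e4 : U g1 * Z x = Z x * U g1 := by
          rw [eg2, c.X_x, one_smul, blk_mul, blk_mul]; simp
        have e5 : U ((g1⁻¹ : GL ι F) : Matrix ι ι F) * Z x = Z x * U ((g1⁻¹ : GL ι F) : Matrix ι ι F) := by
          have hu : IsUnit (U g1) := by rw [← hψ]; exact (ψ g1).isUnit
          refine hu.mul_left_cancel ?_
          rw [← Matrix.mul_assoc, ← Umul, Units.mul_inv, Uone, Matrix.one_mul, ← Matrix.mul_assoc, e4,
            Matrix.mul_assoc, ← Umul, Units.mul_inv, Uone, Matrix.mul_one]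
        rw [← c.hx, one_smul, hd, Units.val_mul, Umul, Matrix.mul_assoc, hcomm g hgx, ← Matrix.mul_assoc, e5,
          Matrix.mul_assoc]
      have ea2 : a2 = 1 := by
        have e4 : U g1 * U d = U g := by rw [hd, ← Umul, ← Units.val_mul, mul_inv_cancel_left]
        rw [eg2, e3, eab, blk_mul] at e4
        have hu : IsUnit a := eag ▸ ag.isUnit
        exact hu.mul_left_cancel ((blk_inj eb e4).1.trans (Matrix.mul_one a).symm)
      have hUd : U d = 1 := by
        have hfd : hf Z x (1 : K) * U d = hf Z x (1 : K) := by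
          rw [c.hf_eq, e3, blk_mul, ea2, Matrix.one_mul, Matrix.zero_mul]
        have e4 : (U d)ᵀ * (JK * hf Z x (-1)) = JK * hf Z x (-1) := by
          rw [← hfadj, ← Matrix.mul_assoc, ← Matrix.transpose_mul, hfd]
        have e6 : U d * hf Z x (-1) = hf Z x (-1) * U d := by
          rw [c.hf_neg_eq, e3, blk_mul, blk_mul]; simp
        have e5 : JK * hf Z x (-1) = JK * (hf Z x (-1) * U d) := by
          calc JK * hf Z x (-1) = (U d)ᵀ * JK * U d * hf Z x (-1) := by rw [hUiso d hdiso]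
            _ = (U d)ᵀ * (JK * hf Z x (-1)) * U d := by rw [Matrix.mul_assoc _ (U d), e6]; simp only [Matrix.mul_assoc]
            _ = _ := by rw [e4, Matrix.mul_assoc]
        rw [← Matrix.one_mul (U d), ← c.side.hf_add, Matrix.add_mul, hfd, ← hJKu.mul_left_cancel e5]
      exact (hd ▸ Uinj (hUd.trans Uone.symm) : ((g1⁻¹ * g : GL ι F) : Matrix ι ι F) = 1) ▸ by
        rw [Units.val_mul, Matrix.coe_units_inv]
    have : g = g1 := Units.ext (by
      have := congrArg (fun Y => (g1 : Matrix ι ι F) * Y) hd0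
      simp only [← Matrix.mul_assoc, Matrix.mul_one] at this
      rwa [Matrix.mul_nonsing_inv _ ((Matrix.isUnit_iff_isUnit_det _).1 g1.isUnit), Matrix.one_mul] at this)
    exact this ▸ hg1
  · right
    intro g hg hgx
    have hsmall : ∀ (a : GL (Fin hh) K) (b : Matrix (Fin hh) (Fin hh) K),
        (∃ g' ∈ M', (g' : Matrix (Fin (2 ^ j)) (Fin (2 ^ j)) K) = blk eb a b) →
        ∃ L, Act c.blkY (a : Matrix (Fin hh) (Fin hh) K) L := by
      rintro a b ⟨g', hg', eg'⟩
      have haB := (hBg a).2 ⟨g', b, hg', eg'⟩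
      refine small_all hk hbY h4 hpos Bs hinS (fun a' ha' hd' => hsm a' ⟨ha', hd', ((hBs a').1 ha').1⟩)
        ((hBs a).2 ⟨Buni a haB, 1, a, one_ne_zero, haB, by rw [one_smul]⟩)
    have hH := c.halved_of_small hsmall (mapM g hg) (by rw [hψ, hcomm g hgx])
    intro w hw
    obtain ⟨u, hu, cc, hcc, e3⟩ := hH w hw
    rw [hψ] at e3
    obtain ⟨G', hG'⟩ : ∃ G', G' = U ((g⁻¹ : GL ι F) : Matrix ι ι F) := ⟨_, rfl⟩
    have gG : U g * G' = 1 := by rw [hG', ← Umul, Units.mul_inv, Uone]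
    have Gg : G' * U g = 1 := mul_eq_one_comm.1 gG
    obtain ⟨R, hR⟩ : ∃ R, R = (g : Matrix ι ι F) * X w * ((g⁻¹ : GL ι F) : Matrix ι ι F) := ⟨_, rfl⟩
    have hgi := h.isoM _ (inv_mem hg)
    have hRiso : Rᵀ * J * R = J := by
      rw [hR, Matrix.transpose_mul, Matrix.transpose_mul]
      calc _ = ((g⁻¹ : GL ι F) : Matrix ι ι F)ᵀ * ((X w)ᵀ * ((g : Matrix ι ι F)ᵀ * J * (g : Matrix ι ι F)) * X w) *
            ((g⁻¹ : GL ι F) : Matrix ι ι F) := by simp only [Matrix.mul_assoc]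
        _ = J := by rw [h.isoM g hg, h.isoX w, hgi]
    have hR2 : R * R = sg2 F (q w) • 1 := by
      calc R * R = (g : Matrix ι ι F) * (X w * (((g⁻¹ : GL ι F) : Matrix ι ι F) * (g : Matrix ι ι F)) * X w) *
            ((g⁻¹ : GL ι F) : Matrix ι ι F) := by rw [hR]; simp only [Matrix.mul_assoc]
        _ = _ := by rw [Units.inv_mul, Matrix.mul_one, h.sq, Matrix.mul_smul, Matrix.smul_mul, Matrix.mul_one, Units.mul_inv]
    have hUR : U R = U g * U (X w) * G' := by rw [hR, Umul, Umul, hG']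
    have sd := c.side
    have hfg : hf Z x (-1) * U g = U g * hf Z x (-1) := sd.neg.hf_comm (hcomm g hgx)
    have hfg' : hf Z x (-1) * G' = G' * hf Z x (-1) := by
      calc hf Z x (-1) * G' = G' * (U g * hf Z x (-1)) * G' := by rw [← Matrix.mul_assoc G', Gg, Matrix.one_mul]
        _ = G' * hf Z x (-1) := by rw [← hfg, Matrix.mul_assoc, Matrix.mul_assoc, gG, Matrix.mul_one]
    have hfw : ∀ v, s v x = 0 → hf Z x (-1) * U (X v) = U (X v) * hf Z x (-1) := fun v hv => by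
      rw [hZ0, Matrix.mul_smul, Matrix.smul_mul, sd.neg.hf_X hv]
    obtain ⟨c1, hc1⟩ : ∃ c1 : K, c1 = (ω w)⁻¹ * cc * ω u := ⟨_, rfl⟩
    have e4 : hf Z x 1 * U R = c1 • (hf Z x 1 * U (X u)) := by
      rw [hUR, hZ0 w, hZ0 u, Matrix.mul_smul, Matrix.smul_mul, Matrix.mul_smul, ← Matrix.mul_assoc, e3,
        Matrix.smul_mul, Matrix.mul_smul, smul_smul, smul_smul, Matrix.mul_assoc, Matrix.mul_assoc, gG, Matrix.mul_one,
        hc1, mul_assoc, mul_inv_cancel₀ (hω0 u), mul_one]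
    obtain ⟨c2, hc2⟩ : ∃ c2 : K, c2 = c1 * (sg2 K (q w) * sg2 K (q u)) := ⟨_, rfl⟩
    have e5 : U R * hf Z x (-1) = c2 • (U (X u) * hf Z x (-1)) := by
      have := congrArg (fun Y => Yᵀ * JK) e4
      simp only [Matrix.transpose_smul, Matrix.transpose_mul, Matrix.smul_mul, Matrix.mul_assoc, hfadj] at this
      simp only [← Matrix.mul_assoc, hUadj R (q w) hRiso hR2, hUadj (X u) (q u) (h.isoX u) (h.sq u),
        Matrix.smul_mul, smul_smul] at this
      refine hJKu.mul_left_cancel ?_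
      rw [Matrix.mul_smul, hc2, show c1 * (sg2 K (q w) * sg2 K (q u)) = sg2 K (q w) * (c1 * sg2 K (q u)) by ring,
        mul_smul, ← Matrix.mul_assoc, ← Matrix.mul_assoc, ← this, smul_smul, sg2_self, one_smul]
    have hcm : hf Z x (-1) * U R = U R * hf Z x (-1) := by
      rw [hUR, ← Matrix.mul_assoc, ← Matrix.mul_assoc, hfg, Matrix.mul_assoc (U g), hfw w hw,
        ← Matrix.mul_assoc (U g), Matrix.mul_assoc, hfg', ← Matrix.mul_assoc]
    have e6 : U R = (c1 • hf Z x 1 + c2 • hf Z x (-1)) * U (X u) := by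
      rw [← Matrix.one_mul (U R), ← sd.hf_add, Matrix.add_mul, e4, hcm, e5, Matrix.add_mul, Matrix.smul_mul,
        Matrix.smul_mul, hfw u hu]
    obtain ⟨u', κ, e7⟩ : ∃ (u' : V) (κ : K), U R = κ • U (X u') := by
      rcases z2 (q w + q u) with e0 | e0
      · refine ⟨u, c1, ?_⟩
        rw [e6, hc2, ← sg2_add, e0, sg2_zero, mul_one, ← smul_add, sd.hf_add, Matrix.smul_mul, Matrix.one_mul]
      · obtain ⟨d, hd, hd'⟩ := h.base.fm.mul x u
        refine ⟨x + u, c1 * (ω x * φ d), ?_⟩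
        have hdiff : hf Z x 1 + -hf Z x (-1) = Z x := by
          rw [hf, hf, ← smul_neg, ← smul_add, one_smul, neg_one_smul,
            show 1 + Z x + -(1 + -Z x) = (2 : K) • Z x by module, smul_smul, inv_mul_cancel₀ c.two, one_smul]
        rw [e6, hc2, ← sg2_add, e0, sg2_one, show c1 * -1 = -c1 by ring, neg_smul, ← smul_neg, ← smul_add, hdiff,
          hZ, Matrix.smul_mul, Matrix.smul_mul, ← Umul, hd', Usmul, smul_smul, smul_smul, mul_assoc]
    obtain ⟨r, t, hrt⟩ : ∃ r t, X u' r t ≠ 0 := by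
      by_contra hno
      push Not at hno
      exact h.base.fm.ne_zero u' (Matrix.ext hno)
    obtain ⟨a0, ha0⟩ : ∃ a0 : F, κ = φ a0 := by
      refine ⟨R r t / X u' r t, ?_⟩
      have e8 := congrArg (fun Y => (P * Y * P') (e.symm r) (e.symm t)) e7
      simp only [hU, up, Matrix.mul_smul, Matrix.smul_mul, Matrix.mul_assoc, hPP', Matrix.mul_one] at e8
      simp only [← Matrix.mul_assoc, hPP', Matrix.one_mul, Matrix.smul_apply, Matrix.submatrix_apply,
        Equiv.apply_symm_apply, Matrix.map_apply, smul_eq_mul] at e8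
      rw [map_div₀, e8, mul_div_assoc, div_self ((map_ne_zero φ).2 hrt), mul_one]
    refine ⟨u', a0, ?_⟩
    have e9 : R = a0 • X u' := Uinj (by rw [e7, Usmul, ha0])
    rw [hR] at e9
    rw [← Matrix.smul_mul, ← e9, Matrix.mul_assoc _ _ (g : Matrix ι ι F), Units.inv_mul, Matrix.mul_one]

end Real

end CfsgLib.QubitMax
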