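import Cfsg.Agent.Lib.QubitMax.Endgame
import Cfsg.Agent.Lib.QubitMax.Pauli

/-!
A group of matrices containing the members of a frame, lifts of pairs of transvections, and whose centralisers of
members act on the frame, acts on the frame as a whole.
-/

set_option autoImplicit false
set_option linter.unusedSectionVars false
set_option maxHeartbeats 1000000

namespace CfsgLib.QubitMax

open Matrix
open CfsgLib.EightMax (Sform Isom tr tr_one tr_zero z2 sg2 sg2_zero sg2_one sg2_self sg2_ne)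

variable {F : Type*} [Field F] [Finite F] {ι : Type*} [Fintype ι] [DecidableEq ι] [Nonempty ι]
variable {V : Type*} [AddCommGroup V]

/-- The hypotheses on the group. -/
structure Setup (s : V → V → ZMod 2) (X : V → Matrix ι ι F) (ns : V → Prop) (M : Subgroup (GL ι F)) : Prop where
  fm : Fm s X
  big : 64 ≤ Nat.card V
  memX : ∀ v, ∃ g ∈ M, (g : Matrix ι ι F) = X v
  lift : ∀ a b, ns a → ns b → ∃ g ∈ M, Act X (g : Matrix ι ι F) (tr s a ∘ tr s b)
  cent : ∀ v, v ≠ 0 → ∀ g ∈ M, (g : Matrix ι ι F) * X v = X v * (g : Matrix ι ι F) →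
    ∃ L, Act X (g : Matrix ι ι F) L
  ns_act : ∀ g ∈ M, ∀ L, Act X (g : Matrix ι ι F) L → ∀ a, ns a → ns (L a)
  fuse : ∀ g ∈ M, ∀ (u u' : V) (c : F), u ≠ 0 → (g : Matrix ι ι F) * X u = c • (X u' * (g : Matrix ι ι F)) →
    ∃ n ∈ M, ∃ L, Act X (n : Matrix ι ι F) L ∧ L u' = u
  ns_or : ∀ a b w, s w (a + b) = 1 → ns a ∨ ns b ∨ ns (a + w) ∨ ns (b + w)
  full : ∀ A : AddSubgroup V, 8 ≤ Nat.card A → ∃ v ∈ A, v ≠ 0 ∧
    Odd (Nat.card {u : V | ∃ n ∈ M, ∃ L, Act X (n : Matrix ι ι F) L ∧ L u = v})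
  pair : ∃ (a b : V) (α β : F), ns a ∧ ns b ∧ a ≠ 0 ∧ b ≠ 0 ∧ a ≠ b ∧ s a b = 0 ∧
    (α • X a) * (α • X a) = -1 ∧ (β • X b) * (β • X b) = -1

/-- The projection modulo scalars. -/
abbrev prj : GL ι F →* GL ι F ⧸ Subgroup.center (GL ι F) := QuotientGroup.mk' _

theorem prj_eq {g h : GL ι F} :
    prj g = prj h ↔ ∃ c : F, c ≠ 0 ∧ (h : Matrix ι ι F) = c • (g : Matrix ι ι F) := by
  rw [prj, QuotientGroup.mk'_apply, QuotientGroup.mk'_apply, QuotientGroup.eq,
    Matrix.GeneralLinearGroup.mem_center_iff_val_mem_range_scalar]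
  constructor
  · rintro ⟨c, hc⟩
    have e : (h : Matrix ι ι F) = c • (g : Matrix ι ι F) := by
      calc (h : Matrix ι ι F) = (g : Matrix ι ι F) * ((g⁻¹ * h : GL ι F) : Matrix ι ι F) := by
            rw [← Units.val_mul, mul_inv_cancel_left]
        _ = _ := by rw [← hc, Matrix.scalar_apply, ← Matrix.smul_one_eq_diagonal, Matrix.mul_smul, Matrix.mul_one]
    refine ⟨c, fun e0 => ?_, e⟩
    rw [e0, zero_smul] at e
    exact h.isUnit.ne_zero e
  · rintro ⟨c, -, e⟩
    refine ⟨c, ?_⟩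
    rw [Matrix.scalar_apply, ← Matrix.smul_one_eq_diagonal, Units.val_mul, e, Matrix.mul_smul, ← Units.val_mul,
      inv_mul_cancel, Units.val_one]

namespace Setup

variable {s : V → V → ZMod 2} {X : V → Matrix ι ι F} {ns : V → Prop} {M : Subgroup (GL ι F)} (h : Setup s X ns M)
include h

/-- The matrices of the group acting on the frame. -/
def acts : Subgroup (GL ι F) where
  carrier := {g | g ∈ M ∧ ∃ L, Act X (g : Matrix ι ι F) L}
  one_mem' := ⟨one_mem M, id, by rw [Units.val_one]; exact act_one X⟩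
  mul_mem' := by
    rintro g g' ⟨hg, L, hL⟩ ⟨hg', K, hK⟩
    exact ⟨mul_mem hg hg', L ∘ K, by rw [Units.val_mul]; exact hL.comp hK⟩
  inv_mem' := by
    rintro g ⟨hg, L, hL⟩
    obtain ⟨K, hK, -⟩ := h.fm.act_inv g.mul_inv g.inv_mul hL
    exact ⟨inv_mem hg, K, hK⟩

theorem conj_eq {g : GL ι F} {L : V → V} (hL : Act X (g : Matrix ι ι F) L) {x x' : GL ι F} {v : V}
    (hx : (x : Matrix ι ι F) = X v) (hx' : (x' : Matrix ι ι F) = X (L v)) : prj (g * x * g⁻¹) = prj x' := by
  obtain ⟨c, hc⟩ := hL v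
  rw [map_mul, map_mul, map_inv, mul_inv_eq_iff_eq_mul, ← map_mul, ← map_mul, prj_eq]
  refine ⟨c⁻¹, inv_ne_zero (h.fm.act_ne g.isUnit hc), ?_⟩
  rw [Units.val_mul, Units.val_mul, hx, hx', hc, inv_smul_smul₀ (h.fm.act_ne g.isUnit hc)]

/-- **Every element of the group acts on the frame.** -/
theorem all_act {g : GL ι F} (hg : g ∈ M) : ∃ L, Act X (g : Matrix ι ι F) L := by
  classical
  haveI : Finite (GL ι F) := Finite.of_injective _ Units.val_injective
  haveI := h.fm.finite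
  haveI := Fintype.ofFinite V
  choose gx hgxM hgx using h.memX
  obtain ⟨G', hG'⟩ : ∃ G' : Subgroup (GL ι F ⧸ Subgroup.center (GL ι F)), G' = M.map prj := ⟨_, rfl⟩
  subst hG'
  let el : ∀ x : GL ι F, x ∈ M → (M.map prj) := fun x hx => ⟨prj x, x, hx, rfl⟩
  let W : V → (M.map prj) := fun v => el (gx v) (hgxM v)
  let N : Subgroup (M.map prj) := (h.acts.map prj).subgroupOf (M.map prj)
  have memN : ∀ x : GL ι F, ∀ hx : x ∈ M, el x hx ∈ N ↔ ∃ L, Act X (x : Matrix ι ι F) L := by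
    intro x hx
    constructor
    · rintro ⟨y, ⟨hy, L, hL⟩, e⟩
      obtain ⟨c, -, hc⟩ := prj_eq.1 (e : prj y = prj x)
      exact ⟨L, by rw [hc]; exact hL.smul c⟩
    · rintro ⟨L, hL⟩
      exact ⟨x, ⟨hx, L, hL⟩, rfl⟩
  have Wc : ∀ {x : GL ι F} (hx : x ∈ M) {L : V → V}, Act X (x : Matrix ι ι F) L → Cj W (el x hx) L :=
    fun {x} hx {L} hL v => Subtype.ext (by
      show prj x * prj (gx v) * (prj x)⁻¹ = prj (gx (L v))
      rw [← map_mul, ← map_inv, ← map_mul]
      exact h.conj_eq hL (hgx v) (hgx (L v)))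
  have cjAct : ∀ {x : GL ι F} (hx : x ∈ M) {L : V → V}, Cj W (el x hx) L → ∀ v, ∃ c : F,
      (x : Matrix ι ι F) * X v = c • (X (L v) * (x : Matrix ι ι F)) := by
    intro x hx L hL v
    have e : prj x * prj (gx v) * (prj x)⁻¹ = prj (gx (L v)) := congrArg Subtype.val (hL v)
    rw [mul_inv_eq_iff_eq_mul, ← map_mul, ← map_mul, prj_eq] at e
    obtain ⟨c, hc, e⟩ := e
    refine ⟨c⁻¹, ?_⟩
    rw [Units.val_mul, Units.val_mul, hgx, hgx] at e
    rw [e, inv_smul_smul₀ hc]
  have surj : ∀ x : (M.map prj), ∃ y, ∃ hy : y ∈ M, x = el y hy := fun x => by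
    obtain ⟨y, hy, e⟩ := x.2
    exact ⟨y, hy, Subtype.ext e.symm⟩
  -- orbits of vectors
  have fullOf : ∀ v, v ≠ 0 → Odd (Nat.card {u : V | ∃ n ∈ M, ∃ L, Act X (n : Matrix ι ι F) L ∧ L u = v}) →
      Full W N v := by
    intro v hv hodd
    haveI : Fact (Nat.Prime 2) := ⟨Nat.prime_two⟩
    refine ⟨hv, fun P hP hPN => ?_⟩
    obtain ⟨O, hO⟩ : ∃ O : Set V, O = {u : V | ∃ n ∈ M, ∃ L, Act X (n : Matrix ι ι F) L ∧ L u = v} := ⟨_, rfl⟩
    have hrep : ∀ x : P, ∃ y, ∃ hy : y ∈ M, (x : M.map prj) = el y hy ∧ ∃ L, Act X (y : Matrix ι ι F) L := by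
      intro x
      obtain ⟨y, hy, e⟩ := surj x
      exact ⟨y, hy, e, (memN y hy).1 (e ▸ hPN x.2)⟩
    choose y hy hye L hL using hrep
    have hcj : ∀ x : P, Cj W (x : M.map prj) (L x) := fun x => hye x ▸ Wc (hy x) (hL x)
    have Wi : ∀ {a b : V}, W a = W b → a = b := fun {a b} e => by
      obtain ⟨c, -, hc⟩ := prj_eq.1 (congrArg Subtype.val e : prj (gx a) = prj (gx b))
      rw [hgx, hgx] at hc
      exact (h.fm.inj hc).symm
    have stab : ∀ (x : P) u, u ∈ O → L x u ∈ O := by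
      intro x u hu
      rw [hO] at hu ⊢
      obtain ⟨n, hn, K, hK, e⟩ := hu
      obtain ⟨K', hK', -, hK'L⟩ := h.fm.act_inv (y x).mul_inv (y x).inv_mul (hL x)
      refine ⟨n * (y x)⁻¹, mul_mem hn (inv_mem (hy x)), K ∘ K', by rw [Units.val_mul]; exact hK.comp hK', ?_⟩
      rw [Function.comp_apply, hK'L, e]
    letI : MulAction P O :=
      { smul := fun x u => ⟨L x u, stab x u u.2⟩
        one_smul := fun u => Subtype.ext (Wi (by
          show W (L 1 u) = W u
          rw [← hcj 1 u]; simp))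
        mul_smul := fun x z u => Subtype.ext (Wi (by
          show W (L (x * z) u) = W (L x (L z u))
          rw [← hcj (x * z) u, ← hcj x (L z u), ← hcj z u, Subgroup.coe_mul]; group)) }
    have hfix := hP.card_modEq_card_fixedPoints O
    rw [← hO] at hodd
    obtain ⟨u, hu⟩ : (MulAction.fixedPoints P O).Nonempty := by
      by_contra hne
      haveI : IsEmpty (MulAction.fixedPoints P O) := Set.isEmpty_coe_sort.2 (Set.not_nonempty_iff_eq_empty.1 hne)
      rw [Nat.card_eq_zero.2 (Or.inl ‹IsEmpty (MulAction.fixedPoints P O)›)] at hfix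
      exact Nat.not_even_iff_odd.2 hodd (Nat.even_iff.2 hfix)
    obtain ⟨n, hn, K, hK, e⟩ : ∃ n ∈ M, ∃ K, Act X (n : Matrix ι ι F) K ∧ K (u : V) = v := by
      have := (Set.ext_iff.1 hO (u : V)).1 u.2
      exact this
    refine ⟨u, fun e0 => hv ?_, fun x hx => ?_, el n hn, (memN n hn).2 ⟨K, hK⟩, by rw [Wc hn hK, e]⟩
    · have := (h.fm.act_isom n.isUnit hK).add 0 0
      rw [add_zero] at this
      rw [← e, e0]
      exact left_eq_add.1 this
    · have e1 := hcj ⟨x, hx⟩ u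
      rw [show L ⟨x, hx⟩ u = u from congrArg Subtype.val (hu ⟨x, hx⟩)] at e1
      rw [← mul_inv_eq_iff_eq_mul]
      exact e1
  have F' : Fr s ns W N :=
    { form := h.fm.form
      hom := fun a b => Subtype.ext (by
        show prj (gx (a + b)) = prj (gx a) * prj (gx b)
        rw [← map_mul, prj_eq]
        obtain ⟨c, hc0, hc⟩ := h.fm.mul a b
        exact ⟨c, hc0, by rw [Units.val_mul, hgx, hgx, hgx, hc]⟩)
      inj := fun a e => by
        obtain ⟨c, -, hc⟩ := prj_eq.1 ((congrArg Subtype.val e).trans (map_one prj).symm : prj (gx a) = prj 1)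
        rw [hgx, Units.val_one, ← h.fm.one] at hc
        exact (h.fm.inj hc).symm
      memN := fun a => (memN _ (hgxM a)).2 ⟨id, by rw [hgx]; exact h.fm.act_X a⟩
      act := fun x hx => by
        obtain ⟨y, hy, rfl⟩ := surj x
        obtain ⟨L, hL⟩ := (memN y hy).1 hx
        exact ⟨L, Wc hy hL, (h.fm.act_isom y.isUnit hL).pres, h.ns_act y hy L hL⟩
      ker := fun x hx hc => by
        obtain ⟨y, hy, rfl⟩ := surj x
        obtain ⟨c, u, hc0, e⟩ := h.fm.act_id y.isUnit (cjAct hy hc)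
        exact ⟨u, Subtype.ext (prj_eq.2 ⟨c⁻¹, inv_ne_zero hc0, by rw [hgx, e, inv_smul_smul₀ hc0]⟩)⟩
      lift := fun a b ha hb => by
        obtain ⟨g, hg, hL⟩ := h.lift a b ha hb
        exact ⟨el g hg, (memN g hg).2 ⟨_, hL⟩, Wc hg hL⟩
      cent := fun v hv x hx => by
        obtain ⟨y, hy, rfl⟩ := surj x
        have e : prj y * prj (gx v) * (prj y)⁻¹ = prj (gx v) := congrArg Subtype.val hx
        rw [mul_inv_eq_iff_eq_mul, ← map_mul, ← map_mul, prj_eq] at e
        obtain ⟨c, hc0, e⟩ := e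
        rw [Units.val_mul, Units.val_mul, hgx] at e
        refine (memN y hy).2 ?_
        obtain ⟨f, hf⟩ := h.fm.sq v
        have hc : c * c = 1 := by
          have e2 : X v * X v * (y : Matrix ι ι F) = (c * c) • ((y : Matrix ι ι F) * (X v * X v)) := by
            rw [Matrix.mul_assoc, e, Matrix.mul_smul, ← Matrix.mul_assoc, e, Matrix.smul_mul, smul_smul,
              Matrix.mul_assoc]
          rw [hf, Matrix.smul_mul, Matrix.one_mul, Matrix.mul_smul, Matrix.mul_one, smul_smul] at e2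
          have := smul_left_injective F y.isUnit.ne_zero e2
          exact mul_right_cancel₀ (sg2_ne f) (this.symm.trans (one_mul _).symm)
        rcases mul_self_eq_one_iff.1 hc with rfl | rfl
        · exact h.cent v hv y hy (by rw [e, one_smul])
        · obtain ⟨u, hu⟩ := h.fm.form.exists_one hv
          obtain ⟨L, hL⟩ := h.cent v hv (y * gx u) (mul_mem hy (hgxM u)) (by
            rw [Units.val_mul, hgx, Matrix.mul_assoc, h.fm.comm u v, h.fm.form.symm u v, hu, sg2_one,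
              Matrix.mul_smul, ← Matrix.mul_assoc (X v), e, ← Matrix.mul_assoc, Matrix.smul_mul])
          obtain ⟨K, hK, -⟩ := h.fm.act_inv (gx u).mul_inv (gx u).inv_mul (L := id) (by
            rw [hgx]; exact h.fm.act_X u)
          exact ⟨L ∘ K, by
            have := hL.comp hK
            rwa [Units.val_mul, Matrix.mul_assoc, (gx u).mul_inv, Matrix.mul_one] at this⟩
      fuse := fun x u u' hu hx => by
        obtain ⟨y, hy, rfl⟩ := surj x
        have e : prj y * prj (gx u) * (prj y)⁻¹ = prj (gx u') := congrArg Subtype.val hx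
        rw [mul_inv_eq_iff_eq_mul, ← map_mul, ← map_mul, prj_eq] at e
        obtain ⟨c, hc0, e⟩ := e
        rw [Units.val_mul, Units.val_mul, hgx, hgx] at e
        obtain ⟨n, hn, L, hL, eL⟩ := h.fuse y hy u u' c⁻¹ hu (by rw [e, inv_smul_smul₀ hc0])
        exact ⟨el n hn, (memN n hn).2 ⟨L, hL⟩, by rw [Wc hn hL, eL]⟩
      ns_or := h.ns_or
      full := fun A hA => by
        obtain ⟨v, hv, hv0, hodd⟩ := h.full A hA
        exact ⟨v, hv, fullOf v hv0 hodd⟩
      big := h.big }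
  -- the involution
  obtain ⟨a, b, α, β, na, nb, ha, hb, hab, sab, hA, hB⟩ := h.pair
  obtain ⟨A, hAd⟩ : ∃ A, A = α • X a := ⟨_, rfl⟩
  obtain ⟨B, hBd⟩ : ∃ B, B = β • X b := ⟨_, rfl⟩
  rw [← hAd] at hA
  rw [← hBd] at hB
  obtain ⟨eA, uA, actA⟩ := h.fm.transvection hAd hA
  obtain ⟨eB, uB, actB⟩ := h.fm.transvection hBd hB
  obtain ⟨u, hua, hub⟩ := h.fm.form.exists_one_one ha hb
  have cAB : A * B = B * A := by
    rw [hAd, hBd, Matrix.smul_mul, Matrix.mul_smul, h.fm.comm a b, sab, sg2_zero, one_smul, Matrix.smul_mul,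
      Matrix.mul_smul, smul_comm]
  obtain ⟨T, hT⟩ : ∃ T, T = (1 + A) * (1 + B) := ⟨_, rfl⟩
  obtain ⟨Tu, hTu⟩ : ∃ Tu, Tu = T * X u := ⟨_, rfl⟩
  have flip : ∀ (v : V) (γ : F), s v u = 1 → X u * (1 + γ • X v) = (1 - γ • X v) * X u := fun v γ hv => by
    rw [Matrix.mul_add, Matrix.sub_mul, Matrix.mul_smul, Matrix.mul_one, Matrix.one_mul, Matrix.smul_mul,
      h.fm.comm u v, h.fm.form.symm u v, hv, sg2_one, smul_smul, mul_neg, mul_one, neg_smul, ← sub_eq_add_neg]
  have hTu2 : ∃ f : F, Tu * Tu = f • 1 := by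
    obtain ⟨f, hf⟩ := h.fm.sq u
    refine ⟨2 * 2 * sg2 F f, ?_⟩
    have e1 : X u * T = (1 - A) * (1 - B) * X u := by
      rw [hT, ← Matrix.mul_assoc, hAd, flip a α hua, Matrix.mul_assoc, hBd, flip b β hub, ← Matrix.mul_assoc]
    have hc : (1 + B) * (1 - A) = (1 - A) * (1 + B) := by
      rw [Matrix.add_mul, Matrix.mul_sub, Matrix.mul_sub, Matrix.sub_mul, Matrix.mul_add, Matrix.mul_add, cAB]
      simp only [Matrix.one_mul, Matrix.mul_one]
      abel
    calc Tu * Tu = T * (X u * T) * X u := by rw [hTu]; simp only [Matrix.mul_assoc]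
      _ = (1 + A) * (1 + B) * ((1 - A) * (1 - B)) * (X u * X u) := by rw [e1, hT]; simp only [Matrix.mul_assoc]
      _ = ((1 + A) * (1 - A)) * ((1 + B) * (1 - B)) * (X u * X u) := by
        rw [show (1 + A) * (1 + B) * ((1 - A) * (1 - B)) = (1 + A) * ((1 + B) * (1 - A)) * (1 - B) by
          simp only [Matrix.mul_assoc], hc]
        simp only [Matrix.mul_assoc]
      _ = _ := by
        rw [eA, eB, hf]
        simp only [Matrix.smul_mul, Matrix.mul_smul, Matrix.one_mul, smul_smul]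
        congr 1
        ring
  obtain ⟨σ, hσ⟩ : ∃ σ, σ = tr s a ∘ tr s b := ⟨_, rfl⟩
  have actTu : Act X Tu σ := by
    have := (actA.comp actB).comp (h.fm.act_X u)
    rw [hTu, hT, hσ]
    exact this
  obtain ⟨n, hn, hnL⟩ := h.lift a b na nb
  obtain ⟨c, r, hc0, hr⟩ := h.fm.act_eq n.isUnit (hTu ▸ hT ▸ (uA.mul uB).mul (h.fm.isUnit u)) (hσ ▸ hnL) actTu
  obtain ⟨κ, hκM, hκ⟩ : ∃ κ ∈ M, ∃ c' : F, c' ≠ 0 ∧ (κ : Matrix ι ι F) = c' • Tu := by
    obtain ⟨f, hf⟩ := h.fm.sq r
    refine ⟨n * gx r, mul_mem hn (hgxM r), c * sg2 F f, mul_ne_zero hc0 (sg2_ne f), ?_⟩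
    rw [Units.val_mul, hgx, hr, Matrix.smul_mul, Matrix.mul_assoc, hf, Matrix.mul_smul, Matrix.mul_one, smul_smul]
  obtain ⟨c', hc', hκe⟩ := hκ
  have hκA : Act X (κ : Matrix ι ι F) σ := hκe ▸ actTu.smul c'
  have hκN : el κ hκM ∈ N := (memN κ hκM).2 ⟨σ, hκA⟩
  have hκ2 : el κ hκM * el κ hκM = 1 := by
    obtain ⟨f, hf⟩ := hTu2
    refine Subtype.ext ?_
    show prj κ * prj κ = 1
    have e : ((κ * κ : GL ι F) : Matrix ι ι F) = (c' * c' * f) • 1 := by
      rw [Units.val_mul, hκe, Matrix.smul_mul, Matrix.mul_smul, smul_smul, hf, smul_smul]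
    rw [← map_mul, eq_comm, ← map_one (prj (F := F) (ι := ι)), prj_eq]
    refine ⟨c' * c' * f, fun e0 => ?_, by rw [e, Units.val_one]⟩
    rw [e0, zero_smul] at e
    exact (κ * κ).isUnit.ne_zero e
  have hsa : s b a = 0 := by rw [h.fm.form.symm, sab]
  have S : Special s σ (a + b) a := by
    have hfa : σ a = a := by rw [hσ, Function.comp_apply, tr_zero sab, h.fm.form.tr_self]
    have hfb : σ b = b := by rw [hσ, Function.comp_apply, h.fm.form.tr_self, tr_zero hsa]
    refine ⟨fun x => ?_, fun e => hab (h.fm.form.eq_of_add_eq_zero e), ?_, ha, fun e => hb (left_eq_add.1 e), hfa⟩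
    · rw [hσ, Function.comp_apply, h.fm.form.add_right]
      rcases z2 (s x b) with e | e
      · rw [tr_zero e, e]
        rcases z2 (s x a) with e' | e'
        · rw [tr_zero e', e', h.fm.form.alt, add_zero]
        · rw [tr_one e', h.fm.form.add_right, h.fm.form.alt, e', zero_add, add_zero]
      · rw [tr_one e, e]
        rcases z2 (s x a) with e' | e'
        · rw [tr_zero (by rw [h.fm.form.add_left, e', hsa, add_zero]), h.fm.form.add_right, h.fm.form.alt, e, e']
        · rw [tr_one (by rw [h.fm.form.add_left, e', hsa, add_zero]), h.fm.form.add_right, h.fm.form.add_right,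
            h.fm.form.alt, e, e']
          decide
    · rw [((h.fm.act_isom κ.isUnit hκA)).add, hfa, hfb]
  exact (memN g hg).1 (F'.eq_top hκN hκ2 S (Wc hκM hκA) (el g hg))

end Setup

end CfsgLib.QubitMax
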