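import Cfsg.Agent.Lib.QubitMax.Halves

/-!
When both halves of every centraliser of a member stay in the frame, the centraliser acts on the frame: the case
without a quadratic map.
-/

set_option autoImplicit false
set_option linter.unusedSectionVars false
set_option maxHeartbeats 1000000

namespace CfsgLib.QubitMax

open Matrix
open CfsgLib.EightMax (Sform Isom tr tr_one tr_zero z2 sg2 sg2_zero sg2_one sg2_self sg2_ne sg2_add sg2_inj exists_sg2)

variable {F : Type*} [Field F] {ι : Type*} [Fintype ι] [DecidableEq ι] [Nonempty ι]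
variable {V : Type*} [AddCommGroup V]

/-- The halves of a centraliser stay in the frame. -/
def Halved (s : V → V → ZMod 2) (X : V → Matrix ι ι F) (x : V) (γ : F) (A : Matrix ι ι F) : Prop :=
  ∀ w, s w x = 0 → ∃ u, s u x = 0 ∧ Hr X (hf X x γ) A w u

theorem mem_two {s : V → V → ZMod 2} (hs : Sform s) {a b z : V}
    (hz : z ∈ AddSubgroup.zmultiples a ⊔ AddSubgroup.zmultiples b) : z = 0 ∨ z = a ∨ z = b ∨ z = a + b := by
  have one : ∀ {c y : V}, y ∈ AddSubgroup.zmultiples c → y = 0 ∨ y = c := fun {c y} hy => by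
    obtain ⟨k, rfl⟩ := AddSubgroup.mem_zmultiples_iff.1 hy
    have h2 : (2 : ℤ) • c = 0 := by rw [two_zsmul, hs.two]
    rcases Int.even_or_odd k with ⟨j, rfl⟩ | ⟨j, rfl⟩
    · exact Or.inl (by rw [show j + j = j * 2 by ring, mul_zsmul, h2, zsmul_zero])
    · exact Or.inr (by rw [add_zsmul, one_zsmul, mul_comm, mul_zsmul, h2, zsmul_zero, zero_add])
  obtain ⟨p, hp, r, hr, rfl⟩ := AddSubgroup.mem_sup.1 hz
  rcases one hp with rfl | rfl <;> rcases one hr with rfl | rfl <;> simp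

namespace Side

variable {s : V → V → ZMod 2} {X : V → Matrix ι ι F} {x : V} {γ : F} (h : Side s X x γ)
include h

/-- Two halves of a vector moved by a matrix. -/
theorem both {A : Matrix ι ι F} {w u u' : V} {c c' : F}
    (e : hf X x γ * (A * X w) = c • (hf X x γ * (X u * A)))
    (e' : hf X x (-γ) * (A * X w) = c' • (hf X x (-γ) * (X u' * A))) :
    A * X w = (c • (hf X x γ * X u) + c' • (hf X x (-γ) * X u')) * A := by
  rw [Matrix.add_mul, Matrix.smul_mul, Matrix.smul_mul, Matrix.mul_assoc, Matrix.mul_assoc, ← e, ← e',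
    ← Matrix.add_mul, h.hf_add, Matrix.one_mul]

theorem hr_mul {A : Matrix ι ι F} {w w' u u' : V} (hux : s u x = 0)
    (h1 : Hr X (hf X x γ) A w u) (h2 : Hr X (hf X x γ) A w' u') :
    Hr X (hf X x γ) A (w + w') (u + u') := by
  obtain ⟨c, hc, e⟩ := h1
  obtain ⟨d, hd, e'⟩ := h2
  obtain ⟨m, hm, hm'⟩ := h.fm.mul w w'
  obtain ⟨n, hn, hn'⟩ := h.fm.mul u u'
  refine ⟨m⁻¹ * (c * (d * n)), mul_ne_zero (inv_ne_zero hm) (mul_ne_zero hc (mul_ne_zero hd hn)), ?_⟩
  calc hf X x γ * (A * X (w + w')) = m⁻¹ • (hf X x γ * (A * X w) * X w') := by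
        rw [show X (w + w') = m⁻¹ • (X w * X w') by rw [hm', inv_smul_smul₀ hm], Matrix.mul_smul, Matrix.mul_smul]
        simp only [Matrix.mul_assoc]
    _ = (m⁻¹ * c) • (X u * (hf X x γ * (A * X w'))) := by
        rw [e, Matrix.smul_mul, smul_smul, ← Matrix.mul_assoc (hf X x γ), h.hf_X hux]
        simp only [Matrix.mul_assoc]
    _ = _ := by
        rw [e', Matrix.mul_smul, smul_smul, ← Matrix.mul_assoc (X u), ← h.hf_X hux,
          show hf X x γ * X u * (X u' * A) = hf X x γ * (X u * X u' * A) by simp only [Matrix.mul_assoc], hn',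
          Matrix.smul_mul, Matrix.mul_smul, smul_smul]
        congr 1
        ring

theorem hr_pres {A : Matrix ι ι F} (hu : IsUnit A) {w w' u u' : V} (hux : s u x = 0) (hux' : s u' x = 0)
    (h1 : Hr X (hf X x γ) A w u) (h2 : Hr X (hf X x γ) A w' u') : s u u' = s w w' := by
  obtain ⟨c, hc, e⟩ := h1
  obtain ⟨d, hd, e'⟩ := h2
  have prod : ∀ {a a' b b' : V} {f f' : F}, s b x = 0 →
      hf X x γ * (A * X a) = f • (hf X x γ * (X b * A)) → hf X x γ * (A * X a') = f' • (hf X x γ * (X b' * A)) →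
      hf X x γ * (A * (X a * X a')) = (f * f') • (hf X x γ * (X b * X b' * A)) := by
    intro a a' b b' f f' hb p p'
    rw [← Matrix.mul_assoc A, ← Matrix.mul_assoc (hf X x γ) (A * X a), p, Matrix.smul_mul,
      ← Matrix.mul_assoc (hf X x γ) (X b), h.hf_X hb, Matrix.mul_assoc (X b * hf X x γ),
      Matrix.mul_assoc (X b), p', Matrix.mul_smul, smul_smul, ← Matrix.mul_assoc (X b), ← h.hf_X hb]
    simp only [Matrix.mul_assoc]
  have q1 := prod hux e e'
  rw [h.fm.comm w w', Matrix.mul_smul, Matrix.mul_smul, prod hux' e' e, smul_smul, h.fm.comm u u', Matrix.smul_mul,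
    Matrix.mul_smul, smul_smul, mul_comm d c] at q1
  have hne : hf X x γ * (X u' * X u * A) ≠ 0 := fun e0 => h.hf_ne
    ((((h.fm.isUnit u').mul (h.fm.isUnit u)).mul hu).mul_left_injective
      (show hf X x γ * (X u' * X u * A) = 0 * (X u' * X u * A) by rw [e0, Matrix.zero_mul]))
  have := smul_left_injective F hne q1
  exact sg2_inj h.fm.two (mul_left_cancel₀ (mul_ne_zero hc hd) (by rw [← this]; ring))

/-- A matrix with different halves at `w` fixes the members commuting with it only on that line. -/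
theorem span_eq {q : V → ZMod 2} {ε : ZMod 2} (hq : Quad s q ε) {v : V} {η : F} (hv : Side s X v η) (hxv : x ≠ v)
    {A : Matrix ι ι F} (hu : IsUnit A) {w u0 u1 r0 r1 : V}
    (hu0 : s u0 x = 0) (hu1 : s u1 x = 0) (hr0 : s r0 v = 0) (hr1 : s r1 v = 0)
    (h0 : Hr X (hf X x γ) A w u0) (h1 : Hr X (hf X x (-γ)) A w u1)
    (k0 : Hr X (hf X v η) A w r0) (k1 : Hr X (hf X v (-η)) A w r1)
    (hne : u0 + u1 ≠ 0) (hne' : u0 + u1 ≠ x) : u0 + u1 = v ∨ u0 + u1 = v + x := by
  classical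
  haveI := h.fm.finite
  haveI := Fintype.ofFinite V
  obtain ⟨c0, hc0, e0⟩ := h0
  obtain ⟨c1, hc1, e1⟩ := h1
  obtain ⟨d0, -, f0⟩ := k0
  obtain ⟨d1, -, f1⟩ := k1
  obtain ⟨Z, hZ⟩ : ∃ Z, Z = c0 • (hf X x γ * X u0) + c1 • (hf X x (-γ) * X u1) := ⟨_, rfl⟩
  have hZ' : Z = d0 • (hf X v η * X r0) + d1 • (hf X v (-η) * X r1) := by
    refine hu.mul_left_injective ?_
    show Z * A = _ * A
    rw [hZ, ← h.both e0 e1, hv.both f0 f1]
  -- vectors respected by the second description respect the first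
  have hperp : ∀ t, s t v = 0 → s t (r0 + r1) = 0 → s t x = 0 ∧ s t (u0 + u1) = 0 := by
    intro t ht htr
    have hs' : s r1 t = s r0 t := by
      rw [h.fm.form.add_right] at htr
      rw [h.fm.form.symm r1, h.fm.form.symm r0, CharTwo.add_eq_zero.1 htr]
    have half : ∀ (σ : F), Side s X v σ → ∀ r, hf X v σ * X r * X t = sg2 F (s r t) • (X t * (hf X v σ * X r)) :=
      fun σ hσ r => by
        rw [Matrix.mul_assoc, h.fm.comm r t, Matrix.mul_smul, ← Matrix.mul_assoc, hσ.hf_X ht, Matrix.mul_assoc]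
    have hcomm : Z * X t = sg2 F (s r0 t) • (X t * Z) := by
      rw [hZ', Matrix.add_mul, Matrix.smul_mul, Matrix.smul_mul, half η hv r0, half (-η) hv.neg r1, hs',
        Matrix.mul_add, Matrix.mul_smul, Matrix.mul_smul, smul_add, smul_comm, smul_comm d1]
    obtain ⟨m0, hm0, hm0'⟩ := h.fm.mul x u0
    obtain ⟨m1, -, hm1'⟩ := h.fm.mul x u1
    obtain ⟨a, ha⟩ : ∃ a : V → F, a = fun z => ((if z = u0 then (2 : F)⁻¹ * c0 else 0) +
        if z = x + u0 then (2 : F)⁻¹ * c0 * γ * m0 else 0) + ((if z = u1 then (2 : F)⁻¹ * c1 else 0) +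
        if z = x + u1 then (2 : F)⁻¹ * c1 * -γ * m1 else 0) := ⟨_, rfl⟩
    have hZa : Z = ∑ z, a z • X z := by
      simp only [ha, add_smul, ite_smul, zero_smul, Finset.sum_add_distrib, Finset.sum_ite_eq', Finset.mem_univ,
        if_true]
      rw [hZ, hf, hf]
      simp only [Matrix.smul_mul, Matrix.add_mul, Matrix.one_mul, hm0', hm1']
      module
    have x01 : u0 ≠ x + u0 := fun e => h.x0 (right_eq_add.1 e)
    have n1 : u0 ≠ u1 := fun e => hne (by rw [e, h.fm.form.two])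
    have n2 : u0 ≠ x + u1 := fun e => hne' (by rw [e, h.fm.form.add_add_cancel])
    have n3 : x + u0 ≠ u1 := fun e => hne' (by rw [← e, add_comm x u0, ← add_assoc, h.fm.form.two, zero_add])
    have n4 : x + u0 ≠ x + u1 := fun e => n1 (add_left_cancel e)
    have a0 : a u0 ≠ 0 := by
      simp only [ha, if_true, if_neg x01, if_neg n1, if_neg n2, add_zero]
      exact mul_ne_zero (inv_ne_zero h.fm.two) hc0
    have a0x : a (x + u0) ≠ 0 := by
      simp only [ha, if_true, if_neg x01.symm, if_neg n3, if_neg n4, add_zero, zero_add]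
      exact mul_ne_zero (mul_ne_zero (mul_ne_zero (inv_ne_zero h.fm.two) hc0) h.g0) hm0
    have a1 : a u1 ≠ 0 := by
      have n5 : u1 ≠ x + u1 := fun e => h.x0 (right_eq_add.1 e)
      simp only [ha, if_true, if_neg n1.symm, if_neg n3.symm, if_neg n5, add_zero, zero_add]
      exact mul_ne_zero (inv_ne_zero h.fm.two) hc1
    have s0 := h.fm.supp hZa hcomm a0
    have s0x := h.fm.supp hZa hcomm a0x
    have s1 := h.fm.supp hZa hcomm a1
    rw [h.fm.form.add_left, s0, add_eq_right] at s0x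
    refine ⟨by rw [h.fm.form.symm, s0x], ?_⟩
    rw [h.fm.form.symm, h.fm.form.add_left, s0, s1, CharTwo.add_self_eq_zero]
  obtain ⟨S, hS⟩ : ∃ S, S = AddSubgroup.zmultiples v ⊔ AddSubgroup.zmultiples (r0 + r1) := ⟨_, rfl⟩
  have inS : ∀ z, (∀ t, s t v = 0 → s t (r0 + r1) = 0 → s t z = 0) → z ∈ S := fun z hz => by
    rw [← hq.perp_perp S]
    intro t ht
    rw [hq.form.symm]
    exact hz t (ht v (hS ▸ AddSubgroup.mem_sup_left (AddSubgroup.mem_zmultiples v)))
      (ht _ (hS ▸ AddSubgroup.mem_sup_right (AddSubgroup.mem_zmultiples _)))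
  have mS : ∀ z, z ∈ S → z = 0 ∨ z = v ∨ z = r0 + r1 ∨ z = v + (r0 + r1) := fun z hz =>
    mem_two h.fm.form (hS ▸ hz)
  have hv2 : v + (v + (r0 + r1)) = r0 + r1 := by rw [← add_assoc, h.fm.form.two, zero_add]
  rcases mS x (inS x fun t a b => (hperp t a b).1) with e | e | e | e
  · exact absurd e h.x0
  · exact absurd e hxv
  · rcases mS _ (inS _ fun t a b => (hperp t a b).2) with e' | e' | e' | e'
    · exact absurd e' hne
    · exact Or.inl e'
    · exact absurd (e'.trans e.symm) hne'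
    · exact Or.inr (e'.trans (by rw [e]))
  · rcases mS _ (inS _ fun t a b => (hperp t a b).2) with e' | e' | e' | e'
    · exact absurd e' hne
    · exact Or.inl e'
    · right; rw [e', e, hv2]
    · exact absurd (e'.trans e.symm) hne'

end Side

namespace Base

variable [Finite F] {s : V → V → ZMod 2} {X : V → Matrix ι ι F} {q : V → ZMod 2} {ε : ZMod 2}
  {M : Subgroup (GL ι F)} (h : Base s X q ε M)
include h

theorem nrm_of_halved (flat : ε = 0) (hroot : ∀ v, v ≠ 0 → ∃ γ, Side s X v γ)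
    (hh : ∀ v γ, Side s X v γ → ∀ g ∈ M, (g : Matrix ι ι F) * X v = X v * (g : Matrix ι ι F) →
      Halved s X v γ (g : Matrix ι ι F))
    {x : V} (hx : x ≠ 0) {g : GL ι F} (hg : g ∈ M) (hgx : (g : Matrix ι ι F) * X x = X x * (g : Matrix ι ι F)) :
    Nrm s X x (g : Matrix ι ι F) := by
  classical
  haveI := h.quad.finite
  obtain ⟨γ, hS⟩ := hroot x hx
  have hS' := hS.neg
  have sf := h.fm.form
  obtain ⟨y, hy⟩ := sf.exists_one hx
  have hyx : s y x = 1 := by rw [sf.symm, hy]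
  obtain ⟨W0, hW0⟩ : ∃ W0, W0 = perp h.quad.form (span3 x y 0) := ⟨_, rfl⟩
  have memW : ∀ z, z ∈ W0 ↔ s z x = 0 ∧ s z y = 0 := by
    intro z
    rw [hW0]
    constructor
    · exact fun hz => ⟨hz x (h.quad.mem_span3_left x y 0), hz y (h.quad.mem_span3_mid x y 0)⟩
    · rintro ⟨h1, h2⟩ w hw
      obtain ⟨p, hp, r, hr, rfl⟩ := AddSubgroup.mem_sup.1 hw
      have hr0 : r = 0 := by
        rcases mem_two sf (a := r) (b := 0) (AddSubgroup.mem_sup_right hr) with e | e | e | e
        · exact e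
        · obtain ⟨k, rfl⟩ := AddSubgroup.mem_zmultiples_iff.1 hr
          exact zsmul_zero k
        · exact e
        · obtain ⟨k, rfl⟩ := AddSubgroup.mem_zmultiples_iff.1 hr
          exact zsmul_zero k
      rw [hr0, add_zero]
      rcases mem_two sf hp with rfl | rfl | rfl | rfl
      · exact sf.zero_right _
      · exact h1
      · exact h2
      · rw [sf.add_right, h1, h2, add_zero]
  -- projection to the small space
  have proj : ∀ z, s z x = 0 → z ∈ W0 ∨ z + x ∈ W0 := fun z hz => by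
    rcases z2 (s z y) with e | e
    · exact Or.inl ((memW z).2 ⟨hz, e⟩)
    · refine Or.inr ((memW _).2 ⟨by rw [sf.add_left, hz, sf.alt, add_zero], ?_⟩)
      rw [sf.add_left, e, hy]
      decide
  have hxW : x ∉ W0 := fun hh' => by
    have := ((memW x).1 hh').2
    rw [hy] at this
    exact absurd this (by decide)
  let R : F → Matrix ι ι F → (W0 → W0) → Prop := fun σ A L => ∀ w : W0, Hr X (hf X x σ) A w (L w : V)
  have mapEx : ∀ σ, Side s X x σ → ∀ k ∈ M, (k : Matrix ι ι F) * X x = X x * (k : Matrix ι ι F) →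
      ∃ L : W0 → W0, R σ k L := by
    intro σ hσ k hk hkx
    have : ∀ w : W0, ∃ u : W0, Hr X (hf X x σ) (k : Matrix ι ι F) w (u : V) := fun w => by
      obtain ⟨u, hu, hr⟩ := hh x σ hσ k hk hkx w ((memW _).1 w.2).1
      rcases proj u hu with e | e
      · exact ⟨⟨u, e⟩, hr⟩
      · exact ⟨⟨_, e⟩, hσ.hr_shift hkx hu hr⟩
    choose L hL using this
    exact ⟨L, hL⟩
  have uniq : ∀ σ, Side s X x σ → ∀ (A : Matrix ι ι F), IsUnit A → ∀ L K, R σ A L → R σ A K → L = K := by
    intro σ hσ A hA L K hL hK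
    funext w
    rcases hσ.hr_uniq hA ((memW _).1 (L w).2).1 (hL w) (hK w) with e | e
    · exact Subtype.ext (sf.eq_of_add_eq_zero e)
    · exact absurd (e ▸ W0.add_mem (L w).2 (K w).2) hxW
  have comp : ∀ σ, Side s X x σ → ∀ (A B : Matrix ι ι F), A * X x = X x * A → ∀ L K, R σ A L → R σ B K →
      R σ (A * B) (L ∘ K) := fun σ hσ A B hA L K hL hK w => (hK w).comp (hσ.hf_comm hA) (hL (K w))
  have isom : ∀ σ, Side s X x σ → ∀ (A : Matrix ι ι F), IsUnit A → A * X x = X x * A → ∀ L, R σ A L →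
      Isom (fun a b : W0 => s a b) L := by
    intro σ hσ A hA hAx L hL
    refine ⟨fun a b => ?_, fun a b => hσ.hr_pres hA ((memW _).1 (L a).2).1 ((memW _).1 (L b).2).1 (hL a) (hL b)⟩
    have h1 : Hr X (hf X x σ) A (a + b : W0) ((L a + L b : W0) : V) :=
      hσ.hr_mul ((memW _).1 (L a).2).1 (hL a) (hL b)
    rcases hσ.hr_uniq hA ((memW _).1 (L (a + b)).2).1 (hL (a + b)) h1 with e | e
    · exact Subtype.ext (sf.eq_of_add_eq_zero e)
    · exact absurd (e ▸ W0.add_mem (L (a + b)).2 (L a + L b).2) hxW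
  have ofAct : ∀ σ, Side s X x σ → ∀ (k : GL ι F) (L' : V → V), Act X (k : Matrix ι ι F) L' →
      ∀ L : W0 → W0, (∀ w : W0, L' w = (L w : V) ∨ L' w = (L w : V) + x) →
      (k : Matrix ι ι F) * X x = X x * (k : Matrix ι ι F) → R σ k L := by
    intro σ hσ k L' hL' L hLL hkx w
    obtain ⟨c, hc⟩ := hL' w
    have h1 := hr_of_act (hf X x σ) (h.fm.act_ne k.isUnit hc) hc
    rcases hLL w with e | e
    · rwa [e] at h1
    · rw [e] at h1
      have := hσ.hr_shift hkx (by rw [sf.add_left, ((memW _).1 (L w).2).1, sf.alt, add_zero]) h1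
      rwa [sf.add_add_cancel] at this
  have flatq : ∀ a, q a = ε := fun a => (h.quad.flat flat a).trans flat.symm
  have fixSign : ∀ k ∈ M, ∀ L', Act X (k : Matrix ι ι F) L' → L' x = x →
      ∃ k' ∈ M, (k' : Matrix ι ι F) * X x = X x * (k' : Matrix ι ι F) ∧ Act X (k' : Matrix ι ι F) L' := by
    intro k hk L' hL' hLx
    obtain ⟨c, hc⟩ := hL' x
    rw [hLx] at hc
    obtain ⟨z, rfl⟩ := h.fm.sign k.isUnit hc
    rcases z2 z with rfl | rfl
    · exact ⟨k, hk, by rw [hc, sg2_zero, one_smul], hL'⟩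
    · obtain ⟨gy, hgy, egy⟩ := h.memX y
      refine ⟨gy * k, mul_mem hgy hk, ?_, by
        rw [Units.val_mul, egy]; exact (h.fm.act_X y).comp hL'⟩
      rw [Units.val_mul, egy, Matrix.mul_assoc, hc, Matrix.mul_smul, ← Matrix.mul_assoc, h.fm.comm y x, hyx,
        Matrix.smul_mul, smul_smul, sg2_self, one_smul, Matrix.mul_assoc]
  -- lifts of the isometries of the small space
  have sfW : Sform (fun a b : W0 => s a b) := by
    refine ⟨fun v => Subtype.ext (sf.two _), fun a b c => sf.add_left _ _ _, fun a b => sf.symm _ _,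
      fun a => sf.alt _, fun a ha => Subtype.ext (sf.nondeg _ fun b => ?_)⟩
    obtain ⟨b', hb'⟩ : ∃ b', b' = if s b y = 0 then b else b + x := ⟨_, rfl⟩
    obtain ⟨b'', hb''⟩ : ∃ b'', b'' = if s b' x = 0 then b' else b' + y := ⟨_, rfl⟩
    have e1 : s b' y = 0 := by
      rw [hb']
      split_ifs with e
      · exact e
      · rw [sf.add_left, (z2 _).resolve_left e, hy]; decide
    have e2 : b'' ∈ W0 := (memW _).2 ⟨by
      rw [hb'']
      split_ifs with e
      · exact e
      · rw [sf.add_left, (z2 _).resolve_left e, hyx]; decide, by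
      rw [hb'']
      split_ifs
      · exact e1
      · rw [sf.add_left, e1, sf.alt, add_zero]⟩
    have e3 : s (a : V) b'' = s (a : V) b := by
      rw [hb'', hb']
      split_ifs <;> simp only [sf.add_right, ((memW _).1 a.2).1, ((memW _).1 a.2).2, add_zero]
    rw [← e3]
    exact ha ⟨b'', e2⟩
  haveI : Finite W0 := Subtype.finite
  have lift : ∀ L, Isom (fun a b : W0 => s a b) L → ∃ k ∈ M,
      (k : Matrix ι ι F) * X x = X x * (k : Matrix ι ι F) ∧ ∃ L', Act X (k : Matrix ι ι F) L' ∧ L' x = x ∧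
        ∀ w : W0, L' w = (L w : V) := by
    intro L hL
    refine sfW.isom_induction (fun L => ∃ k ∈ M, (k : Matrix ι ι F) * X x = X x * (k : Matrix ι ι F) ∧
      ∃ L', Act X (k : Matrix ι ι F) L' ∧ L' x = x ∧ ∀ w : W0, L' w = (L w : V))
      ⟨1, one_mem M, by rw [Units.val_one, Matrix.one_mul, Matrix.mul_one], id,
        by rw [Units.val_one]; exact act_one X, rfl, fun w => rfl⟩ ?_ L hL
    rintro a K ⟨k, hk, hkx, K', hK', hK'x, hKK⟩
    obtain ⟨t, ht, htL⟩ := h.lift (a : V) x (flatq _) (flatq _)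
    have htx : (tr s (a : V) ∘ tr s x) x = x := by
      rw [Function.comp_apply, sf.tr_self, tr_zero (by rw [sf.symm, ((memW _).1 a.2).1])]
    obtain ⟨t', ht', ht'x, ht'L⟩ := fixSign t ht _ htL htx
    refine ⟨t' * k, mul_mem ht' hk, by rw [Units.val_mul, Matrix.mul_assoc, hkx, ← Matrix.mul_assoc, ht'x,
      Matrix.mul_assoc], _, by rw [Units.val_mul]; exact ht'L.comp hK', ?_, fun w => ?_⟩
    · simp only [Function.comp_apply] at htx ⊢
      rw [hK'x, htx]
    · simp only [Function.comp_apply]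
      rw [hKK, tr_zero (a := x) ((memW _).1 (K w).2).1]
      rcases z2 (s (K w : V) a) with e | e
      · rw [tr_zero e, tr_zero (s := fun a b : W0 => s a b) e]
      · rw [tr_one e, tr_one (s := fun a b : W0 => s a b) e]; rfl
  have invEx : ∀ σ, Side s X x σ → ∀ k ∈ M, (k : Matrix ι ι F) * X x = X x * (k : Matrix ι ι F) →
      ∀ L, R σ k L → ∃ K, R σ (k⁻¹ : GL ι F) K ∧ (∀ w, L (K w) = w) ∧ ∀ w, K (L w) = w := by
    intro σ hσ k hk hkx L hL
    have hkix : ((k⁻¹ : GL ι F) : Matrix ι ι F) * X x = X x * ((k⁻¹ : GL ι F) : Matrix ι ι F) := by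
      refine k.isUnit.mul_left_cancel ?_
      rw [← Matrix.mul_assoc, k.mul_inv, Matrix.one_mul, ← Matrix.mul_assoc, hkx, Matrix.mul_assoc, k.mul_inv,
        Matrix.mul_one]
    obtain ⟨K, hK⟩ := mapEx σ hσ k⁻¹ (inv_mem hk) hkix
    have idR : R σ (1 : Matrix ι ι F) id := fun w => hr_of_act _ one_ne_zero
      (by simp : (1 : Matrix ι ι F) * X (w : V) = (1 : F) • (X (w : V) * 1))
    refine ⟨K, hK, fun w => ?_, fun w => ?_⟩
    · exact congrFun (uniq σ hσ 1 isUnit_one _ _ (k.mul_inv ▸ comp σ hσ _ _ hkx L K hL hK) idR) w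
    · exact congrFun (uniq σ hσ 1 isUnit_one _ _ (k.inv_mul ▸ comp σ hσ _ _ hkix K L hK hL) idR) w
  obtain ⟨L0, hL0⟩ := mapEx γ hS g hg hgx
  obtain ⟨K0, hK0, -, hK0L⟩ := invEx γ hS g hg hgx L0 hL0
  obtain ⟨n, hn, hnx, N', hN', -, hNK⟩ := lift K0 (isom γ hS _ (g⁻¹).isUnit (by
    refine g.isUnit.mul_left_cancel ?_
    rw [← Matrix.mul_assoc, g.mul_inv, Matrix.one_mul, ← Matrix.mul_assoc, hgx, Matrix.mul_assoc, g.mul_inv,
      Matrix.mul_one]) K0 hK0)
  obtain ⟨g1, hg1⟩ : ∃ g1, g1 = n * g := ⟨_, rfl⟩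
  have hg1M : g1 ∈ M := hg1 ▸ mul_mem hn hg
  have hg1x : (g1 : Matrix ι ι F) * X x = X x * (g1 : Matrix ι ι F) := by
    rw [hg1, Units.val_mul, Matrix.mul_assoc, hgx, ← Matrix.mul_assoc, hnx, Matrix.mul_assoc]
  have hg1p : R γ g1 id := by
    have := comp γ hS _ _ hnx K0 L0 (ofAct γ hS n N' hN' K0 (fun w => Or.inl (hNK w)) hnx) hL0
    rw [show K0 ∘ L0 = id from funext hK0L, ← Units.val_mul, ← hg1] at this
    exact this
  obtain ⟨L1, hL1⟩ := mapEx (-γ) hS' g1 hg1M hg1x
  obtain ⟨K1, hK1, hL1K, -⟩ := invEx (-γ) hS' g1 hg1M hg1x L1 hL1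
  obtain ⟨K1p, hK1p, -, hK1pi⟩ := invEx γ hS g1 hg1M hg1x id hg1p
  obtain rfl : K1p = id := funext hK1pi
  have hL1id : L1 = id := by
    by_contra hne
    obtain ⟨a, ha⟩ : ∃ a : W0, L1 a ≠ a := by
      by_contra hall
      push Not at hall
      exact hne (funext hall)
    have hLi := isom (-γ) hS' _ g1.isUnit hg1x L1 hL1
    have hax : s (a : V) x = 0 := ((memW _).1 a.2).1
    obtain ⟨t, ht, htL⟩ := h.lift (a : V) x (flatq _) (flatq _)
    obtain ⟨n2, hn2, hn2x, hn2L⟩ := fixSign t ht _ htL (by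
      rw [Function.comp_apply, sf.tr_self, tr_zero (by rw [sf.symm, hax])])
    obtain ⟨τ, hτ⟩ : ∃ τ, τ = tr (fun a b : W0 => s a b) a := ⟨_, rfl⟩
    have hn2R : ∀ σ, Side s X x σ → R σ n2 τ := fun σ hσ => ofAct σ hσ n2 _ hn2L τ (fun w => Or.inl (by
      rw [hτ, Function.comp_apply, tr_zero (a := x) ((memW _).1 w.2).1]
      rcases z2 (s (w : V) a) with e | e
      · rw [tr_zero e, tr_zero (s := fun a b : W0 => s a b) e]
      · rw [tr_one e, tr_one (s := fun a b : W0 => s a b) e]; rfl)) hn2x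
    have hn2i : ∀ σ, Side s X x σ → R σ (n2⁻¹ : GL ι F) τ := fun σ hσ => by
      obtain ⟨K, hK, h1, -⟩ := invEx σ hσ n2 hn2 hn2x τ (hn2R σ hσ)
      have : K = τ := funext fun w => by
        have := h1 w
        rw [hτ] at this ⊢
        rw [← sfW.tr_tr a (K w), this]
      rwa [this] at hK
    obtain ⟨g2, hg2⟩ : ∃ g2, g2 = g1 * n2 * g1⁻¹ * n2⁻¹ := ⟨_, rfl⟩
    have hg2M : g2 ∈ M := hg2 ▸ mul_mem (mul_mem (mul_mem hg1M hn2) (inv_mem hg1M)) (inv_mem hn2)
    have cinv : ∀ k : GL ι F, (k : Matrix ι ι F) * X x = X x * (k : Matrix ι ι F) →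
        ((k⁻¹ : GL ι F) : Matrix ι ι F) * X x = X x * ((k⁻¹ : GL ι F) : Matrix ι ι F) := fun k hk => by
      refine k.isUnit.mul_left_cancel ?_
      rw [← Matrix.mul_assoc, k.mul_inv, Matrix.one_mul, ← Matrix.mul_assoc, hk, Matrix.mul_assoc, k.mul_inv,
        Matrix.mul_one]
    have cmul : ∀ k l : GL ι F, (k : Matrix ι ι F) * X x = X x * (k : Matrix ι ι F) →
        (l : Matrix ι ι F) * X x = X x * (l : Matrix ι ι F) →
        ((k * l : GL ι F) : Matrix ι ι F) * X x = X x * ((k * l : GL ι F) : Matrix ι ι F) := fun k l hk hl => by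
      rw [Units.val_mul, Matrix.mul_assoc, hl, ← Matrix.mul_assoc, hk, Matrix.mul_assoc]
    have hg2x : (g2 : Matrix ι ι F) * X x = X x * (g2 : Matrix ι ι F) :=
      hg2 ▸ cmul _ _ (cmul _ _ (cmul _ _ hg1x hn2x) (cinv _ hg1x)) (cinv _ hn2x)
    have comp4 : ∀ σ, Side s X x σ → ∀ L K, R σ g1 L → R σ (g1⁻¹ : GL ι F) K →
        R σ g2 (((L ∘ τ) ∘ K) ∘ τ) := fun σ hσ L K hL hK => by
      rw [hg2, Units.val_mul, Units.val_mul, Units.val_mul]
      refine comp σ hσ _ _ ?_ _ _ (comp σ hσ _ _ ?_ _ _ (comp σ hσ _ _ hg1x _ _ hL (hn2R σ hσ)) hK) (hn2i σ hσ)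
      · rw [← Units.val_mul, ← Units.val_mul]; exact cmul _ _ (cmul _ _ hg1x hn2x) (cinv _ hg1x)
      · rw [← Units.val_mul]; exact cmul _ _ hg1x hn2x
    have hp : R γ g2 id := by
      have := comp4 γ hS id id hg1p hK1p
      rwa [show (((id : W0 → W0) ∘ τ) ∘ id) ∘ τ = id from funext fun w => by
        simp only [Function.comp_apply, id, hτ, sfW.tr_tr]] at this
    obtain ⟨M2, hM2, hM2e⟩ : ∃ M2 : W0 → W0, R (-γ) g2 M2 ∧
        ∀ w, M2 w = tr (fun a b : W0 => s a b) (L1 a) (tr (fun a b : W0 => s a b) a w) := by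
      refine ⟨_, comp4 (-γ) hS' L1 K1 hL1 hK1, fun w => ?_⟩
      simp only [Function.comp_apply, hτ]
      generalize tr (fun a b : W0 => s a b) a w = z
      have hp := hLi.pres (K1 z) a
      rw [hL1K z] at hp
      rcases z2 (s (K1 z : V) a) with e | e
      · rw [tr_zero (s := fun a b : W0 => s a b) e, hL1K, tr_zero (s := fun a b : W0 => s a b) (hp.trans e)]
      · rw [tr_one (s := fun a b : W0 => s a b) e, hLi.add, hL1K,
          tr_one (s := fun a b : W0 => s a b) (hp.trans e)]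
    have hL0' : L1 0 = 0 := by
      have := hLi.add 0 0
      rw [add_zero] at this
      exact left_eq_add.1 this
    have ha0 : a ≠ 0 := fun e0 => ha (by rw [e0, hL0'])
    have hLa0 : (L1 a : V) ≠ 0 := fun e0 => ha0 (sfW.ext fun b => by
      rw [← hLi.pres a b, show L1 a = 0 from Subtype.ext e0, sfW.zero_left, sfW.zero_left])
    have hLax : (L1 a : V) ≠ x := fun e0 => hxW (e0 ▸ (L1 a).2)
    have xa : ∀ b : W0, s x (b : V) = 0 := fun b => by rw [sf.symm, ((memW _).1 b.2).1]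
    have ya : ∀ b : W0, s y (b : V) = 0 := fun b => by rw [sf.symm, ((memW _).1 b.2).2]
    -- bringing a vector to the small space
    have toW : ∀ z, ∃ z' : W0, ∀ b : W0, s (z' : V) (b : V) = s z b := by
      intro z
      obtain ⟨z1, hz1⟩ : ∃ z1, z1 = if s z x = 0 then z else z + y := ⟨_, rfl⟩
      have hz1x : s z1 x = 0 := by
        rw [hz1]
        split_ifs with e'
        · exact e'
        · rw [sf.add_left, (z2 _).resolve_left e', hyx]; decide
      have z1a : ∀ b : W0, s z1 (b : V) = s z b := fun b => by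
        rw [hz1]; split_ifs <;> simp only [sf.add_left, ya, add_zero]
      rcases proj z1 hz1x with hW | hW
      · exact ⟨⟨z1, hW⟩, z1a⟩
      · exact ⟨⟨_, hW⟩, fun b => by
          show s (z1 + x) (b : V) = _
          rw [sf.add_left, xa, add_zero, z1a]⟩
    obtain ⟨v, w, hv0, hvd, hfixv, hsw, hwd⟩ : ∃ v w : W0, v ≠ 0 ∧ v ≠ L1 a ∧ M2 v = v ∧ s (w : V) v = 0 ∧
        M2 w = w + L1 a := by
      rcases z2 (s (a : V) (L1 a : V)) with e | e
      · obtain ⟨z0, h1, h2⟩ := h.quad.exists_perp_one (x := (a : V)) (v := (L1 a : V)) hLa0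
          (fun e0 => ha (Subtype.ext e0))
        obtain ⟨z, hz⟩ := toW z0
        refine ⟨a, z, ha0, fun e0 => ha e0.symm, ?_, by rw [hz, h1], ?_⟩
        · rw [hM2e, sfW.tr_self, tr_zero (s := fun a b : W0 => s a b) e]
        · rw [hM2e, tr_zero (s := fun a b : W0 => s a b) (show s (z : V) a = 0 by rw [hz, h1]),
            tr_one (s := fun a b : W0 => s a b) (show s (z : V) (L1 a) = 1 by rw [hz, h2])]
      · have hc := card_perp h.quad.form (span3 x (a : V) (L1 a))
        have h8 := h.quad.card_span3_le x (a : V) (L1 a)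
        obtain ⟨v0, hv0, hv0x⟩ : ∃ v0 ∈ perp h.quad.form (span3 x (a : V) (L1 a)),
            v0 ∉ AddSubgroup.zmultiples x := by
          by_contra hno
          push Not at hno
          have h2 := (AddSubgroup.card_le_of_le (show perp h.quad.form (span3 x (a : V) (L1 a)) ≤
            AddSubgroup.zmultiples x from hno)).trans (h.quad.card_zmultiples_le x)
          have := Nat.mul_le_mul h8 h2
          have := h.quad.big
          omega
        have k1 := hv0 _ (h.quad.mem_span3_mid x (a : V) (L1 a))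
        have k2 := hv0 _ (h.quad.mem_span3_right x (a : V) (L1 a))
        obtain ⟨v', hv'W, hv'e⟩ : ∃ v', v' ∈ W0 ∧ (v' = v0 ∨ v' = v0 + x) :=
          (proj v0 (hv0 x (h.quad.mem_span3_left _ _ _))).elim (fun hW => ⟨_, hW, Or.inl rfl⟩)
            fun hW => ⟨_, hW, Or.inr rfl⟩
        have e1 : s v' (a : V) = 0 ∧ s v' (L1 a : V) = 0 := by
          rcases hv'e with rfl | rfl
          · exact ⟨k1, k2⟩
          · exact ⟨by rw [sf.add_left, k1, xa, add_zero], by rw [sf.add_left, k2, xa, add_zero]⟩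
        refine ⟨⟨v', hv'W⟩, a, fun e0 => ?_, fun e0 => ?_, ?_, by rw [sf.symm]; exact e1.1, ?_⟩
        · have e2 : v' = 0 := congrArg Subtype.val e0
          rcases hv'e with e3 | e3 <;> rw [e2] at e3
          · exact hv0x (e3 ▸ (AddSubgroup.zmultiples x).zero_mem)
          · exact hv0x (sf.eq_of_add_eq_zero e3.symm ▸ AddSubgroup.mem_zmultiples x)
        · have e2 : v' = (L1 a : V) := congrArg Subtype.val e0
          have := e1.1
          rw [e2, sf.symm, e] at this
          exact absurd this (by decide)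
        · rw [hM2e, tr_zero (s := fun a b : W0 => s a b) (x := ⟨v', hv'W⟩) (a := a) e1.1,
            tr_zero (s := fun a b : W0 => s a b) (x := ⟨v', hv'W⟩) (a := L1 a) e1.2]
        · rw [hM2e, sfW.tr_self, tr_one (s := fun a b : W0 => s a b) e]
    have hvx : s (v : V) x = 0 := ((memW _).1 v.2).1
    have hv0' : (v : V) ≠ 0 := fun e0 => hv0 (Subtype.ext e0)
    -- correcting to commute with the fixed vector
    obtain ⟨g', hg'M, hg'x, hg'p, hg'm, c, hg'v⟩ : ∃ g' ∈ M,
        (g' : Matrix ι ι F) * X x = X x * (g' : Matrix ι ι F) ∧ R γ g' id ∧ R (-γ) g' M2 ∧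
        ∃ c : F, (g' : Matrix ι ι F) * X v = c • (X v * (g' : Matrix ι ι F)) := by
      obtain ⟨c0, -, e0⟩ := hp v
      obtain ⟨c1, -, e1⟩ := hM2 v
      rw [hfixv] at e1
      simp only [id] at e0
      have q0 := hS.hr_sign hg2x g2.isUnit hvx e0
      have q1 := hS'.hr_sign hg2x g2.isUnit hvx e1
      have eb := hS.both e0 e1
      rcases (mul_self_eq_mul_self_iff.1 (q1.trans q0.symm) : c1 = c0 ∨ c1 = -c0) with rfl | rfl
      · refine ⟨g2, hg2M, hg2x, hp, hM2, c1, ?_⟩
        rw [eb, ← smul_add, ← Matrix.add_mul, hS.hf_add, Matrix.one_mul, Matrix.smul_mul]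
      obtain ⟨u0, hu0⟩ := sf.exists_one hv0'
      obtain ⟨u, hu⟩ := toW u0
      have hvu : s (v : V) u = 1 := by rw [sf.symm, hu, sf.symm, hu0]
      obtain ⟨t3, ht3, ht3L⟩ := h.lift (u : V) ((u : V) + x) (flatq _) (flatq _)
      have hux : s (u : V) x = 0 := ((memW _).1 u.2).1
      have hL3 : ∀ z, s z x = 0 →
          (tr s (u : V) ∘ tr s ((u : V) + x)) z = if s z (u : V) = 0 then z else z + x := fun z hz => by
        rw [Function.comp_apply]
        split_ifs with e
        · rw [tr_zero (a := (u : V) + x) (by rw [sf.add_right, e, hz, add_zero]), tr_zero e]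
        · have e' := (z2 _).resolve_left e
          rw [tr_one (a := (u : V) + x) (by rw [sf.add_right, e', hz, add_zero]), tr_one (by
            rw [sf.add_left, e', sf.add_left, sf.alt, xa u, add_zero, add_zero])]
          rw [← add_assoc z, add_right_comm (z + (u : V)) x, sf.add_add_cancel]
      obtain ⟨n3, hn3, hn3x, hn3L⟩ := fixSign t3 ht3 _ ht3L (by
        rw [hL3 x (sf.alt x), if_pos (xa u)])
      have hn3R : ∀ σ, Side s X x σ → R σ n3 id := fun σ hσ => ofAct σ hσ n3 _ hn3L id (fun z => by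
        rw [hL3 _ ((memW _).1 z.2).1]
        split_ifs
        · exact Or.inl rfl
        · exact Or.inr rfl) hn3x
      refine ⟨n3 * g2, mul_mem hn3 hg2M, cmul _ _ hn3x hg2x, ?_, ?_, ?_⟩
      · rw [Units.val_mul]
        exact comp γ hS _ _ hn3x id id (hn3R γ hS) hp
      · rw [Units.val_mul]
        exact comp (-γ) hS' _ _ hn3x id M2 (hn3R (-γ) hS') hM2
      obtain ⟨d, -, hd⟩ := h.fm.mul x v
      obtain ⟨c3, hc3⟩ := hn3L (x + (v : V))
      rw [hL3 _ (by rw [sf.add_left, sf.alt, hvx, add_zero]), if_neg (by rw [sf.add_left, xa u, hvu]; decide),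
        add_comm x (v : V), sf.add_add_cancel] at hc3
      have e2 : (g2 : Matrix ι ι F) * X v = (c0 * γ * d) • (X ((v : V) + x) * (g2 : Matrix ι ι F)) := by
        rw [eb, neg_smul, ← sub_eq_add_neg, ← smul_sub, ← Matrix.sub_mul,
          show hf X x γ - hf X x (-γ) = γ • X x by
            rw [hf, hf, ← smul_sub, show 1 + γ • X x - (1 + -γ • X x) = (2 : F) • (γ • X x) by module, smul_smul,
              inv_mul_cancel₀ h.fm.two, one_smul],
          Matrix.smul_mul γ, hd, smul_smul, smul_smul, Matrix.smul_mul, add_comm x (v : V)]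
      exact ⟨c0 * γ * d * c3, by
        rw [Units.val_mul, Matrix.mul_assoc, e2, Matrix.mul_smul, ← Matrix.mul_assoc, hc3, Matrix.smul_mul, smul_smul,
          Matrix.mul_assoc]⟩
    obtain ⟨ζ, rfl⟩ := h.fm.sign g'.isUnit hg'v
    obtain ⟨g3, hg3M, hg3x, hg3p, hg3m, hg3v⟩ : ∃ g3 ∈ M,
        (g3 : Matrix ι ι F) * X x = X x * (g3 : Matrix ι ι F) ∧ R γ g3 id ∧ R (-γ) g3 M2 ∧
        (g3 : Matrix ι ι F) * X v = X v * (g3 : Matrix ι ι F) := by
      rcases z2 ζ with rfl | rfl
      · exact ⟨g', hg'M, hg'x, hg'p, hg'm, by rw [hg'v, sg2_zero, one_smul]⟩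
      obtain ⟨u0, hu0⟩ := sf.exists_one hv0'
      obtain ⟨u, hu⟩ := toW u0
      obtain ⟨gu, hgu, egu⟩ := h.memX (u : V)
      have hux := hS.comm_X ((memW _).1 u.2).1
      have hguR : ∀ σ, Side s X x σ → R σ gu id := fun σ hσ => ofAct σ hσ gu id (by rw [egu]; exact h.fm.act_X u) id
        (fun z => Or.inl rfl) (by rw [egu]; exact hux)
      refine ⟨gu * g', mul_mem hgu hg'M, cmul _ _ (by rw [egu]; exact hux) hg'x, ?_, ?_, ?_⟩
      · rw [Units.val_mul]
        exact comp γ hS _ _ (by rw [egu]; exact hux) id id (hguR γ hS) hg'p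
      · rw [Units.val_mul]
        exact comp (-γ) hS' _ _ (by rw [egu]; exact hux) id M2 (hguR (-γ) hS') hg'm
      · rw [Units.val_mul, egu, Matrix.mul_assoc, hg'v, Matrix.mul_smul, ← Matrix.mul_assoc,
          h.fm.comm (u : V) (v : V), hu, sf.symm u0, hu0, Matrix.smul_mul, smul_smul, sg2_self, one_smul,
          Matrix.mul_assoc]
    obtain ⟨η, hη⟩ := hroot (v : V) hv0'
    obtain ⟨r0, hr0, k0⟩ := hh v η hη g3 hg3M hg3v w hsw
    obtain ⟨r1, hr1, k1⟩ := hh v (-η) hη.neg g3 hg3M hg3v w hsw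
    have h1' := hg3m w
    rw [hwd] at h1'
    have hdiff : (w : V) + ((w + L1 a : W0) : V) = (L1 a : V) := by
      rw [AddSubgroup.coe_add, ← add_assoc, sf.two, zero_add]
    have hxv : x ≠ (v : V) := fun e0 => hxW (e0 ▸ v.2)
    rcases hS.span_eq h.quad hη hxv g3.isUnit ((memW _).1 w.2).1 ((memW _).1 (w + L1 a).2).1 hr0 hr1
        (hg3p w) h1' k0 k1 (by rw [hdiff]; exact hLa0) (by rw [hdiff]; exact hLax) with e | e <;>
      rw [hdiff] at e
    · exact hvd (Subtype.ext e.symm)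
    · refine hxW ?_
      have e' : x = (v : V) + (L1 a : V) := by
        rw [e, ← add_assoc, sf.two, zero_add]
      exact e' ▸ W0.add_mem v.2 (L1 a).2
  -- both halves of `g1` fix every vector
  have onW : ∀ w : W0, ∃ (u : V) (c : F), (g1 : Matrix ι ι F) * X w = c • (X u * (g1 : Matrix ι ι F)) := by
    intro w
    obtain ⟨c0, -, e0⟩ := hg1p w
    obtain ⟨c1, -, e1⟩ := hL1 w
    rw [hL1id] at e1
    simp only [id] at e0 e1
    have hwx := ((memW _).1 w.2).1
    have q0 := hS.hr_sign hg1x g1.isUnit hwx e0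
    have q1 := hS'.hr_sign hg1x g1.isUnit hwx e1
    have eb := hS.both e0 e1
    rcases (mul_self_eq_mul_self_iff.1 (q1.trans q0.symm) : c1 = c0 ∨ c1 = -c0) with rfl | rfl
    · exact ⟨w, c1, by rw [eb, ← smul_add, ← Matrix.add_mul, hS.hf_add, Matrix.one_mul, Matrix.smul_mul]⟩
    · obtain ⟨d, -, hd⟩ := h.fm.mul x w
      refine ⟨x + w, c0 * γ * d, ?_⟩
      rw [eb, neg_smul, ← sub_eq_add_neg, ← smul_sub, ← Matrix.sub_mul,
        show hf X x γ - hf X x (-γ) = γ • X x by
          rw [hf, hf, ← smul_sub, show 1 + γ • X x - (1 + -γ • X x) = (2 : F) • (γ • X x) by module, smul_smul,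
            inv_mul_cancel₀ h.fm.two, one_smul],
        Matrix.smul_mul γ, hd, smul_smul, smul_smul, Matrix.smul_mul]
  intro w hw
  obtain ⟨u, c, e⟩ : ∃ (u : V) (c : F), (g1 : Matrix ι ι F) * X w = c • (X u * (g1 : Matrix ι ι F)) := by
    rcases proj w hw with hW | hW
    · exact onW ⟨w, hW⟩
    · obtain ⟨u, c, e⟩ := onW ⟨_, hW⟩
      obtain ⟨m, hm, hm'⟩ := h.fm.mul (w + x) x
      obtain ⟨m', -, hm''⟩ := h.fm.mul u x
      rw [sf.add_add_cancel] at hm'
      refine ⟨u + x, m⁻¹ * (c * m'), ?_⟩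
      rw [show X w = m⁻¹ • (X (w + x) * X x) by rw [hm', inv_smul_smul₀ hm], Matrix.mul_smul, ← Matrix.mul_assoc, e,
        Matrix.smul_mul, Matrix.mul_assoc, hg1x, ← Matrix.mul_assoc, hm'', Matrix.smul_mul, smul_smul, smul_smul,
        mul_assoc]
  obtain ⟨N'', hN'', -⟩ := h.fm.act_inv n.mul_inv n.inv_mul hN'
  obtain ⟨d, hd⟩ := hN'' u
  refine ⟨N'' u, c * d, ?_⟩
  have eg : (g : Matrix ι ι F) = ((n⁻¹ : GL ι F) : Matrix ι ι F) * (g1 : Matrix ι ι F) := by
    rw [← Units.val_mul, hg1, inv_mul_cancel_left]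
  rw [eg, Matrix.mul_assoc, e, Matrix.mul_smul, ← Matrix.mul_assoc, hd, Matrix.smul_mul, smul_smul,
    Matrix.mul_assoc]

theorem cent_of_halved (flat : ε = 0) (hroot : ∀ v, v ≠ 0 → ∃ γ, Side s X v γ)
    (hh : ∀ v γ, Side s X v γ → ∀ g ∈ M, (g : Matrix ι ι F) * X v = X v * (g : Matrix ι ι F) →
      Halved s X v γ (g : Matrix ι ι F))
    {x : V} (hx : x ≠ 0) {g : GL ι F} (hg : g ∈ M) (hgx : (g : Matrix ι ι F) * X x = X x * (g : Matrix ι ι F)) :
    ∃ L, Act X (g : Matrix ι ι F) L :=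
  h.cent_of_nrm hx (fun _ hv _ _ hk hkv => h.nrm_of_halved flat hroot hh hv hk hkv) hg hgx

end Base

end CfsgLib.QubitMax
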