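import Cfsg.Agent.Lib.QubitMax.Halves
import Cfsg.Agent.Lib.QubitMax.Small
import Cfsg.Agent.Lib.QubitMax.Plane

/-!
Elements of the group centralising a member squaring to one that are trivial on one half: pairs of transvections,
and the recognition of the ones lying in the frame.
-/

set_option autoImplicit false
set_option linter.unusedSectionVars false
set_option maxHeartbeats 1000000

namespace CfsgLib.QubitMax

open Matrix
open CfsgLib.EightMax (Sform Isom tr tr_one tr_zero z2 sg2 sg2_zero sg2_one sg2_self sg2_ne sg2_add sg2_inj exists_sg2)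

variable {F : Type*} [Field F] [Finite F] {ι : Type*} [Fintype ι] [DecidableEq ι] [Nonempty ι]
variable {V : Type*} [AddCommGroup V]

/-- A member squaring to one, with an anticommuting one. -/
structure Sng (s : V → V → ZMod 2) (X : V → Matrix ι ι F) (q : V → ZMod 2) (M : Subgroup (GL ι F)) (x y : V) :
    Prop where
  base : Base s X q 1 M
  hsq : ∀ v, X v * X v = sg2 F (q v) • 1
  form : ∃ J : Matrix ι ι F, IsUnit J ∧ ∀ g ∈ M, (g : Matrix ι ι F)ᵀ * J * (g : Matrix ι ι F) = J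
  ns : ∀ v, v ≠ 0 → q v = 1 → ∀ g ∈ M, (g : Matrix ι ι F) * X v = X v * (g : Matrix ι ι F) →
    ∃ L, Act X (g : Matrix ι ι F) L
  qx : q x = 0
  sxy : s x y = 1

/-- Trivial on one half, `A` on the other. -/
def kk (X : V → Matrix ι ι F) (x : V) (σ : F) (A : Matrix ι ι F) : Matrix ι ι F := hf X x σ + hf X x (-σ) * A

namespace Sng

variable {s : V → V → ZMod 2} {X : V → Matrix ι ι F} {q : V → ZMod 2} {M : Subgroup (GL ι F)} {x y : V}
  (H : Sng s X q M x y)
include H

theorem qd : Qd s q :=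
  ⟨H.base.quad.form, fun a b => by rw [H.base.quad.add, one_mul], le_trans (by norm_num) H.base.quad.big⟩

/-- The vectors orthogonal to `x` and `y`. -/
def Ws : AddSubgroup V := H.qd.pr x ⊓ H.qd.pr y

theorem mem_Ws {v : V} : v ∈ H.Ws ↔ s v x = 0 ∧ s v y = 0 := Iff.rfl

theorem x_notMem : x ∉ H.Ws := fun e => by
  have := (H.mem_Ws.1 e).2
  rw [H.sxy] at this
  exact absurd this (by decide)

theorem syx : s y x = 1 := by rw [H.base.fm.form.symm, H.sxy]

theorem x_ne : x ≠ 0 := fun e => by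
  have := H.sxy
  rw [e, H.base.fm.form.zero_left] at this
  exact absurd this (by decide)

theorem qdW : Qd (fun a b : H.Ws => s a b) fun a : H.Ws => q a := by
  have sf := H.base.fm.form
  haveI := H.base.quad.finite
  refine ⟨⟨fun v => Subtype.ext (sf.two _), fun a b c => sf.add_left _ _ _, fun a b => sf.symm _ _,
    fun a => sf.alt _, fun a ha => Subtype.ext (sf.nondeg _ fun b => ?_)⟩, fun a b => H.qd.add _ _, ?_⟩
  · obtain ⟨a1, a2⟩ := H.mem_Ws.1 a.2
    obtain ⟨b', hb'⟩ : ∃ b', b' = if s b y = 0 then b else b + x := ⟨_, rfl⟩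
    obtain ⟨b'', hb''⟩ : ∃ b'', b'' = if s b' x = 0 then b' else b' + y := ⟨_, rfl⟩
    have e1 : s b' y = 0 := by
      rw [hb']
      split_ifs with e
      · exact e
      · rw [sf.add_left, (z2 _).resolve_left e, H.sxy]; decide
    have e2 : b'' ∈ H.Ws := H.mem_Ws.2 ⟨by
      rw [hb'']
      split_ifs with e
      · exact e
      · rw [sf.add_left, (z2 _).resolve_left e, H.syx]; decide, by
      rw [hb'']
      split_ifs
      · exact e1
      · rw [sf.add_left, e1, sf.alt, add_zero]⟩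
    have e3 : s a b'' = 0 := ha ⟨_, e2⟩
    have e4 : s a b' = s a b := by
      rw [hb']
      split_ifs
      · rfl
      · rw [sf.add_right, a1, add_zero]
    rw [← e4, ← e3, hb'']
    split_ifs
    · rfl
    · rw [sf.add_right, a2, add_zero]
  · have := H.qd.card_pr_pr x y
    have := H.base.quad.big
    show 16 ≤ Nat.card (H.qd.pr x ⊓ H.qd.pr y : AddSubgroup V)
    omega

theorem room : 64 ≤ Nat.card H.Ws ∨ ∀ A : AddSubgroup H.Ws, 4 ≤ Nat.card A → ∃ a ∈ A, q (a : V) = 1 := by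
  classical
  haveI := H.base.quad.finite
  rcases H.base.quad.room rfl with h1 | h1
  · refine Or.inl ?_
    have := H.qd.card_pr_pr x y
    show 64 ≤ Nat.card (H.qd.pr x ⊓ H.qd.pr y : AddSubgroup V)
    omega
  refine Or.inr fun A hA => ?_
  by_contra hno
  push Not at hno
  have hz : ∀ a ∈ A, q (a : V) = 0 := fun a ha => (z2 _).resolve_right (hno a ha)
  obtain ⟨B, hB⟩ : ∃ B, B = A.map H.Ws.subtype ⊔ AddSubgroup.zmultiples x := ⟨_, rfl⟩
  have hBz : ∀ b ∈ B, q b = 0 := by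
    intro b hb
    obtain ⟨a', ⟨a, ha, rfl⟩, r, ⟨k, rfl⟩, rfl⟩ := AddSubgroup.mem_sup.1 (hB ▸ hb)
    have h2 : (2 : ℤ) • x = 0 := by rw [two_zsmul, H.base.fm.form.two]
    have hk : k • x = 0 ∨ k • x = x := by
      rcases Int.even_or_odd k with ⟨j, rfl⟩ | ⟨j, rfl⟩
      · left; rw [show j + j = j * 2 by ring, mul_zsmul, h2, zsmul_zero]
      · right; rw [add_zsmul, one_zsmul, mul_comm, mul_zsmul, h2, zsmul_zero, zero_add]
    show q ((a : V) + k • x) = 0
    rcases hk with e | e <;> rw [e]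
    · rw [add_zero]; exact hz a ha
    · rw [H.qd.add, hz a ha, H.qx, (H.mem_Ws.1 a.2).1]; rfl
  have hle : A.map H.Ws.subtype ≤ B := hB ▸ le_sup_left
  have hne : A.map H.Ws.subtype ≠ B := fun e => H.x_notMem (by
    have : x ∈ B := hB ▸ AddSubgroup.mem_sup_right (AddSubgroup.mem_zmultiples x)
    rw [← e] at this
    obtain ⟨a, -, e'⟩ := this
    have h2 := H.mem_Ws.1 a.2
    have h3 : s (a : V) y = s x y := congrArg (fun v => s v y) e'
    rw [h2.2, H.sxy] at h3
    exact absurd h3 (by decide))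
  have hc : Nat.card (A.map H.Ws.subtype) = Nat.card A :=
    AddSubgroup.card_map_of_injective Subtype.val_injective
  have h8 := h1 B hBz
  obtain ⟨m, hm⟩ := AddSubgroup.card_dvd_of_le hle
  have hlt : Nat.card (A.map H.Ws.subtype) < Nat.card B :=
    lt_of_not_ge fun e => hne (AddSubgroup.eq_of_le_of_card_ge hle e)
  rw [hc] at hm hlt
  rw [hm] at hlt h8
  rcases m with _ | _ | m
  · omega
  · omega
  · nlinarith

theorem side {σ : F} (hσ : σ * σ = 1) : Side s X x σ :=
  ⟨H.base.fm, H.x_ne, fun e => by rw [e, zero_mul] at hσ; exact zero_ne_one hσ, by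
    rw [Matrix.smul_mul, Matrix.mul_smul, smul_smul, hσ, H.hsq, H.qx, sg2_zero, one_smul, one_smul]⟩

omit H in
theorem neg_sq {σ : F} (hσ : σ * σ = 1) : -σ * -σ = 1 := by rw [neg_mul_neg, hσ]

theorem hf_zero {σ : F} (hσ : σ * σ = 1) : hf X x σ * hf X x (-σ) = 0 := by
  rw [eq_sub_of_add_eq' (H.side hσ).hf_add, Matrix.mul_sub, Matrix.mul_one, (H.side hσ).hf_sq, sub_self]

theorem hf_zero' {σ : F} (hσ : σ * σ = 1) : hf X x (-σ) * hf X x σ = 0 := by
  have := H.hf_zero (neg_sq hσ)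
  rwa [neg_neg] at this

theorem hf_mul_kk {σ : F} (hσ : σ * σ = 1) (A : Matrix ι ι F) : hf X x σ * kk X x σ A = hf X x σ := by
  rw [kk, Matrix.mul_add, (H.side hσ).hf_sq, ← Matrix.mul_assoc, H.hf_zero hσ, Matrix.zero_mul, add_zero]

theorem hf'_mul_kk {σ : F} (hσ : σ * σ = 1) (A : Matrix ι ι F) :
    hf X x (-σ) * kk X x σ A = hf X x (-σ) * A := by
  rw [kk, Matrix.mul_add, H.hf_zero' hσ, zero_add, ← Matrix.mul_assoc, (H.side hσ).neg.hf_sq]

theorem kk_mul {σ : F} (hσ : σ * σ = 1) {A : Matrix ι ι F} (hA : A * X x = X x * A) (B : Matrix ι ι F) :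
    kk X x σ A * kk X x σ B = kk X x σ (A * B) := by
  rw [kk, Matrix.add_mul, H.hf_mul_kk hσ, (H.side hσ).neg.hf_comm hA, Matrix.mul_assoc, H.hf'_mul_kk hσ, kk,
    ← Matrix.mul_assoc A, ← (H.side hσ).neg.hf_comm hA, Matrix.mul_assoc]

theorem kk_comm {σ : F} (hσ : σ * σ = 1) {A : Matrix ι ι F} (hA : A * X x = X x * A) :
    kk X x σ A * X x = X x * kk X x σ A := by
  have : ∀ τ : F, hf X x τ * X x = X x * hf X x τ := fun τ => by
    rw [hf, Matrix.smul_mul, Matrix.mul_smul, Matrix.add_mul, Matrix.mul_add, Matrix.one_mul, Matrix.mul_one,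
      Matrix.smul_mul, Matrix.mul_smul]
  rw [kk, Matrix.add_mul, Matrix.mul_add, this, Matrix.mul_assoc, hA, ← Matrix.mul_assoc, this, Matrix.mul_assoc]

theorem kk_one {σ : F} (hσ : σ * σ = 1) : kk X x σ 1 = 1 := by
  rw [kk, Matrix.mul_one, (H.side hσ).hf_add]

theorem comm_Xx {v : V} (hv : s v x = 0) (c : F) : (c • X v) * X x = X x * (c • X v) := by
  rw [Matrix.smul_mul, Matrix.mul_smul, H.base.fm.comm v x, hv, sg2_zero, one_smul]

theorem memXy (v : V) : ∃ g ∈ M, (g : Matrix ι ι F) = X v := H.base.memX v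

theorem neg_one_mem : ∃ g ∈ M, (g : Matrix ι ι F) = -1 := by
  obtain ⟨a, b, ha, -⟩ := H.base.quad.exists_pair
  obtain ⟨g, hg, e⟩ := H.base.memX a
  exact ⟨g * g, mul_mem hg hg, by rw [Units.val_mul, e, H.hsq, ha, sg2_one, neg_one_smul]⟩

/-- The factor between two isometries is a sign. -/
theorem scal {J A : Matrix ι ι F} {c : F} (hJ : J ≠ 0) (h1 : Aᵀ * J * A = J) (h2 : (c • A)ᵀ * J * (c • A) = J) :
    c * c = 1 := by
  rw [Matrix.transpose_smul, Matrix.smul_mul, Matrix.smul_mul, Matrix.mul_smul, smul_smul, h1] at h2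
  exact smul_left_injective F hJ (h2.trans (one_smul F J).symm)

/-- Signed pairs of transvections lie in the group. -/
theorem pair_mem {a b : V} (ha : q a = 1) (hb : q b = 1) {α β : F} (hα : α * α = 1) (hβ : β * β = 1) :
    ∃ g ∈ M, (g : Matrix ι ι F) = (2 : F)⁻¹ • ((1 + α • X a) * (1 + β • X b)) ∧
      Act X (g : Matrix ι ι F) (tr s a ∘ tr s b) := by
  obtain ⟨J, hJu, hJ⟩ := H.form
  have h2 := H.base.fm.two
  have one : ∀ {u : V} {γ : F}, q u = 1 → γ * γ = 1 →
      IsUnit (1 + γ • X u) ∧ Act X (1 + γ • X u) (tr s u) ∧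
      (1 + γ • X u)ᵀ * J * (1 + γ • X u) = (2 : F) • J := by
    intro u γ hu hγ
    have hY : γ • X u * γ • X u = -1 := by
      rw [Matrix.smul_mul, Matrix.mul_smul, smul_smul, hγ, one_smul, H.hsq, hu, sg2_one, neg_one_smul]
    obtain ⟨e1, e2, e3⟩ := H.base.fm.transvection rfl hY
    refine ⟨e2, e3, ?_⟩
    obtain ⟨gu, hgu, eu⟩ := H.base.memX u
    have hu' : (γ • X u)ᵀ * J * (γ • X u) = J := by
      rw [Matrix.transpose_smul, Matrix.smul_mul, Matrix.smul_mul, Matrix.mul_smul, smul_smul, hγ, one_smul, ← eu]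
      exact hJ gu hgu
    have hanti : (γ • X u)ᵀ * J = -(J * (γ • X u)) := by
      calc (γ • X u)ᵀ * J = -((γ • X u)ᵀ * J * (γ • X u * γ • X u)) := by rw [hY, Matrix.mul_neg, Matrix.mul_one, neg_neg]
        _ = _ := by rw [← Matrix.mul_assoc, hu']
    calc (1 + γ • X u)ᵀ * J * (1 + γ • X u) = J * ((1 - γ • X u) * (1 + γ • X u)) := by
          rw [Matrix.transpose_add, Matrix.transpose_one, Matrix.add_mul, Matrix.one_mul, hanti, ← sub_eq_add_neg,
            ← Matrix.mul_assoc, Matrix.mul_sub, Matrix.mul_one]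
      _ = J * ((2 : F) • 1) := by
          rw [Matrix.sub_mul, Matrix.one_mul, Matrix.mul_add, Matrix.mul_one, hY]
          congr 1
          module
      _ = _ := by rw [Matrix.mul_smul, Matrix.mul_one]
  obtain ⟨ua, aa, ja⟩ := one ha hα
  obtain ⟨ub, ab, jb⟩ := one hb hβ
  obtain ⟨T, hT⟩ : ∃ T, T = (2 : F)⁻¹ • ((1 + α • X a) * (1 + β • X b)) := ⟨_, rfl⟩
  have hTu : IsUnit T := by
    rw [hT, ← Units.smul_mk0 (inv_ne_zero h2)]
    exact (ua.mul ub).smul _
  have hTa : Act X T (tr s a ∘ tr s b) := hT ▸ (aa.comp ab).smul _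
  have hTJ : Tᵀ * J * T = J := by
    rw [hT, Matrix.transpose_smul, Matrix.smul_mul, Matrix.smul_mul, Matrix.mul_smul, smul_smul,
      Matrix.transpose_mul,
      show (1 + β • X b)ᵀ * (1 + α • X a)ᵀ * J * ((1 + α • X a) * (1 + β • X b)) =
        (1 + β • X b)ᵀ * ((1 + α • X a)ᵀ * J * (1 + α • X a)) * (1 + β • X b) by simp only [Matrix.mul_assoc],
      ja, Matrix.mul_smul, Matrix.smul_mul, jb, smul_smul, smul_smul]
    convert one_smul F J using 2
    field_simp
  obtain ⟨n, hn, hnA⟩ := H.base.lift a b ha hb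
  obtain ⟨c, u, -, e⟩ := H.base.fm.act_eq n.isUnit hTu hnA hTa
  obtain ⟨gu, hgu, eu⟩ := H.base.memX u
  have hc : c * c = 1 := by
    refine H.scal hJu.ne_zero (A := T * X u) ?_ (e ▸ hJ n hn)
    rw [Matrix.transpose_mul, show (X u)ᵀ * Tᵀ * J * (T * X u) = (X u)ᵀ * (Tᵀ * J * T) * X u by
      simp only [Matrix.mul_assoc], hTJ, ← eu]
    exact hJ gu hgu
  obtain ⟨m, hm, em⟩ : ∃ m ∈ M, (m : Matrix ι ι F) = c • 1 := by
    rcases mul_self_eq_one_iff.1 hc with rfl | rfl
    · exact ⟨1, one_mem M, by rw [one_smul, Units.val_one]⟩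
    · obtain ⟨m, hm, em⟩ := H.neg_one_mem
      exact ⟨m, hm, by rw [em, neg_one_smul]⟩
  refine ⟨m * (n * gu⁻¹), mul_mem hm (mul_mem hn (inv_mem hgu)), ?_⟩
  have eT : ((m * (n * gu⁻¹) : GL ι F) : Matrix ι ι F) = T := by
    rw [Units.val_mul, Units.val_mul, em, e, ← eu, Matrix.smul_mul, Matrix.one_mul, Matrix.smul_mul, smul_smul, hc,
      one_smul, Units.mul_inv_cancel_right]
  exact ⟨eT.trans hT, eT ▸ hTa⟩

/-- The elements trivial on one half and a member on the other. -/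
theorem kk_mem {σ : F} (hσ : σ * σ = 1) {w : V} (hw : s w x = 0) (hqw : q w = 1) {ε : F} (hε : ε * ε = 1) :
    ∃ g ∈ M, (g : Matrix ι ι F) = kk X x σ (ε • X w) := by
  obtain ⟨d, hd, hdd⟩ := H.base.fm.mul x w
  have hxw : q (x + w) = 1 := by rw [H.qd.add, H.qx, hqw, H.base.fm.form.symm, hw]; rfl
  have hcm : X w * X x = X x * X w := (H.side hσ).comm_X hw
  have hd2 : d * d = 1 := by
    have e : X x * X w * (X x * X w) = sg2 F 1 • 1 := by
      rw [show X x * X w * (X x * X w) = X x * (X w * X x) * X w by simp only [Matrix.mul_assoc], hcm,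
        show X x * (X x * X w) * X w = X x * X x * (X w * X w) by simp only [Matrix.mul_assoc], H.hsq, H.hsq, H.qx,
        hqw, sg2_zero, one_smul, Matrix.one_mul]
    rw [hdd, Matrix.smul_mul, Matrix.mul_smul, smul_smul, H.hsq, hxw, smul_smul] at e
    have := smul_left_injective F (one_ne_zero : (1 : Matrix ι ι F) ≠ 0) e
    exact mul_right_cancel₀ (sg2_ne 1) (this.trans (one_mul _).symm)
  obtain ⟨g, hg, e, -⟩ := H.pair_mem hxw hqw (α := -(σ * ε * d)) (β := ε)
    (by linear_combination hσ + σ * σ * hε + σ * σ * ε * ε * hd2) hε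
  refine ⟨g, hg, e.trans ?_⟩
  have e2 : X (x + w) * X w = -(d⁻¹ • X x) := by
    rw [show X (x + w) = d⁻¹ • (X x * X w) by rw [hdd, inv_smul_smul₀ hd], Matrix.smul_mul, Matrix.mul_assoc, H.hsq,
      hqw, sg2_one, Matrix.mul_smul, Matrix.mul_one, neg_one_smul, smul_neg]
  rw [Matrix.add_mul, Matrix.one_mul, Matrix.mul_add, Matrix.mul_one, Matrix.smul_mul, Matrix.mul_smul, smul_smul,
    e2, smul_neg, smul_smul, kk, hf, hf, Matrix.smul_mul, ← smul_add, Matrix.add_mul, Matrix.one_mul,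
    Matrix.smul_mul, Matrix.mul_smul, hdd, smul_smul, smul_smul]
  congr 1
  match_scalars
  · ring
  · ring
  · ring
  · field_simp
    linear_combination σ * hε

/-- A half of an element of the group equal to a scaled member has a sign as factor. -/
theorem pin {σ : F} (hσ : σ * σ = 1) {g : GL ι F} (hg : g ∈ M)
    (hgx : (g : Matrix ι ι F) * X x = X x * (g : Matrix ι ι F)) {u : V} (hu : s u x = 0) {c : F}
    (e : hf X x σ * (g : Matrix ι ι F) = c • (hf X x σ * X u)) : c * c = 1 := by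
  obtain ⟨J, hJu, hJ⟩ := H.form
  obtain ⟨gx, hgx', ex⟩ := H.base.memX x
  obtain ⟨gu, hgu, eu⟩ := H.base.memX u
  have hS := H.side hσ
  obtain ⟨P, hP⟩ : ∃ P, P = hf X x σ := ⟨_, rfl⟩
  have hxJ : (X x)ᵀ * J = J * X x := by
    have e1 : (X x)ᵀ * J * X x = J := ex ▸ hJ gx hgx'
    calc (X x)ᵀ * J = (X x)ᵀ * J * (X x * X x) := by rw [H.hsq, H.qx, sg2_zero, one_smul, Matrix.mul_one]
      _ = _ := by rw [← Matrix.mul_assoc, e1]
  have hPJ : Pᵀ * J = J * P := by
    rw [hP, hf, Matrix.transpose_smul, Matrix.smul_mul, Matrix.mul_smul, Matrix.transpose_add, Matrix.transpose_one,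
      Matrix.add_mul, Matrix.mul_add, Matrix.one_mul, Matrix.mul_one, Matrix.transpose_smul, Matrix.smul_mul,
      Matrix.mul_smul, hxJ]
  have hne : J * P ≠ 0 := fun e0 => hS.hf_ne (hP ▸ hJu.mul_left_cancel (e0.trans (Matrix.mul_zero J).symm))
  have hPP : P * P = P := hP ▸ hS.hf_sq
  have iso : ∀ A : Matrix ι ι F, Aᵀ * J * A = J → A * X x = X x * A → (P * A)ᵀ * J * (P * A) = J * P := by
    intro A hA hAx
    rw [show P * A = A * P from hP ▸ hS.hf_comm hAx, Matrix.transpose_mul,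
      show Pᵀ * Aᵀ * J * (A * P) = Pᵀ * (Aᵀ * J * A) * P by simp only [Matrix.mul_assoc], hA, hPJ, Matrix.mul_assoc,
      hPP]
  have h1 := iso _ (hJ g hg) hgx
  have h2 := iso (X u) (eu ▸ hJ gu hgu) (hS.comm_X hu)
  rw [show P * (g : Matrix ι ι F) = c • (P * X u) from hP ▸ e, Matrix.transpose_smul, Matrix.smul_mul,
    Matrix.smul_mul, Matrix.mul_smul, smul_smul, h2] at h1
  exact smul_left_injective F hne (h1.trans (one_smul F _).symm)

/-- Equal squares in a half mean equal values. -/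
theorem q_eq {σ : F} (hσ : σ * σ = 1) {A : Matrix ι ι F} (hu : IsUnit A) (hA : A * X x = X x * A) {v u : V}
    (hux : s u x = 0) {c : F} (hc : c * c = 1)
    (e : hf X x σ * (A * X v) = c • (hf X x σ * (X u * A))) : q v = q u := by
  have hS := H.side hσ
  have hP := hS.hf_X hux
  have e2 : hf X x σ * (A * (X v * X v)) = (c * c) • (hf X x σ * (X u * X u * A)) := by
    calc hf X x σ * (A * (X v * X v)) = hf X x σ * (A * X v) * X v := by simp only [Matrix.mul_assoc]
      _ = c • (X u * (hf X x σ * (A * X v))) := by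
        conv_lhs => rw [e, Matrix.smul_mul, ← Matrix.mul_assoc (hf X x σ), hP]
        simp only [Matrix.mul_assoc]
      _ = (c * c) • (hf X x σ * (X u * X u * A)) := by
        rw [e, Matrix.mul_smul, smul_smul, ← Matrix.mul_assoc (X u), ← hP]
        simp only [Matrix.mul_assoc]
  simp only [H.hsq, Matrix.mul_smul, Matrix.mul_one, Matrix.smul_mul, Matrix.one_mul, smul_smul, hc, one_mul] at e2
  have hne : hf X x σ * A ≠ 0 := fun e0 =>
    hS.hf_ne (hu.mul_left_injective (show hf X x σ * A = 0 * A by rw [e0, Matrix.zero_mul]))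
  exact sg2_inj H.base.fm.two (smul_left_injective F hne e2)

/-- Being trivial on one half and keeping the frame on the other up to signs puts a matrix in the frame. -/
theorem eq_kk {σ : F} (hσ : σ * σ = 1) {A : Matrix ι ι F} (hu : IsUnit A) (hA : A * X x = X x * A)
    (h1 : hf X x σ * A = hf X x σ)
    (hD : ∀ v ∈ H.Ws, ∃ e : F, hf X x (-σ) * (A * X v) = e • (hf X x (-σ) * (X v * A))) :
    ∃ (c : F) (u : V), u ∈ H.Ws ∧ c ≠ 0 ∧ A = kk X x σ (c • X u) ∧
      hf X x (-σ) * A = c • (hf X x (-σ) * X u) := by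
  have sf := H.base.fm.form
  have hS := H.side hσ
  have hS' := hS.neg
  obtain ⟨P, hP⟩ : ∃ P, P = hf X x σ := ⟨_, rfl⟩
  obtain ⟨Q, hQ⟩ : ∃ Q, Q = hf X x (-σ) := ⟨_, rfl⟩
  have swap : X y * Q = P * X y ∧ X y * P = Q * X y := by
    have e : X y * X x = -(X x * X y) := by rw [H.base.fm.comm y x, H.syx, sg2_one, neg_one_smul]
    constructor <;>
      rw [hP, hQ, hf, hf, Matrix.mul_smul, Matrix.smul_mul, Matrix.mul_add, Matrix.add_mul, Matrix.mul_one,
        Matrix.one_mul, Matrix.mul_smul, Matrix.smul_mul, e] <;> module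
  obtain ⟨A', hA'⟩ : ∃ A', A' = sg2 F (q y) • (X y * A * X y) := ⟨_, rfl⟩
  obtain ⟨Z, hZ⟩ : ∃ Z, Z = P * A' + Q * A := ⟨_, rfl⟩
  have hyA : X y * A' = A * X y := by
    rw [hA', Matrix.mul_smul, show X y * (X y * A * X y) = X y * X y * (A * X y) by simp only [Matrix.mul_assoc],
      H.hsq, Matrix.smul_mul, Matrix.one_mul, smul_smul, sg2_self, one_smul]
  have hyA' : X y * A = A' * X y := by
    rw [hA', Matrix.smul_mul, Matrix.mul_assoc, Matrix.mul_assoc, H.hsq, Matrix.mul_smul, Matrix.mul_one,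
      Matrix.mul_smul, smul_smul, sg2_self, one_smul]
  have hA'x : A' * X x = X x * A' := by
    have e1 : X y * X x = -(X x * X y) := by rw [H.base.fm.comm y x, H.syx, sg2_one, neg_one_smul]
    rw [hA', Matrix.smul_mul, Matrix.mul_smul, Matrix.mul_assoc _ (X y) (X x), e1, Matrix.mul_neg,
      ← Matrix.mul_assoc, Matrix.mul_assoc (X y) A, hA, ← Matrix.mul_assoc, e1, Matrix.neg_mul, Matrix.neg_mul,
      neg_neg]
    simp only [Matrix.mul_assoc]
  have cP : ∀ {v : V}, s v x = 0 → P * X v = X v * P ∧ Q * X v = X v * Q := fun hv =>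
    ⟨hP ▸ hS.hf_X hv, hQ ▸ hS'.hf_X hv⟩
  have Zy : Z * X y = X y * Z := by
    rw [hZ, Matrix.add_mul, Matrix.mul_add, Matrix.mul_assoc, Matrix.mul_assoc, ← hyA', ← hyA, ← Matrix.mul_assoc,
      ← Matrix.mul_assoc, ← swap.1, ← swap.2]
    simp only [Matrix.mul_assoc]
    exact add_comm _ _
  have Zx : Z * X x = X x * Z := by
    have hc := cP (sf.alt x)
    rw [hZ, Matrix.add_mul, Matrix.mul_add, Matrix.mul_assoc, hA'x, ← Matrix.mul_assoc, hc.1, Matrix.mul_assoc,
      Matrix.mul_assoc Q, hA, ← Matrix.mul_assoc Q, hc.2, Matrix.mul_assoc (X x) Q]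
  have Zw : ∀ w ∈ H.Ws, ∃ f : F, Z * X w = f • (X w * Z) := by
    intro w hw
    obtain ⟨hwx, hwy⟩ := H.mem_Ws.1 hw
    obtain ⟨e, he⟩ := hD w hw
    rw [← hQ] at he
    refine ⟨e, ?_⟩
    have hyw : X y * X w = X w * X y := by rw [H.base.fm.comm y w, sf.symm, hwy, sg2_zero, one_smul]
    obtain ⟨hc1, hc2⟩ := cP hwx
    have eP : P * (A' * X w) = e • (P * (X w * A')) := by
      calc P * (A' * X w) = sg2 F (q y) • (P * X y * (A * X w) * X y) := by
            rw [hA', Matrix.smul_mul, Matrix.mul_smul]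
            simp only [Matrix.mul_assoc]
            rw [hyw]
        _ = sg2 F (q y) • (X y * (Q * (A * X w)) * X y) := by rw [← swap.1]; simp only [Matrix.mul_assoc]
        _ = (sg2 F (q y) * e) • (X y * Q * (X w * A) * X y) := by
            rw [he, Matrix.mul_smul, Matrix.smul_mul, smul_smul]; simp only [Matrix.mul_assoc]
        _ = _ := by
            rw [swap.1, mul_comm, mul_smul]
            congr 1
            rw [hA', Matrix.mul_smul, Matrix.mul_smul]
            congr 1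
            simp only [Matrix.mul_assoc]
            rw [← Matrix.mul_assoc (X y) (X w), hyw, Matrix.mul_assoc]
    rw [hZ, Matrix.add_mul, Matrix.mul_add, Matrix.mul_assoc, Matrix.mul_assoc, eP, he, smul_add,
      ← Matrix.mul_assoc P, hc1, ← Matrix.mul_assoc Q, hc2]
    simp only [Matrix.mul_assoc]
  have hQZ : Q * Z = Q * A := by
    rw [hZ, Matrix.mul_add, ← Matrix.mul_assoc, ← Matrix.mul_assoc, hP, hQ, H.hf_zero' hσ, Matrix.zero_mul, zero_add,
      hS'.hf_sq]
  have hZ0 : Z ≠ 0 := fun e0 => by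
    rw [e0, Matrix.mul_zero, hQ] at hQZ
    exact hS'.hf_ne (hu.mul_left_injective (show hf X x (-σ) * A = 0 * A by rw [← hQZ, Matrix.zero_mul]))
  -- signs
  have sgn : ∀ {v : V} {f : F}, Z * X v = f • (X v * Z) → ∃ e, Z * X v = sg2 F e • (X v * Z) := by
    intro v f e
    have e2 : Z * (X v * X v) = (f * f) • (X v * X v * Z) := by
      rw [← Matrix.mul_assoc, e, Matrix.smul_mul, Matrix.mul_assoc, e, Matrix.mul_smul, smul_smul, Matrix.mul_assoc]
    rw [H.hsq, Matrix.mul_smul, Matrix.mul_one, Matrix.smul_mul, Matrix.one_mul, smul_smul] at e2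
    obtain ⟨z, rfl⟩ := exists_sg2 (mul_right_cancel₀ (sg2_ne (q v))
      ((smul_left_injective F hZ0 e2).symm.trans (one_mul _).symm))
    exact ⟨z, e⟩
  have mul2 : ∀ {a b : V}, (∃ f : F, Z * X a = f • (X a * Z)) → (∃ f : F, Z * X b = f • (X b * Z)) →
      ∃ f : F, Z * X (a + b) = f • (X (a + b) * Z) := by
    rintro a b ⟨f, hf'⟩ ⟨f', hf''⟩
    obtain ⟨m, hm, hmm⟩ := H.base.fm.mul a b
    refine ⟨f * f', ?_⟩
    rw [show X (a + b) = m⁻¹ • (X a * X b) by rw [hmm, inv_smul_smul₀ hm], Matrix.mul_smul, ← Matrix.mul_assoc,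
      hf', Matrix.smul_mul, Matrix.mul_assoc, hf'', Matrix.mul_smul, smul_smul, Matrix.smul_mul, smul_smul,
      smul_smul, ← Matrix.mul_assoc]
    congr 1
    ring
  have total : ∀ v, ∃ e, Z * X v = sg2 F e • (X v * Z) := by
    intro v
    obtain ⟨v', hv'⟩ : ∃ v', v' = if s v y = 0 then v else v + x := ⟨_, rfl⟩
    obtain ⟨w, hw⟩ : ∃ w, w = if s v' x = 0 then v' else v' + y := ⟨_, rfl⟩
    have e1 : s v' y = 0 := by
      rw [hv']
      split_ifs with e
      · exact e
      · rw [sf.add_left, (z2 _).resolve_left e, H.sxy]; decide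
    have hwW : w ∈ H.Ws := H.mem_Ws.2 ⟨by
      rw [hw]
      split_ifs with e
      · exact e
      · rw [sf.add_left, (z2 _).resolve_left e, H.syx]; decide, by
      rw [hw]
      split_ifs
      · exact e1
      · rw [sf.add_left, e1, sf.alt, add_zero]⟩
    obtain ⟨z, hz⟩ : ∃ z, v' = w + z ∧ ∃ f : F, Z * X z = f • (X z * Z) := by
      rw [hw]
      split_ifs
      · exact ⟨0, (add_zero _).symm, 1, by rw [H.base.fm.one, Matrix.mul_one, Matrix.one_mul, one_smul]⟩
      · exact ⟨y, (sf.add_add_cancel _ _).symm, 1, by rw [Zy, one_smul]⟩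
    have hv1 : ∃ f : F, Z * X v' = f • (X v' * Z) := hz.1 ▸ mul2 (Zw w hwW) hz.2
    obtain ⟨f, hf'⟩ : ∃ f : F, Z * X v = f • (X v * Z) := by
      by_cases e : s v y = 0
      · rwa [hv', if_pos e] at hv1
      · rw [show v = v' + x by rw [hv', if_neg e, sf.add_add_cancel]]
        exact mul2 hv1 ⟨1, by rw [Zx, one_smul]⟩
    exact sgn hf'
  obtain ⟨c, u, hc, hcu⟩ := H.base.fm.eq_single hZ0 total
  have huW : u ∈ H.Ws := by
    have key : ∀ t, Z * X t = X t * Z → s u t = 0 := fun t ht => by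
      rw [hcu, Matrix.smul_mul, Matrix.mul_smul, H.base.fm.comm u t, smul_smul] at ht
      exact sg2_inj H.base.fm.two (by
        rw [sg2_zero]
        exact mul_left_cancel₀ hc ((smul_left_injective F ((H.base.fm.isUnit t).mul (H.base.fm.isUnit u)).ne_zero
          ht).trans (mul_one c).symm))
    exact H.mem_Ws.2 ⟨key x Zx, key y Zy⟩
  have e : hf X x (-σ) * A = c • (hf X x (-σ) * X u) := by rw [← hQ, ← hQZ, hcu, Matrix.mul_smul]
  refine ⟨c, u, huW, hc, ?_, e⟩
  rw [kk, Matrix.mul_smul, ← e, ← h1, ← Matrix.add_mul, hS.hf_add, Matrix.one_mul]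

end Sng

end CfsgLib.QubitMax
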