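import Cfsg.Agent.Lib.Coprime.Generation
import Mathlib.GroupTheory.Transfer

/-!
A self-normalising subgroup of exponent two modulo a central involution, containing the centralisers of the members
of a four-group, is the whole group.
-/

set_option autoImplicit false
set_option linter.unusedSectionVars false

namespace CfsgLib.QubitMax

variable {G : Type*} [Group G] [Finite G]

theorem eq_top_of_tight (V : Subgroup G) (z : G) (hz : ∀ g, g * z = z * g) (hzz : z * z = 1) (hzV : z ∈ V)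
    (hsq : ∀ v ∈ V, v * v = 1 ∨ v * v = z) (hN : ∀ g, (∀ v ∈ V, g * v * g⁻¹ ∈ V) → g ∈ V)
    {a b : G} (ha : a ∈ V) (hb : b ∈ V)
    (hC : ∀ t, (t = a ∨ t = b ∨ t = a * b) → ∀ g, (g * t * g⁻¹ = t ∨ g * t * g⁻¹ = t * z) → g ∈ V) :
    V = ⊤ := by
  classical
  obtain ⟨Z, hZ⟩ : ∃ Z, Z = Subgroup.zpowers z := ⟨_, rfl⟩
  have memZ : ∀ g, g ∈ Z ↔ g = 1 ∨ g = z := by
    intro g
    rw [hZ]
    constructor
    · rintro ⟨k, rfl⟩
      have h2 : z ^ (2 : ℤ) = 1 := by rw [zpow_two, hzz]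
      rcases Int.even_or_odd k with ⟨j, rfl⟩ | ⟨j, rfl⟩
      · left; show z ^ (j + j) = 1; rw [← two_mul, zpow_mul, h2, one_zpow]
      · right; show z ^ (2 * j + 1) = z; rw [zpow_add, zpow_mul, h2, one_zpow, one_mul, zpow_one]
    · rintro (rfl | rfl)
      · exact one_mem _
      · exact Subgroup.mem_zpowers _
  haveI : Z.Normal := ⟨fun n hn g => by
    rcases (memZ n).1 hn with rfl | rfl
    · rw [mul_one, mul_inv_cancel]; exact one_mem _
    · rw [hz, mul_inv_cancel_right]; exact hn⟩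
  obtain ⟨π, hπ⟩ : ∃ π, π = QuotientGroup.mk' Z := ⟨_, rfl⟩
  have hsur : Function.Surjective π := hπ ▸ QuotientGroup.mk'_surjective Z
  have keq : ∀ {g h : G}, π g = π h → h = g ∨ h = g * z := fun {g h} e => by
    rw [hπ, QuotientGroup.mk'_apply, QuotientGroup.mk'_apply, QuotientGroup.eq] at e
    rcases (memZ _).1 e with e1 | e1
    · exact Or.inl (inv_mul_eq_one.1 e1).symm
    · exact Or.inr (by rw [← e1, mul_inv_cancel_left])
  obtain ⟨Vb, hVb⟩ : ∃ Vb, Vb = V.map π := ⟨_, rfl⟩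
  have back : ∀ {g : G}, π g ∈ Vb → g ∈ V := fun {g} hg => by
    rw [hVb] at hg
    obtain ⟨v, hv, e⟩ := hg
    rcases keq e with rfl | rfl
    · exact hv
    · exact mul_mem hv hzV
  -- `Vb` has exponent two
  have hexp : ∀ x ∈ Vb, x * x = 1 := by
    intro x hx
    rw [hVb] at hx
    obtain ⟨v, hv, rfl⟩ := hx
    rw [← map_mul, hπ, QuotientGroup.mk'_apply, QuotientGroup.eq_one_iff]
    exact (memZ _).2 (hsq v hv)
  haveI : Fact (Nat.Prime 2) := ⟨Nat.prime_two⟩
  have h2 : IsPGroup 2 Vb := fun x => ⟨1, Subtype.ext (by rw [pow_one, pow_two]; exact hexp x x.2)⟩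
  have hcomm : ∀ x ∈ Vb, ∀ y ∈ Vb, x * y = y * x := fun x hx y hy => by
    have e1 := hexp _ (mul_mem hx hy)
    calc x * y = x * (x * y * (x * y)) * y := by rw [e1, mul_one]
      _ = x * x * (y * x) * (y * y) := by simp only [mul_assoc]
      _ = y * x := by rw [hexp x hx, hexp y hy, one_mul, mul_one]
  obtain ⟨P, hP⟩ := h2.exists_le_sylow
  have hNle : ∀ {g : G}, π g ∈ Subgroup.normalizer (Vb : Set (G ⧸ Z)) → g ∈ V := by
    intro g hg
    refine hN g fun v hv => back ?_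
    rw [map_mul, map_mul, map_inv]
    exact (Subgroup.mem_normalizer_iff.1 hg (π v)).1 (hVb ▸ Subgroup.mem_map_of_mem π hv)
  -- it is a Sylow subgroup
  have hPV : (P : Subgroup (G ⧸ Z)) = Vb := by
    by_contra hne
    haveI : Group.IsNilpotent ↥(P : Subgroup (G ⧸ Z)) := P.2.isNilpotent
    obtain ⟨V', hV'⟩ : ∃ V' : Subgroup ↥(P : Subgroup (G ⧸ Z)), V' = Vb.subgroupOf P := ⟨_, rfl⟩
    have hlt : V' < ⊤ := lt_top_iff_ne_top.2 fun e => hne
      (le_antisymm (Subgroup.subgroupOf_eq_top.1 (hV' ▸ e)) hP)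
    obtain ⟨x, hx, hxn⟩ := SetLike.exists_of_lt (normalizerCondition_of_isNilpotent V' hlt)
    obtain ⟨g, hg⟩ := hsur (x : G ⧸ Z)
    refine hxn ?_
    rw [hV', Subgroup.mem_subgroupOf, ← hg, hVb]
    refine Subgroup.mem_map_of_mem π (hNle ?_)
    rw [hg, Subgroup.mem_normalizer_iff]
    intro y
    rw [Subgroup.mem_normalizer_iff] at hx
    constructor
    · intro hy
      have := (hx ⟨y, hP hy⟩).1 (by rw [hV', Subgroup.mem_subgroupOf]; exact hy)
      rw [hV', Subgroup.mem_subgroupOf] at this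
      exact this
    · intro hy
      have hyP : y ∈ (P : Subgroup (G ⧸ Z)) := by
        have := P.mul_mem (P.mul_mem (P.inv_mem x.2) (hP hy)) x.2
        simpa [mul_assoc] using this
      have := (hx ⟨y, hyP⟩).2 (by rw [hV', Subgroup.mem_subgroupOf]; exact hy)
      rw [hV', Subgroup.mem_subgroupOf] at this
      exact this
  have hnc : Subgroup.normalizer ((P : Subgroup (G ⧸ Z)) : Set (G ⧸ Z)) ≤
      Subgroup.centralizer ((P : Subgroup (G ⧸ Z)) : Set (G ⧸ Z)) := by
    rw [hPV]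
    intro x hx
    obtain ⟨g, rfl⟩ := hsur x
    rw [Subgroup.mem_centralizer_iff]
    exact fun y hy => hcomm y hy (π g) (hVb ▸ Subgroup.mem_map_of_mem π (hNle hx))
  -- the complement
  obtain ⟨O, hO⟩ : ∃ O, O = (MonoidHom.transferSylow P hnc).ker := ⟨_, rfl⟩
  haveI : O.Normal := hO ▸ inferInstance
  have hcompl : O.IsComplement' (P : Subgroup (G ⧸ Z)) := hO ▸ MonoidHom.ker_transferSylow_isComplement' P hnc
  have hodd : ¬ 2 ∣ Nat.card O := hO ▸ MonoidHom.not_dvd_card_ker_transferSylow P hnc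
  suffices hOb : O = ⊥ by
    rw [hOb, Subgroup.isComplement'_bot_left, hPV] at hcompl
    rw [eq_top_iff]
    intro g _
    exact back (hcompl ▸ Subgroup.mem_top _)
  have hOV : O ⊓ Vb = ⊥ := by rw [← hPV]; exact hcompl.disjoint.eq_bot
  by_cases htriv : π a = 1 ∨ π b = 1 ∨ π a = π b
  · have key : ∀ t, (t = a ∨ t = b ∨ t = a * b) → π t = 1 → V = ⊤ := fun t ht e => by
      rw [eq_top_iff]
      intro g _
      refine hC t ht g (Or.inl ?_)
      rw [hπ, QuotientGroup.mk'_apply, QuotientGroup.eq_one_iff] at e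
      rcases (memZ t).1 e with rfl | rfl
      · rw [mul_one, mul_inv_cancel]
      · rw [hz, mul_inv_cancel_right]
    have htop : V = ⊤ := by
      rcases htriv with e | e | e
      · exact key a (Or.inl rfl) e
      · exact key b (Or.inr (Or.inl rfl)) e
      · refine key (a * b) (Or.inr (Or.inr rfl)) ?_
        rw [map_mul, e, hexp _ (hVb ▸ Subgroup.mem_map_of_mem π hb)]
    rw [← hOV, hVb, htop, Subgroup.map_top_of_surjective π hsur, inf_top_eq]
  push Not at htriv
  obtain ⟨h1, h2', h3⟩ := htriv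
  have haV : π a ∈ Vb := hVb ▸ Subgroup.mem_map_of_mem π ha
  have hbV : π b ∈ Vb := hVb ▸ Subgroup.mem_map_of_mem π hb
  have ea := hexp _ haV
  have eb := hexp _ hbV
  have eab := hcomm _ haV _ hbV
  obtain ⟨A, hA⟩ : ∃ A, A = Subgroup.zpowers (π a) ⊔ Subgroup.zpowers (π b) := ⟨_, rfl⟩
  have hAV : A ≤ Vb := hA ▸ sup_le (Subgroup.zpowers_le.2 haV) (Subgroup.zpowers_le.2 hbV)
  have hmem : ∀ x ∈ A, x = 1 ∨ x = π a ∨ x = π b ∨ x = π (a * b) := by
    intro x hx
    rw [hA] at hx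
    refine Subgroup.closure_induction (p := fun x _ => x = 1 ∨ x = π a ∨ x = π b ∨ x = π (a * b))
      ?_ (Or.inl rfl) ?_ ?_ (show x ∈ Subgroup.closure ({π a, π b} : Set (G ⧸ Z)) from ?_)
    · rintro y (rfl | rfl)
      · exact Or.inr (Or.inl rfl)
      · exact Or.inr (Or.inr (Or.inl rfl))
    · have r1 : ∀ y, π a * (π a * y) = y := fun y => by rw [← mul_assoc, ea, one_mul]
      have r2 : ∀ y, π b * (π b * y) = y := fun y => by rw [← mul_assoc, eb, one_mul]
      have r4 : ∀ y, π b * (π a * y) = π a * (π b * y) := fun y => by rw [← mul_assoc, ← eab, mul_assoc]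
      rintro y y' - - (rfl | rfl | rfl | rfl) (rfl | rfl | rfl | rfl) <;>
        simp [map_mul, mul_assoc, ea, eb, eab.symm, r1, r2, r4]
    · rintro y - (rfl | rfl | rfl | rfl)
      · exact Or.inl inv_one
      · exact Or.inr (Or.inl (inv_eq_of_mul_eq_one_right ea))
      · exact Or.inr (Or.inr (Or.inl (inv_eq_of_mul_eq_one_right eb)))
      · refine Or.inr (Or.inr (Or.inr (inv_eq_of_mul_eq_one_right ?_)))
        exact hexp _ (hVb ▸ Subgroup.mem_map_of_mem π (mul_mem ha hb))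
    · rwa [Set.insert_eq, Subgroup.closure_union, ← Subgroup.zpowers_eq_closure, ← Subgroup.zpowers_eq_closure]
  have hA2 : ∀ x ∈ A, x ^ 2 = 1 := fun x hx => by rw [pow_two]; exact hexp x (hAV hx)
  have hA4 : 2 < Nat.card A := by
    haveI := Fintype.ofFinite A
    have := Finset.card_le_univ ({(⟨1, one_mem _⟩ : A), ⟨π a, hA ▸ Subgroup.mem_sup_left (Subgroup.mem_zpowers _)⟩,
      ⟨π b, hA ▸ Subgroup.mem_sup_right (Subgroup.mem_zpowers _)⟩} : Finset A)
    rw [Finset.card_insert_of_notMem (by simp [Ne.symm h1, Ne.symm h2']),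
      Finset.card_insert_of_notMem (by simp [h3]), Finset.card_singleton, ← Nat.card_eq_fintype_card] at this
    omega
  haveI : IsMulCommutative A := ⟨⟨fun x y => Subtype.ext (hcomm _ (hAV x.2) _ (hAV y.2))⟩⟩
  refine eq_bot_iff.2 (Coprime.le_of_centralizer_le (Coprime.not_isCyclic_of_exponent hA2 two_pos hA4) ?_ ?_ ?_)
  · rw [Subgroup.normalizer_eq_top]; exact le_top
  · obtain ⟨k, hk⟩ := IsPGroup.iff_card.1
      (fun x => ⟨1, Subtype.ext (by rw [pow_one]; exact hA2 x x.2)⟩ : IsPGroup 2 A)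
    rw [hk]
    exact Nat.Coprime.pow_left k ((Nat.prime_two.coprime_iff_not_dvd).2 hodd)
  · intro t ht ht1 x ⟨hxO, hxc⟩
    obtain ⟨g, rfl⟩ := hsur x
    have hxt := Subgroup.mem_centralizer_singleton_iff.1 hxc
    obtain ⟨t', ht', htt⟩ : ∃ t', (t' = a ∨ t' = b ∨ t' = a * b) ∧ π t' = t := by
      rcases hmem t ht with e | e | e | e
      · exact absurd e ht1
      · exact ⟨a, Or.inl rfl, e.symm⟩
      · exact ⟨b, Or.inr (Or.inl rfl), e.symm⟩
      · exact ⟨a * b, Or.inr (Or.inr rfl), e.symm⟩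
    have e : π t' = π (g * t' * g⁻¹) := by
      rw [map_mul, map_mul, map_inv, htt, hxt, mul_inv_cancel_right]
    rw [← hOV]
    exact ⟨hxO, hVb ▸ Subgroup.mem_map_of_mem π (hC t' ht' g (keq e))⟩

end CfsgLib.QubitMax
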