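import Cfsg.Agent.Lib.QubitMax.SingData
import Cfsg.Agent.Lib.QubitMax.Tight

/-!
The elements centralising a member squaring to one that are trivial on one half lie in the frame.
-/

set_option autoImplicit false
set_option linter.unusedSectionVars false
set_option maxHeartbeats 1000000

namespace CfsgLib.QubitMax

open Matrix
open CfsgLib.EightMax (Sform Isom tr tr_one tr_zero z2 sg2 sg2_zero sg2_one sg2_self sg2_ne sg2_add sg2_inj exists_sg2)

variable {F : Type*} [Field F] [Finite F] {ι : Type*} [Fintype ι] [DecidableEq ι] [Nonempty ι]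
variable {V : Type*} [AddCommGroup V]

namespace Sng

variable {s : V → V → ZMod 2} {X : V → Matrix ι ι F} {q : V → ZMod 2} {M : Subgroup (GL ι F)} {x y : V}
  (H : Sng s X q M x y)
include H

omit H in
theorem hr_inv {P : Matrix ι ι F} {g : GL ι F} (hP : P * (g : Matrix ι ι F) = (g : Matrix ι ι F) * P) {v u : V}
    (e : Hr X P (g : Matrix ι ι F) v u) : Hr X P ((g⁻¹ : GL ι F) : Matrix ι ι F) u v := by
  obtain ⟨c, hc, e⟩ := e
  refine ⟨c⁻¹, inv_ne_zero hc, ?_⟩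
  have hP' : P * ((g⁻¹ : GL ι F) : Matrix ι ι F) = ((g⁻¹ : GL ι F) : Matrix ι ι F) * P := by
    calc P * ((g⁻¹ : GL ι F) : Matrix ι ι F)
        = ((g⁻¹ : GL ι F) : Matrix ι ι F) * ((g : Matrix ι ι F) * P) * ((g⁻¹ : GL ι F) : Matrix ι ι F) := by
          rw [Units.inv_mul_cancel_left]
      _ = _ := by rw [← hP, Matrix.mul_assoc, Units.mul_inv_cancel_right]
  have := congrArg (fun Y => c⁻¹ • (((g⁻¹ : GL ι F) : Matrix ι ι F) * Y * ((g⁻¹ : GL ι F) : Matrix ι ι F))) e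
  simp only [Matrix.mul_smul, Matrix.smul_mul, smul_smul, inv_mul_cancel₀ hc, one_smul] at this
  rw [← Matrix.mul_assoc _ P, ← hP', Matrix.mul_assoc P, Units.inv_mul_cancel_left, Matrix.mul_assoc P,
    ← Matrix.mul_assoc _ P, ← hP', Matrix.mul_assoc P, Matrix.mul_assoc P, Matrix.mul_assoc _ (X u * _),
    Units.mul_inv_cancel_right] at this
  exact this.symm

omit H in
/-- The elements centralising `x` trivial on one half. -/
def Ks (_K : Sng s X q M x y) {σ : F} (_hσ : σ * σ = 1) : Subgroup (GL ι F) where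
  carrier := {g | g ∈ M ∧ (g : Matrix ι ι F) * X x = X x * (g : Matrix ι ι F) ∧
    hf X x σ * (g : Matrix ι ι F) = hf X x σ}
  one_mem' := ⟨one_mem M, by rw [Units.val_one, Matrix.one_mul, Matrix.mul_one],
    by rw [Units.val_one, Matrix.mul_one]⟩
  mul_mem' := by
    rintro g g' ⟨hg, e1, e2⟩ ⟨hg', e1', e2'⟩
    exact ⟨mul_mem hg hg', by rw [Units.val_mul, Matrix.mul_assoc, e1', ← Matrix.mul_assoc, e1, Matrix.mul_assoc],
      by rw [Units.val_mul, ← Matrix.mul_assoc, e2, e2']⟩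
  inv_mem' := by
    rintro g ⟨hg, e1, e2⟩
    refine ⟨inv_mem hg, ?_, ?_⟩
    · calc ((g⁻¹ : GL ι F) : Matrix ι ι F) * X x
          = ((g⁻¹ : GL ι F) : Matrix ι ι F) * (X x * (g : Matrix ι ι F)) * ((g⁻¹ : GL ι F) : Matrix ι ι F) := by
            rw [Matrix.mul_assoc, Units.mul_inv_cancel_right]
        _ = _ := by rw [← e1, Units.inv_mul_cancel_left]
    · conv_lhs => rw [← e2]
      rw [Units.mul_inv_cancel_right]

/-- Those keeping every vector on the other half. -/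
def K0 {σ : F} (hσ : σ * σ = 1) : Subgroup (GL ι F) where
  carrier := {g | g ∈ H.Ks hσ ∧ ∀ v ∈ H.Ws, Hr X (hf X x (-σ)) (g : Matrix ι ι F) v v}
  one_mem' := ⟨one_mem _, fun v _ => ⟨1, one_ne_zero, by rw [Units.val_one, Matrix.one_mul, Matrix.mul_one, one_smul]⟩⟩
  mul_mem' := by
    rintro g g' ⟨hg, e⟩ ⟨hg', e'⟩
    exact ⟨mul_mem hg hg', fun v hv => by
      rw [Units.val_mul]; exact (e' v hv).comp ((H.side hσ).neg.hf_comm hg.2.1) (e v hv)⟩
  inv_mem' := by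
    rintro g ⟨hg, e⟩
    exact ⟨inv_mem hg, fun v hv => hr_inv ((H.side hσ).neg.hf_comm hg.2.1) (e v hv)⟩

theorem K0_form {σ : F} (hσ : σ * σ = 1) {g : GL ι F} (hg : g ∈ H.K0 hσ) :
    ∃ (c : F) (u : V), u ∈ H.Ws ∧ c * c = 1 ∧ (g : Matrix ι ι F) = kk X x σ (c • X u) ∧
      hf X x (-σ) * (g : Matrix ι ι F) = c • (hf X x (-σ) * X u) := by
  obtain ⟨c, u, hu, -, e1, e2⟩ := H.eq_kk hσ g.isUnit hg.1.2.1 hg.1.2.2 fun v hv =>
    (hg.2 v hv).imp fun _ h => h.2
  exact ⟨c, u, hu, H.pin (neg_sq hσ) hg.1.1 hg.1.2.1 (H.mem_Ws.1 hu).1 e2, e1, e2⟩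

theorem mem_K0 {σ : F} (hσ : σ * σ = 1) {g : GL ι F} (hg : g ∈ M) {c : F} (hc : c ≠ 0) {u : V} (hu : u ∈ H.Ws)
    (e : (g : Matrix ι ι F) = kk X x σ (c • X u)) : g ∈ H.K0 hσ := by
  have hux := (H.mem_Ws.1 hu).1
  refine ⟨⟨hg, e ▸ H.kk_comm hσ (H.comm_Xx hux c), e ▸ H.hf_mul_kk hσ _⟩, fun v hv => ?_⟩
  have hvx := (H.mem_Ws.1 hv).1
  have hP := (H.side hσ).neg.hf_X hvx
  refine ⟨sg2 F (s u v), sg2_ne _, ?_⟩
  rw [e, ← Matrix.mul_assoc, H.hf'_mul_kk hσ, ← Matrix.mul_assoc (hf X x (-σ)) (X v), hP, Matrix.mul_assoc (X v),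
    H.hf'_mul_kk hσ, ← Matrix.mul_assoc (X v), ← hP, Matrix.mul_assoc, Matrix.mul_assoc, Matrix.smul_mul,
    H.base.fm.comm u v, Matrix.mul_smul (X v), smul_smul, Matrix.mul_smul, Matrix.mul_smul, smul_smul]
  congr 1
  ring

theorem frame_K0 {σ : F} (hσ : σ * σ = 1) {w : V} (hw : w ∈ H.Ws) (hq : q w = 1) :
    ∃ k ∈ H.K0 hσ, (k : Matrix ι ι F) = kk X x σ (X w) := by
  obtain ⟨k, hk, e⟩ := H.kk_mem hσ (H.mem_Ws.1 hw).1 hq (ε := 1) (one_mul 1)
  rw [one_smul] at e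
  exact ⟨k, H.mem_K0 hσ hk (c := 1) one_ne_zero hw (by rw [one_smul, e]), e⟩

/-- Centralising a member of value one up to sign puts the element in `K0`. -/
theorem of_comm {σ : F} (hσ : σ * σ = 1) {g : GL ι F} (hg : g ∈ H.Ks hσ) {w : V} (hw : w ∈ H.Ws) (hq : q w = 1)
    {e : F} (he : e * e = 1)
    (hh : hf X x (-σ) * ((g : Matrix ι ι F) * X w) = e • (hf X x (-σ) * (X w * (g : Matrix ι ι F)))) :
    g ∈ H.K0 hσ := by
  have hS := H.side hσ
  have main : ∀ {g : GL ι F}, g ∈ H.Ks hσ →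
      hf X x (-σ) * ((g : Matrix ι ι F) * X w) = hf X x (-σ) * (X w * (g : Matrix ι ι F)) → g ∈ H.K0 hσ := by
    intro g hg e1
    obtain ⟨hgM, hgx, hgP⟩ := hg
    have hwx := (H.mem_Ws.1 hw).1
    have eP : hf X x σ * ((g : Matrix ι ι F) * X w) = hf X x σ * (X w * (g : Matrix ι ι F)) := by
      rw [← Matrix.mul_assoc, hgP, ← Matrix.mul_assoc, hS.hf_X hwx, Matrix.mul_assoc, hgP]
    have hc : (g : Matrix ι ι F) * X w = X w * (g : Matrix ι ι F) := by
      rw [← Matrix.one_mul ((g : Matrix ι ι F) * X w), ← hS.hf_add, Matrix.add_mul, e1, eP, ← Matrix.add_mul,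
        hS.hf_add, Matrix.one_mul]
    have hw0 : w ≠ 0 := fun e0 => by
      rw [e0, H.qd.zero] at hq
      exact absurd hq (by decide)
    obtain ⟨L, hL⟩ := H.ns w hw0 hq g hgM hc
    have hLi := H.base.fm.act_isom g.isUnit hL
    have hLx : L x = x := by
      obtain ⟨c, hc⟩ := hL x
      rw [hgx, ← Matrix.smul_mul] at hc
      exact (H.base.fm.inj (g.isUnit.mul_left_injective hc)).symm
    refine ⟨⟨hgM, hgx, hgP⟩, fun v hv => ?_⟩
    have hvx := (H.mem_Ws.1 hv).1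
    have hLv : s (L v) x = 0 := by rw [← hLx, hLi.pres, hvx]
    obtain ⟨c, hc⟩ := hL v
    have hc0 := H.base.fm.act_ne g.isUnit hc
    have h1 : Hr X (hf X x σ) (1 : Matrix ι ι F) v (L v) := by
      refine ⟨c, hc0, ?_⟩
      have e2 := congrArg (hf X x σ * ·) hc
      simp only [← Matrix.mul_assoc, hgP, Matrix.mul_smul] at e2
      rw [hS.hf_X hLv, Matrix.mul_assoc (X (L v)), hgP, ← hS.hf_X hLv] at e2
      rwa [Matrix.one_mul, Matrix.mul_one]
    have h2 := hr_of_act (hf X x (-σ)) hc0 hc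
    rcases hS.hr_uniq isUnit_one hvx ⟨1, one_ne_zero, by rw [one_smul, Matrix.one_mul, Matrix.mul_one]⟩ h1 with e | e
    · rwa [← H.base.fm.form.eq_of_add_eq_zero e] at h2
    · have h3 := hS.neg.hr_shift hgx hLv h2
      rwa [show L v + x = v by rw [← e, add_comm v, ← add_assoc, H.base.fm.form.two, zero_add]] at h3
  rcases mul_self_eq_one_iff.1 he with rfl | rfl
  · exact main hg (by rw [hh, one_smul])
  obtain ⟨r, hqr, hrw⟩ := H.qdW.exists_ns_one (a := ⟨w, hw⟩) fun e0 => by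
    have : w = 0 := congrArg Subtype.val e0
    rw [this, H.qd.zero] at hq
    exact absurd hq (by decide)
  obtain ⟨k, hk, ek⟩ := H.frame_K0 hσ r.2 hqr
  have hP := hS.neg.hf_comm hg.2.1
  have hgk : g * k ∈ H.K0 hσ := main (mul_mem hg hk.1) (by
    have hwx := hS.neg.hf_X (H.mem_Ws.1 hw).1
    have hkP : hf X x (-σ) * (k : Matrix ι ι F) = hf X x (-σ) * X r := by rw [ek, H.hf'_mul_kk hσ]
    calc hf X x (-σ) * (((g * k : GL ι F) : Matrix ι ι F) * X w)
        = (g : Matrix ι ι F) * (hf X x (-σ) * (k : Matrix ι ι F)) * X w := by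
          rw [Units.val_mul, Matrix.mul_assoc (g : Matrix ι ι F), ← Matrix.mul_assoc, hP]
          simp only [Matrix.mul_assoc]
      _ = -((g : Matrix ι ι F) * hf X x (-σ) * X w * X r) := by
          rw [hkP, ← Matrix.mul_assoc, Matrix.mul_assoc _ (X (r : V)), H.base.fm.comm, hrw, sg2_one, neg_one_smul,
            Matrix.mul_neg, ← Matrix.mul_assoc]
      _ = hf X x (-σ) * X w * (g : Matrix ι ι F) * X r := by
          rw [← hP, Matrix.mul_assoc (hf X x (-σ)) (g : Matrix ι ι F), hh, neg_one_smul, Matrix.neg_mul, neg_neg]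
          simp only [Matrix.mul_assoc]
      _ = X w * ((g : Matrix ι ι F) * (hf X x (-σ) * (k : Matrix ι ι F))) := by
          rw [hkP, ← Matrix.mul_assoc (g : Matrix ι ι F), ← hP, hwx]
          simp only [Matrix.mul_assoc]
      _ = _ := by
          rw [← Matrix.mul_assoc (g : Matrix ι ι F), ← hP, Matrix.mul_assoc, ← Units.val_mul, ← Matrix.mul_assoc,
            ← hwx, Matrix.mul_assoc])
  have := mul_mem hgk (inv_mem hk)
  rwa [mul_inv_cancel_right] at this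

/-- The vectors orthogonal to `x` and `y` are moved as prescribed on a half. -/
def Rm (τ : F) (A : Matrix ι ι F) (L : H.Ws → H.Ws) : Prop := ∀ v : H.Ws, Hr X (hf X x τ) A v (L v)

theorem rm_uniq {τ : F} (hτ : τ * τ = 1) {A : Matrix ι ι F} (hA : IsUnit A) {L K : H.Ws → H.Ws}
    (hL : H.Rm τ A L) (hK : H.Rm τ A K) : L = K := by
  funext w
  rcases (H.side hτ).hr_uniq hA (H.mem_Ws.1 (L w).2).1 (hL w) (hK w) with e | e
  · exact Subtype.ext (H.base.fm.form.eq_of_add_eq_zero e)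
  · have : s ((L w + K w : H.Ws) : V) y = s x y := congrArg (fun v => s v y) e
    rw [(H.mem_Ws.1 (L w + K w).2).2, H.sxy] at this
    exact absurd this (by decide)

theorem rm_comp {τ : F} (hτ : τ * τ = 1) {A B : Matrix ι ι F} (hA : A * X x = X x * A) {L K : H.Ws → H.Ws}
    (hL : H.Rm τ A L) (hK : H.Rm τ B K) : H.Rm τ (A * B) (L ∘ K) :=
  fun w => (hK w).comp ((H.side hτ).hf_comm hA) (hL (K w))

theorem rm_isom {τ : F} (hτ : τ * τ = 1) {A : Matrix ι ι F} (hA : IsUnit A) {L : H.Ws → H.Ws} (hL : H.Rm τ A L) :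
    Isom (fun a b : H.Ws => s a b) L := by
  refine ⟨fun a b => ?_, fun a b =>
    (H.side hτ).hr_pres hA (H.mem_Ws.1 (L a).2).1 (H.mem_Ws.1 (L b).2).1 (hL a) (hL b)⟩
  have h1 : Hr X (hf X x τ) A (a + b : H.Ws) ((L a + L b : H.Ws) : V) :=
    (H.side hτ).hr_mul (H.mem_Ws.1 (L a).2).1 (hL a) (hL b)
  rcases (H.side hτ).hr_uniq hA (H.mem_Ws.1 (L (a + b)).2).1 (hL (a + b)) h1 with e | e
  · exact Subtype.ext (H.base.fm.form.eq_of_add_eq_zero e)
  · have : s ((L (a + b) + (L a + L b) : H.Ws) : V) y = s x y := congrArg (fun v => s v y) e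
    rw [(H.mem_Ws.1 (L (a + b) + (L a + L b)).2).2, H.sxy] at this
    exact absurd this (by decide)

/-- An element taking `K0` to itself moves the vectors isometrically on the other half. -/
theorem exists_map {σ : F} (hσ : σ * σ = 1) {g : GL ι F} (hg : g ∈ M)
    (hgx : (g : Matrix ι ι F) * X x = X x * (g : Matrix ι ι F))
    (hcj : ∀ k ∈ H.K0 hσ, g * k * g⁻¹ ∈ H.K0 hσ) :
    ∃ L, H.Rm (-σ) (g : Matrix ι ι F) L ∧ Isom (fun a b : H.Ws => s a b) L ∧ ∀ a : H.Ws, q (L a : V) = q (a : V) := by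
  classical
  haveI := H.base.quad.finite
  have hP := (H.side hσ).neg.hf_comm hgx
  have one : ∀ v : H.Ws, q (v : V) = 1 → ∃ u : H.Ws, q (u : V) = 1 ∧
      Hr X (hf X x (-σ)) (g : Matrix ι ι F) v u := by
    intro v hv
    obtain ⟨k, hk, ek⟩ := H.frame_K0 hσ v.2 hv
    obtain ⟨c, u, hu, hc, e, -⟩ := H.K0_form hσ (hcj k hk)
    have e1 : hf X x (-σ) * ((g : Matrix ι ι F) * X v) = c • (hf X x (-σ) * (X u * (g : Matrix ι ι F))) := by
      calc hf X x (-σ) * ((g : Matrix ι ι F) * X v) = (g : Matrix ι ι F) * (hf X x (-σ) * (k : Matrix ι ι F)) := by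
            rw [ek, H.hf'_mul_kk hσ, ← Matrix.mul_assoc, hP, Matrix.mul_assoc]
        _ = hf X x (-σ) * ((g * k * g⁻¹ : GL ι F) : Matrix ι ι F) * (g : Matrix ι ι F) := by
            rw [← Matrix.mul_assoc, ← hP, Units.val_mul, Units.val_mul, Matrix.mul_assoc _ (_ * _) (g : Matrix ι ι F),
              Units.inv_mul_cancel_right, Matrix.mul_assoc]
        _ = _ := by
            rw [e, H.hf'_mul_kk hσ, Matrix.mul_smul, Matrix.smul_mul, Matrix.mul_assoc]
    have hu' := H.q_eq (neg_sq hσ) g.isUnit hgx (H.mem_Ws.1 hu).1 hc e1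
    exact ⟨⟨u, hu⟩, hu'.symm.trans hv, c, fun e0 => zero_ne_one (α := F) (by rw [← hc, e0, mul_zero]), e1⟩
  have all : ∀ v : H.Ws, ∃ u : H.Ws, Hr X (hf X x (-σ)) (g : Matrix ι ι F) v u ∧ (q (v : V) = 1 → q (u : V) = 1) := by
    intro v
    rcases z2 (q (v : V)) with e | e
    · obtain ⟨t, ht, ht'⟩ := H.qdW.split e
      obtain ⟨u, -, hu⟩ := one t ht
      obtain ⟨u', -, hu'⟩ := one _ ht'
      refine ⟨u' + u, ?_, fun h1 => absurd (h1.symm.trans e) (by decide)⟩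
      have := (H.side hσ).neg.hr_mul (H.mem_Ws.1 u'.2).1 hu' hu
      rwa [show ((v + t : H.Ws) : V) + (t : V) = (v : V) from H.base.fm.form.add_add_cancel _ _] at this
    · obtain ⟨u, hq, hu⟩ := one v e
      exact ⟨u, hu, fun _ => hq⟩
  choose L hL hLq using all
  have hLi := H.rm_isom (neg_sq hσ) g.isUnit hL
  refine ⟨L, hL, hLi, fun a => ?_⟩
  rcases z2 (q (a : V)) with e | e
  swap
  · rw [hLq a e, e]
  rw [e]
  refine (z2 _).resolve_right fun e1 => ?_
  let f : {v : H.Ws // q (v : V) = 1} → {v : H.Ws // q (v : V) = 1} := fun v => ⟨L v, hLq v v.2⟩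
  have hf' : Function.Injective f := fun a b e => Subtype.ext (H.qdW.isom_inj hLi (congrArg Subtype.val e))
  obtain ⟨b, hb⟩ := Finite.injective_iff_surjective.1 hf' ⟨L a, e1⟩
  have := b.2
  rw [H.qdW.isom_inj hLi (congrArg Subtype.val hb), e] at this
  exact absurd this (by decide)

theorem coe_tr (a v : H.Ws) : ((tr (fun a b : H.Ws => s a b) a v : H.Ws) : V) = tr s (a : V) (v : V) := by
  unfold tr
  split_ifs <;> rfl

/-- A pair of transvections in the group moving both halves alike. -/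
theorem pair_rm {a b : H.Ws} (ha : q (a : V) = 1) (hb : q (b : V) = 1) {α β : F} (hα : α * α = 1) (hβ : β * β = 1) :
    ∃ T ∈ M, (T : Matrix ι ι F) = (2 : F)⁻¹ • ((1 + α • X a) * (1 + β • X b)) ∧
      (T : Matrix ι ι F) * X x = X x * (T : Matrix ι ι F) ∧
      ∀ τ : F, H.Rm τ (T : Matrix ι ι F)
        (tr (fun a b : H.Ws => s a b) a ∘ tr (fun a b : H.Ws => s a b) b) := by
  obtain ⟨T, hT, e, hA⟩ := H.pair_mem ha hb hα hβ
  refine ⟨T, hT, e, ?_, fun τ v => ?_⟩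
  · have one : ∀ {u : H.Ws} {γ : F}, (1 + γ • X u) * X x = X x * (1 + γ • X u) := fun {u γ} => by
      rw [Matrix.add_mul, Matrix.mul_add, Matrix.one_mul, Matrix.mul_one, H.comm_Xx (H.mem_Ws.1 u.2).1]
    rw [e, Matrix.smul_mul, Matrix.mul_smul, Matrix.mul_assoc, one, ← Matrix.mul_assoc, one, Matrix.mul_assoc]
  · obtain ⟨c, hc⟩ := hA v
    refine ⟨c, H.base.fm.act_ne T.isUnit hc, ?_⟩
    rw [hc, Function.comp_apply, Function.comp_apply, H.coe_tr, H.coe_tr, Matrix.mul_smul]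

/-- A fixed vector of value one makes the map trivial. -/
theorem fixed_id {σ : F} (hσ : σ * σ = 1) {g : GL ι F} (hg : g ∈ H.Ks hσ) {L : H.Ws → H.Ws}
    (hL : H.Rm (-σ) (g : Matrix ι ι F) L) {a : H.Ws} (ha : q (a : V) = 1) (e : L a = a) :
    g ∈ H.K0 hσ ∧ L = id := by
  obtain ⟨c, hc, e1⟩ := hL a
  rw [e] at e1
  have hk := H.of_comm hσ hg a.2 ha
    ((H.side hσ).neg.hr_sign hg.2.1 g.isUnit (H.mem_Ws.1 a.2).1 e1) e1
  exact ⟨hk, H.rm_uniq (neg_sq hσ) g.isUnit hL fun v => hk.2 v v.2⟩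

/-- An element normalising `K0` lies in it. -/
theorem normal_K0 {σ : F} (hσ : σ * σ = 1) {g : GL ι F} (hg : g ∈ H.Ks hσ)
    (hcj : ∀ k ∈ H.K0 hσ, g * k * g⁻¹ ∈ H.K0 hσ) : g ∈ H.K0 hσ := by
  classical
  haveI := H.base.quad.finite
  have hτ := neg_sq hσ
  obtain ⟨L, hL, hLi, hLq⟩ := H.exists_map hσ hg.1 hg.2.1 hcj
  have fp : ∀ {g' : GL ι F} {L' : H.Ws → H.Ws}, g' ∈ H.Ks hσ → H.Rm (-σ) (g' : Matrix ι ι F) L' →
      ∀ a : H.Ws, q (a : V) = 1 → L' a = a → L' = id :=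
    fun hg' hL' a ha e => (H.fixed_id hσ hg' hL' ha e).2
  have hLid : L = id := by
    refine H.qdW.eq_id hLi hLq (fp hg hL) ?_ ?_ ?_ H.room
    · refine fp (mul_mem hg hg) ?_
      rw [Units.val_mul]
      exact H.rm_comp hτ hg.2.1 hL hL
    · refine fp (mul_mem hg (mul_mem hg hg)) ?_
      rw [Units.val_mul, Units.val_mul]
      exact H.rm_comp hτ hg.2.1 hL (H.rm_comp hτ hg.2.1 hL hL)
    · intro a b c ha hb hc he
      obtain ⟨T, hT, -, hTx, hTr⟩ := H.pair_rm ha hb (one_mul (1 : F)) (one_mul 1)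
      obtain ⟨h', hh'⟩ : ∃ h', h' = g * T * g⁻¹ * T⁻¹ := ⟨_, rfl⟩
      have hmem : h' ∈ H.Ks hσ := by
        rw [hh', show g * T * g⁻¹ * T⁻¹ = g * (T * g⁻¹ * T⁻¹) by group]
        refine mul_mem hg ⟨mul_mem (mul_mem hT (inv_mem hg.1)) (inv_mem hT), ?_, ?_⟩
        · have hc1 : Commute (T : Matrix ι ι F) (X x) := hTx
          have hc2 : Commute ((g⁻¹ : GL ι F) : Matrix ι ι F) (X x) := (inv_mem hg : g⁻¹ ∈ H.Ks hσ).2.1
          have := (hc1.mul_left hc2).mul_left hc1.units_inv_left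
          simpa [Units.val_mul] using this.eq
        · rw [Units.val_mul, Units.val_mul, ← Matrix.mul_assoc, ← Matrix.mul_assoc, (H.side hσ).hf_comm hTx,
            Matrix.mul_assoc (T : Matrix ι ι F), (inv_mem hg : g⁻¹ ∈ H.Ks hσ).2.2, ← (H.side hσ).hf_comm hTx,
            Units.mul_inv_cancel_right]
      obtain ⟨E', hE'⟩ : ∃ E', E' = H.qdW.E L a b := ⟨_, rfl⟩
      have hEr : H.Rm (-σ) (h' : Matrix ι ι F) E' := by
        intro v
        obtain ⟨w, hw⟩ := Finite.injective_iff_surjective.1 (H.qdW.isom_inj hLi)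
          (tr (fun a b : H.Ws => s a b) b (tr (fun a b : H.Ws => s a b) a v))
        have hPT := (H.side hσ).neg.hf_comm hTx
        have hPg := (H.side hσ).neg.hf_comm hg.2.1
        have t1 : Hr X (hf X x (-σ)) ((T⁻¹ : GL ι F) : Matrix ι ι F) v
            (L w : H.Ws) := by
          rw [hw]
          have := hTr (-σ) (tr (fun a b : H.Ws => s a b) b (tr (fun a b : H.Ws => s a b) a v))
          rw [Function.comp_apply, H.qdW.form.tr_tr, H.qdW.form.tr_tr] at this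
          exact hr_inv hPT this
        have t2 := hr_inv hPg (hL w)
        have t3 := hTr (-σ) w
        have t4 := hL ((tr (fun a b : H.Ws => s a b) a ∘ tr (fun a b : H.Ws => s a b) b) w)
        have hPgi := (H.side hσ).neg.hf_comm (inv_mem hg : g⁻¹ ∈ H.Ks hσ).2.1
        have t5 := ((t1.comp hPgi t2).comp hPT t3).comp hPg t4
        rw [Function.comp_apply, H.qdW.tr_conj hLi, H.qdW.tr_conj hLi, hw] at t5
        rw [hE', hh', show g * T * g⁻¹ * T⁻¹ = g * (T * (g⁻¹ * T⁻¹)) by group, Units.val_mul, Units.val_mul,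
          Units.val_mul]
        exact t5
      have := fp hmem hEr c hc (hE' ▸ he)
      intro v
      exact (congrFun hE' v).symm.trans (congrFun this v)
  exact ⟨hg, fun v hv => by have := hL ⟨v, hv⟩; rwa [hLid] at this⟩

/-- **The kernel of a half lies in the frame.** -/
theorem Ks_le {σ : F} (hσ : σ * σ = 1) : H.Ks hσ ≤ H.K0 hσ := by
  classical
  have hτ := neg_sq hσ
  have hle : H.K0 hσ ≤ H.Ks hσ := fun g hg => hg.1
  obtain ⟨a, ha⟩ : ∃ a : H.Ws, q (a : V) = 1 := by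
    haveI := H.qdW.finite
    obtain ⟨a, -, ha⟩ := H.qdW.ns_in ⊤ (by rw [AddSubgroup.card_top]; have := H.qdW.big; nlinarith)
    exact ⟨a, ha⟩
  obtain ⟨b, hb, hba⟩ := H.qdW.exists_ns_one (H.qdW.ne_zero (a := a) ha)
  have hab : q ((a + b : H.Ws) : V) = 1 := by
    rw [show ((a + b : H.Ws) : V) = (a : V) + (b : V) from rfl, H.qd.add, ha, hb, H.base.fm.form.symm, hba]; decide
  obtain ⟨ka, hka, eka⟩ := H.frame_K0 hσ a.2 ha
  obtain ⟨kb, hkb, ekb⟩ := H.frame_K0 hσ b.2 hb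
  have hX : ∀ v : H.Ws, X v * X x = X x * X v := fun v => (H.side hσ).comm_X (H.mem_Ws.1 v.2).1
  have hneg : (-1 : Matrix ι ι F) * X x = X x * -1 := by
    rw [Matrix.neg_mul, Matrix.one_mul, Matrix.mul_neg, Matrix.mul_one]
  have ez : ((ka * ka : GL ι F) : Matrix ι ι F) = kk X x σ (-1) := by
    rw [Units.val_mul, eka, H.kk_mul hσ (hX a), H.hsq, ha, sg2_one, neg_one_smul]
  have conj : ∀ (t g : GL ι F) (c : F) (w : H.Ws), q (w : V) = 1 → c ≠ 0 →
      (t : Matrix ι ι F) = kk X x σ (c • X w) → g ∈ H.Ks hσ →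
      (g * t * g⁻¹ = t ∨ g * t * g⁻¹ = t * (ka * ka)) → g ∈ H.K0 hσ := by
    intro t g c w hw hc et hg hor
    obtain ⟨e, he, e1⟩ : ∃ e : F, e * e = 1 ∧ (g : Matrix ι ι F) * (t : Matrix ι ι F) =
        kk X x σ (e • (c • X w)) * (g : Matrix ι ι F) := by
      rcases hor with h1 | h1
      · exact ⟨1, one_mul 1, by rw [one_smul, ← et, ← Units.val_mul, ← Units.val_mul, mul_inv_eq_iff_eq_mul.1 h1]⟩
      · refine ⟨-1, by rw [neg_mul_neg, one_mul], ?_⟩
        rw [← Units.val_mul, mul_inv_eq_iff_eq_mul.1 h1, Units.val_mul, Units.val_mul, ez, et,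
          H.kk_mul hσ (H.comm_Xx (H.mem_Ws.1 w.2).1 c), Matrix.mul_neg, Matrix.mul_one, neg_one_smul]
    have hP := (H.side hσ).neg.hf_comm hg.2.1
    refine H.of_comm hσ hg w.2 hw he ?_
    have e2 := congrArg (hf X x (-σ) * ·) e1
    simp only [← Matrix.mul_assoc, H.hf'_mul_kk hσ, Matrix.mul_smul, Matrix.smul_mul] at e2
    rw [hP, Matrix.mul_assoc, et, H.hf'_mul_kk hσ, Matrix.mul_smul, Matrix.mul_smul, smul_comm e c,
      ← Matrix.mul_assoc, ← hP] at e2
    simp only [Matrix.mul_assoc] at e2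
    exact smul_right_injective _ hc e2
  intro g hg
  have htop := eq_top_of_tight ((H.K0 hσ).subgroupOf (H.Ks hσ)) ⟨ka * ka, hle (mul_mem hka hka)⟩ ?_ ?_ ?_ ?_ ?_
    (a := ⟨ka, hle hka⟩) (b := ⟨kb, hle hkb⟩) hka hkb ?_
  · have : (⟨g, hg⟩ : H.Ks hσ) ∈ (H.K0 hσ).subgroupOf (H.Ks hσ) := htop ▸ Subgroup.mem_top _
    exact this
  · rintro ⟨k, hk⟩
    refine Subtype.ext (Units.ext ?_)
    show (k : Matrix ι ι F) * ((ka * ka : GL ι F) : Matrix ι ι F) = ((ka * ka : GL ι F) : Matrix ι ι F) * k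
    rw [ez, kk, Matrix.mul_neg, Matrix.mul_one, Matrix.mul_add, Matrix.add_mul, Matrix.mul_neg, Matrix.neg_mul,
      (H.side hσ).hf_comm hk.2.1, (H.side hσ).neg.hf_comm hk.2.1]
  · refine Subtype.ext (Units.ext ?_)
    show ((ka * ka * (ka * ka) : GL ι F) : Matrix ι ι F) = _
    rw [Units.val_mul, ez, H.kk_mul hσ hneg, neg_mul_neg, Matrix.one_mul, H.kk_one hσ]; rfl
  · exact mul_mem hka hka
  · rintro ⟨v, hv⟩ hv0
    obtain ⟨c, u, hu, hc, e, -⟩ := H.K0_form hσ (show v ∈ H.K0 hσ from hv0)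
    have e2 : ((v * v : GL ι F) : Matrix ι ι F) = kk X x σ (sg2 F (q u) • 1) := by
      rw [Units.val_mul, e, H.kk_mul hσ (H.comm_Xx (H.mem_Ws.1 hu).1 c), Matrix.smul_mul, Matrix.mul_smul, smul_smul,
        hc, one_smul, H.hsq]
    rcases z2 (q u) with e0 | e0
    · refine Or.inl (Subtype.ext (Units.ext ?_))
      show ((v * v : GL ι F) : Matrix ι ι F) = 1
      rw [e2, e0, sg2_zero, one_smul, H.kk_one hσ]
    · refine Or.inr (Subtype.ext (Units.ext ?_))
      show ((v * v : GL ι F) : Matrix ι ι F) = ((ka * ka : GL ι F) : Matrix ι ι F)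
      rw [e2, e0, sg2_one, neg_one_smul, ez]
  · rintro ⟨k, hk⟩ hcj
    exact H.normal_K0 hσ hk fun v hv => hcj ⟨v, hle hv⟩ hv
  · rintro t ht ⟨k, hk⟩ hor
    obtain ⟨c, w, hc, hw, et⟩ : ∃ (c : F) (w : H.Ws), c ≠ 0 ∧ q (w : V) = 1 ∧
        ((t : GL ι F) : Matrix ι ι F) = kk X x σ (c • X w) := by
      rcases ht with rfl | rfl | rfl
      · exact ⟨1, a, one_ne_zero, ha, by rw [one_smul]; exact eka⟩
      · exact ⟨1, b, one_ne_zero, hb, by rw [one_smul]; exact ekb⟩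
      · obtain ⟨d, hd, hdd⟩ := H.base.fm.mul a b
        exact ⟨d, a + b, hd, hab, by
          show ((ka * kb : GL ι F) : Matrix ι ι F) = _
          rw [Units.val_mul, eka, ekb, H.kk_mul hσ (hX a), hdd]; rfl⟩
    refine conj _ k c w hw hc et hk ?_
    rcases hor with h1 | h1
    · exact Or.inl (congrArg Subtype.val h1)
    · exact Or.inr (congrArg Subtype.val h1)

end Sng

end CfsgLib.QubitMax
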