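import Cfsg.Agent.Lib.QubitMax.Block

/-!
If the matrices of determinant one in a group of blocks act on the frame, all of them do.
-/

set_option autoImplicit false
set_option linter.unusedSectionVars false

namespace CfsgLib.QubitMax

open Matrix
open CfsgLib.EightMax (Sform Isom tr tr_one tr_zero z2 sg2 sg2_zero sg2_one sg2_self sg2_ne sg2_add sg2_inj exists_sg2)

variable {F : Type} [Field F] [Finite F] {p h : ℕ} {k : Kd F p} {W : Type} [AddCommGroup W]
  {s : W → W → ZMod 2} {Y : W → Matrix (Fin h) (Fin h) F}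

/-- A set preserved by pairs of transvections at non-zero vectors with a non-zero element has all of them. -/
theorem pair_transitive (hs : Sform s) (U : W → Prop)
    (hU : ∀ a b u, a ≠ 0 → b ≠ 0 → U u → U (tr s a (tr s b u))) {u : W} (hu : u ≠ 0) (hUu : U u) {v : W}
    (hv : v ≠ 0) : U v := by
  rcases z2 (s u v) with e | e
  · obtain ⟨w, hw, hw'⟩ := hs.exists_one_one hu hv
    have h1 : u + w ≠ 0 := fun e0 => by
      rw [← hs.eq_of_add_eq_zero e0, hs.alt] at hw; exact absurd hw (by decide)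
    have h2 : w + v ≠ 0 := fun e0 => by
      rw [hs.eq_of_add_eq_zero e0, hs.alt] at hw'; exact absurd hw' (by decide)
    have := hU (w + v) (u + w) u h2 h1 hUu
    rwa [hs.tr_move hw, hs.tr_move (by rw [hs.symm, hw'])] at this
  · have h1 : u + v ≠ 0 := fun e0 => by
      rw [← hs.eq_of_add_eq_zero e0, hs.alt] at e; exact absurd e (by decide)
    have := hU v (u + v) u hv h1 hUu
    rwa [hs.tr_move e, hs.tr_self] at this

theorem small_all [Fintype F] (hk : k.Good) (hY : Nice k s Y) (h4 : 4 ∣ h) (hpos : 0 < h)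
    (B : Subgroup (GL (Fin h) F))
    (hin : ∀ g ∈ k.amb h, (∃ L, Act Y (g : Matrix (Fin h) (Fin h) F) L) → g ∈ B)
    (hsm : ∀ g ∈ B, (g : Matrix (Fin h) (Fin h) F).det = 1 → ∃ L, Act Y (g : Matrix (Fin h) (Fin h) F) L)
    {g : GL (Fin h) F} (hg : g ∈ B) : ∃ L, Act Y (g : Matrix (Fin h) (Fin h) F) L := by
  classical
  haveI : NeZero h := ⟨by omega⟩
  haveI := hY.fm.finite
  have sf := hY.fm.form
  obtain ⟨a, ha⟩ : ∃ a, a = (g : Matrix (Fin h) (Fin h) F) := ⟨_, rfl⟩
  obtain ⟨A, hA⟩ : ∃ A, A = ((g⁻¹ : GL (Fin h) F) : Matrix (Fin h) (Fin h) F) := ⟨_, rfl⟩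
  have aA : a * A = 1 := by rw [ha, hA, Units.mul_inv]
  have Aa : A * a = 1 := by rw [ha, hA, Units.inv_mul]
  have ua : IsUnit a := IsUnit.of_mul_eq_one A aA
  have uA : IsUnit A := IsUnit.of_mul_eq_one a Aa
  have ded : ∀ m : GL (Fin h) F, m ∈ k.amb h → (∃ L, Act Y (m : Matrix (Fin h) (Fin h) F) L) →
      (∃ K, Act Y (a * (m : Matrix (Fin h) (Fin h) F) * A) K) ∧
        ∃ K, Act Y (A * (m : Matrix (Fin h) (Fin h) F) * a) K := by
    intro m hm hL
    have hmB := hin m hm hL
    refine ⟨?_, ?_⟩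
    · have := hsm _ (mul_mem (mul_mem hg hmB) (inv_mem hg)) (by
        rw [Units.val_mul, Units.val_mul, det_mul, det_mul, mul_right_comm, ← det_mul, Units.mul_inv, det_one,
          one_mul, hm.1])
      rwa [Units.val_mul, Units.val_mul, ← ha, ← hA] at this
    · have := hsm _ (mul_mem (mul_mem (inv_mem hg) hmB) hg) (by
        rw [Units.val_mul, Units.val_mul, det_mul, det_mul, mul_right_comm, ← det_mul, Units.inv_mul, det_one,
          one_mul, hm.1])
      rwa [Units.val_mul, Units.val_mul, ← ha, ← hA] at this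
  have conjY : ∀ w, ∃ K, Act Y (a * Y w * A) K := fun w => by
    obtain ⟨m, hm, em⟩ := hY.mem hk h4 w
    have := (ded m hm (by rw [em]; exact ⟨_, hY.fm.act_X w⟩)).1
    rwa [em] at this
  choose K hK using conjY
  have uK : ∀ w, IsUnit (a * Y w * A) := fun w => (ua.mul (hY.fm.isUnit w)).mul uA
  have Kadd : ∀ v w, K v ∘ K w = K (v + w) := fun v w => by
    obtain ⟨m, hm, hm'⟩ := hY.fm.mul v w
    refine hY.fm.act_uniq ((uK v).mul (uK w)) ((hK v).comp (hK w)) ?_
    rw [show a * Y v * A * (a * Y w * A) = m • (a * Y (v + w) * A) by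
      simp only [Matrix.mul_assoc]
      rw [← Matrix.mul_assoc A a, Aa, Matrix.one_mul, ← Matrix.mul_assoc (Y v), hm', Matrix.smul_mul,
        Matrix.mul_smul]]
    exact (hK (v + w)).smul m
  have K0 : K 0 = id := hY.fm.act_uniq (uK 0) (hK 0) (by
    rw [hY.fm.one, Matrix.mul_one, aA]; exact act_one Y)
  -- the vectors mapped into the frame
  by_cases hall : ∀ w, K w = id
  · obtain ⟨L, hL⟩ : ∃ L : W → W, ∀ w, ∃ c : F, a * Y w = c • (Y (L w) * a) := by
      have : ∀ w, ∃ u, ∃ c : F, a * Y w = c • (Y u * a) := fun w => by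
        obtain ⟨c, u, -, e⟩ := hY.fm.act_id (uK w) (hall w ▸ hK w)
        refine ⟨u, c, ?_⟩
        rw [← Matrix.smul_mul, ← e, Matrix.mul_assoc (a * Y w), Aa, Matrix.mul_one]
      choose L hL using this
      exact ⟨L, hL⟩
    exact ⟨L, ha ▸ hL⟩
  exfalso
  -- no non-zero vector is mapped into the frame
  have hnone : ∀ w, w ≠ 0 → K w ≠ id := by
    intro w hw e
    refine hall fun v => ?_
    by_cases hv : v = 0
    · rw [hv, K0]
    refine pair_transitive sf (fun z => K z = id) (fun c d z hc hd hz => ?_) hw e hv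
    obtain ⟨m, hm, hmL⟩ := hY.exists_pair_lift hk h4 (Or.inl ⟨hc, hd⟩)
    obtain ⟨⟨N, hN⟩, -⟩ := ded m hm ⟨_, hmL⟩
    obtain ⟨f, hf⟩ := hmL z
    obtain ⟨q, u, -, eu⟩ := hY.fm.act_id (uK z) (hz ▸ hK z)
    obtain ⟨f', hf'⟩ := hN u
    refine hY.fm.act_uniq (uK _) (hK _) ?_
    have e1 : f • (a * Y (tr s c (tr s d z)) * A) = (q * f') • Y (N u) := by
      have e2 : f • (a * Y (tr s c (tr s d z)) * A) * (a * (m : Matrix (Fin h) (Fin h) F) * A) =
          (q * f') • Y (N u) * (a * (m : Matrix (Fin h) (Fin h) F) * A) := by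
        calc f • (a * Y (tr s c (tr s d z)) * A) * (a * (m : Matrix (Fin h) (Fin h) F) * A)
            = a * (f • (Y (tr s c (tr s d z)) * (m : Matrix (Fin h) (Fin h) F))) * A := by
              simp only [Matrix.smul_mul, Matrix.mul_smul, Matrix.mul_assoc]
              rw [← Matrix.mul_assoc A a, Aa, Matrix.one_mul]
          _ = a * ((m : Matrix (Fin h) (Fin h) F) * Y z) * A := by rw [hf]; rfl
          _ = a * (m : Matrix (Fin h) (Fin h) F) * A * (a * Y z * A) := by
              simp only [Matrix.mul_assoc]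
              rw [← Matrix.mul_assoc A a, Aa, Matrix.one_mul]
          _ = _ := by rw [eu, Matrix.mul_smul, hf', smul_smul, Matrix.smul_mul]
      exact ((ua.mul m.isUnit).mul uA).mul_left_injective e2
    have hf0 : f ≠ 0 := hY.fm.scalar_ne m.isUnit hf
    rw [show a * Y (tr s c (tr s d z)) * A = f⁻¹ • (f • (a * Y (tr s c (tr s d z)) * A)) by
      rw [inv_smul_smul₀ hf0], e1]
    exact ((hY.fm.act_X _).smul _).smul _
  -- the two-group of these isometries fixes a non-zero vector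
  haveI : Fact (Nat.Prime 2) := ⟨Nat.prime_two⟩
  obtain ⟨f, hf⟩ : ∃ f : Multiplicative W →* Function.End W, ∀ w, f (Multiplicative.ofAdd w) = K w :=
    ⟨{ toFun := fun w => K w.toAdd
       map_one' := K0
       map_mul' := fun v w => (Kadd v.toAdd w.toAdd).symm }, fun w => rfl⟩
  obtain ⟨φ, hφ⟩ : ∃ φ : Multiplicative W →* Equiv.Perm W, ∀ w z, φ (Multiplicative.ofAdd w) z = K w z :=
    ⟨f.toHomPerm, fun w z => congrFun (hf w) z⟩
  have hpg : IsPGroup 2 (Multiplicative W) := fun x => ⟨1, by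
    rw [pow_one, pow_two]; exact congrArg Multiplicative.ofAdd (sf.two _)⟩
  obtain ⟨e, he⟩ : ∃ e, Nat.card W = 2 ^ e :=
    (IsPGroup.iff_card.1 hpg).imp fun e he => (Nat.card_congr Multiplicative.ofAdd).trans he
  have hne : e ≠ 0 := fun e0 => by
    rw [e0, pow_zero, hY.fm.card, Fintype.card_fin] at he
    have := Nat.eq_one_of_mul_eq_one_left he
    omega
  have hpr : IsPGroup 2 φ.range := hpg.of_surjective φ.rangeRestrict φ.rangeRestrict_surjective
  have h0 : (0 : W) ∈ MulAction.fixedPoints φ.range W := fun ⟨_, x, rfl⟩ => by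
    show φ (Multiplicative.ofAdd x.toAdd) 0 = 0
    rw [hφ]
    have := (hY.fm.act_isom (uK x.toAdd) (hK x.toAdd)).add 0 0
    rw [add_zero] at this
    exact left_eq_add.1 this
  obtain ⟨v, hv, hv0⟩ := hpr.exists_fixed_point_of_prime_dvd_card_of_fixed_point W
    (by rw [he]; exact dvd_pow_self 2 hne) h0
  have hfix : ∀ w, K w v = v := fun w => by rw [← hφ]; exact hv ⟨_, Multiplicative.ofAdd w, rfl⟩
  obtain ⟨w, hw⟩ : ∃ w : W, w ≠ 0 := ⟨v, Ne.symm hv0⟩
  refine hnone w hw (funext fun z => ?_)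
  by_cases hz : z = 0
  · rw [hz]
    have := hfix w
    have h' := (hY.fm.act_isom (uK w) (hK w)).add 0 0
    rw [add_zero] at h'
    exact left_eq_add.1 h'
  refine pair_transitive sf (fun z => ∀ w, K w z = z) (fun c d z hc hd hz w => ?_) (Ne.symm hv0) hfix hz w
  obtain ⟨m, hm, hmL⟩ := hY.exists_pair_lift hk h4 (Or.inl ⟨hc, hd⟩)
  obtain ⟨m', hm', em'⟩ : ∃ m' ∈ k.amb h, m' = m⁻¹ := ⟨_, inv_mem hm, rfl⟩
  obtain ⟨L', hL'⟩ : ∃ L', Act Y (m' : Matrix (Fin h) (Fin h) F) L' := by
    obtain ⟨L', hL', -⟩ := hY.fm.act_inv m.mul_inv m.inv_mul hmL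
    exact ⟨L', em' ▸ hL'⟩
  obtain ⟨-, ⟨N, hN⟩⟩ := ded m' hm' ⟨L', hL'⟩
  obtain ⟨f, hf⟩ := hN w
  have e1 : a * Y w * A * (m : Matrix (Fin h) (Fin h) F) =
      f • ((m : Matrix (Fin h) (Fin h) F) * (a * Y (N w) * A)) := by
    have mm : (m : Matrix (Fin h) (Fin h) F) * (m' : Matrix (Fin h) (Fin h) F) = 1 := by rw [em', Units.mul_inv]
    have mm' : (m' : Matrix (Fin h) (Fin h) F) * (m : Matrix (Fin h) (Fin h) F) = 1 := by rw [em', Units.inv_mul]
    calc a * Y w * A * (m : Matrix (Fin h) (Fin h) F)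
        = (m : Matrix (Fin h) (Fin h) F) * (a * (A * (m' : Matrix (Fin h) (Fin h) F) * a * Y w) *
            (A * (m : Matrix (Fin h) (Fin h) F))) := by
          simp only [Matrix.mul_assoc]
          rw [← Matrix.mul_assoc a A, aA, Matrix.one_mul, ← Matrix.mul_assoc (m : Matrix (Fin h) (Fin h) F) (m' : Matrix (Fin h) (Fin h) F),
            mm, Matrix.one_mul]
      _ = _ := by
          rw [hf, Matrix.mul_smul, Matrix.smul_mul, Matrix.mul_smul]
          simp only [Matrix.mul_assoc]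
          rw [← Matrix.mul_assoc a A, aA, Matrix.one_mul, mm', Matrix.mul_one]
  have hK2 := (hK w).comp hmL
  rw [e1] at hK2
  have e2 := hY.fm.act_uniq ((uK w).mul m.isUnit) (by rw [e1]; exact hK2) (by
    rw [e1]; exact (hmL.comp (hK (N w))).smul f)
  have := congrFun e2 z
  simp only [Function.comp_apply, hz (N w)] at this
  exact this

end CfsgLib.QubitMax
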