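import Cfsg.Agent.Lib.Classical.SympPair
import Cfsg.Agent.Lib.Classical.SympUnitaryEight

/-!
A subgroup of the symplectic group containing every unipotent isometry commuting with an isometry squaring to minus
one, and an element inverting it, is the whole group unless all its elements keep that isometry up to sign.
-/

set_option autoImplicit false
set_option linter.unusedSectionVars false

namespace CfsgLib.QubitMax

open Matrix Module
open CfsgLib.Classical
open CfsgLib.SympExt (InM tt tt_apply toEquiv toEquiv_apply)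

variable {F : Type*} [Field F] [Finite F] {m : ℕ}

local notation "Mat" => Matrix (Fin m ⊕ Fin m) (Fin m ⊕ Fin m) F
local notation "ω" => Cfsg.sympForm m F

/-- **The symplectic leaf.** -/
theorem sp_leaf (hm : 4 ≤ m) (h2 : (2 : F) ≠ 0) {M : Subgroup (GL (Fin m ⊕ Fin m) F)} (hle : M ≤ Cfsg.spGL m F)
    {j : Mat} (hjj : j * j = -1) (hj : ∀ x y, ω (j *ᵥ x) (j *ᵥ y) = ω x y)
    (hunip : ∀ g ∈ Cfsg.spGL m F, (g : Mat) * j = j * (g : Mat) → IsNilpotent ((g : Mat) - 1) → g ∈ M)
    {σ : GL (Fin m ⊕ Fin m) F} (hσ : σ ∈ M) (hσj : (σ : Mat) * j = -(j * (σ : Mat)))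
    (hmove : ¬ ∀ g ∈ M, (g : Mat) * j = j * (g : Mat) ∨ (g : Mat) * j = -(j * (g : Mat))) :
    M = Cfsg.spGL m F := by
  classical
  have hjx : ∀ x, j *ᵥ (j *ᵥ x) = -x := fun x => by rw [mulVec_mulVec, hjj, neg_mulVec, one_mulVec]
  have hskew : ∀ x y, ω (j *ᵥ x) y = -ω x (j *ᵥ y) := fun x y => by
    conv_rhs => rw [← hj x (j *ᵥ y), hjx]
    rw [← neg_one_smul F y, SympTrans.f_smul_right, neg_one_mul, neg_neg]
  have hσx : ∀ x, (σ : Mat) *ᵥ (j *ᵥ x) = -(j *ᵥ ((σ : Mat) *ᵥ x)) := fun x => by
    rw [mulVec_mulVec, hσj, neg_mulVec, mulVec_mulVec]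
  by_cases hi : ∃ i : F, i * i = -1
  · obtain ⟨i, hi⟩ := hi
    have hi0 : i ≠ 0 := fun e => by rw [e, mul_zero] at hi; exact one_ne_zero (neg_eq_zero.1 hi.symm)
    obtain ⟨U, hU⟩ : ∃ U : Submodule F (Fin m ⊕ Fin m → F), ∀ x, x ∈ U ↔ j *ᵥ x = i • x :=
      ⟨LinearMap.ker (Matrix.mulVecLin j - i • LinearMap.id), fun x => by simp [sub_eq_zero]⟩
    obtain ⟨W, hW⟩ : ∃ W : Submodule F (Fin m ⊕ Fin m → F), ∀ x, x ∈ W ↔ j *ᵥ x = (-i) • x :=
      ⟨LinearMap.ker (Matrix.mulVecLin j - (-i) • LinearMap.id), fun x => by simp [sub_eq_zero, eq_neg_iff_add_eq_zero]⟩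
    have zero_of : ∀ {c x y}, c ≠ (0 : F) → c * ω x y = 0 → ω x y = 0 := fun hc e => (mul_eq_zero.1 e).resolve_left hc
    have iso0 : ∀ (c : F), c * c = -1 → ∀ x y, j *ᵥ x = c • x → j *ᵥ y = c • y → ω x y = 0 := by
      intro c hc x y hx hy
      refine zero_of h2 ?_
      have := hj x y
      rw [hx, hy, SympTrans.f_smul_left, SympTrans.f_smul_right, ← mul_assoc, hc] at this
      linear_combination -this
    have hcompl : IsCompl U W := by
      refine IsCompl.of_eq ((Submodule.eq_bot_iff _).2 fun x hx => ?_) (eq_top_iff.2 fun x _ => ?_)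
      · have e := (hU x).1 hx.1
        rw [(hW x).1 hx.2] at e
        have : ((2 : F) * i) • x = 0 := by
          rw [two_mul, add_smul]
          nth_rewrite 1 [← e]
          rw [neg_smul, neg_add_cancel]
        exact (smul_eq_zero.1 this).resolve_left (mul_ne_zero h2 hi0)
      · rw [show x = (2 : F)⁻¹ • (x - i • (j *ᵥ x)) + (2 : F)⁻¹ • (x + i • (j *ᵥ x)) by
          rw [← smul_add, show x - i • (j *ᵥ x) + (x + i • (j *ᵥ x)) = (2 : F) • x by module,
            inv_smul_smul₀ h2]]
        refine Submodule.add_mem_sup (U.smul_mem _ ((hU _).2 ?_)) (W.smul_mem _ ((hW _).2 ?_))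
        · rw [mulVec_sub, mulVec_smul, hjx, smul_sub, smul_smul, hi]; module
        · rw [mulVec_add, mulVec_smul, hjx, smul_add, smul_smul, neg_mul, hi]; module
    have hσU : ∀ x ∈ U, (σ : Mat) *ᵥ x ∈ W := fun x hx => (hW _).2 (by
      have := hσx x
      rw [(hU x).1 hx, mulVec_smul] at this
      rw [neg_smul, this, neg_neg])
    have hσW : ∀ x ∈ W, (σ : Mat) *ᵥ x ∈ U := fun x hx => (hU _).2 (by
      have := hσx x
      rw [(hW x).1 hx, mulVec_smul, neg_smul, neg_inj] at this
      exact this.symm)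
    have hσinj : Function.Injective fun x => (σ : Mat) *ᵥ x := Matrix.mulVec_injective_of_isUnit σ.isUnit
    have hdim : Module.finrank F U = Module.finrank F W := by
      refine le_antisymm ?_ ?_
      · exact LinearMap.finrank_le_finrank_of_injective (f := (Matrix.mulVecLin (σ : Mat)).restrict hσU)
          fun a b e => Subtype.ext (hσinj (congrArg Subtype.val e))
      · exact LinearMap.finrank_le_finrank_of_injective (f := (Matrix.mulVecLin (σ : Mat)).restrict hσW)
          fun a b e => Subtype.ext (hσinj (congrArg Subtype.val e))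
    have hsum : Module.finrank F U + Module.finrank F W = m + m := by
      rw [Submodule.finrank_add_eq_of_isCompl hcompl, Module.finrank_fintype_fun_eq_card, Fintype.card_sum,
        Fintype.card_fin]
    have P : SympPair.Pol U W :=
      ⟨hcompl, fun x hx y hy => iso0 i hi x y ((hU x).1 hx) ((hU y).1 hy),
        fun x hx y hy => iso0 (-i) (by rw [neg_mul_neg, hi]) x y ((hW x).1 hx) ((hW y).1 hy), by omega, by omega⟩
    obtain ⟨K, hK⟩ : ∃ K, K = M.comap ((Cfsg.spGL m F).subtype.comp SympTrans.toSpGL) := ⟨_, rfl⟩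
    have memK : ∀ s, s ∈ K ↔ ((SympTrans.toSpGL s : Cfsg.spGL m F) : GL (Fin m ⊕ Fin m) F) ∈ M := fun s => by
      rw [hK]; rfl
    have happ : ∀ s x, ((SympTrans.toSpGL s : Cfsg.spGL m F) : GL (Fin m ⊕ Fin m) F).val *ᵥ x =
        SympTrans.app s x := fun s x => by rw [SympTrans.toSpGL_coe]; rfl
    have hE : ∀ a ∈ U, ∀ b ∈ W, ω a b = 0 → SympStab.E a b ∈ K := by
      intro a ha b hb hab
      rw [memK]
      refine hunip _ (SympTrans.toSpGL (SympStab.E a b)).2 ?_ ⟨2, ?_⟩
      · refine Matrix.ext_iff_mulVec.2 fun x => ?_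
        rw [← mulVec_mulVec, ← mulVec_mulVec, happ, happ, SympStab.app_E hab, SympStab.app_E hab,
          mulVec_add, mulVec_add, mulVec_smul, mulVec_smul, (hU a).1 ha, (hW b).1 hb, smul_smul, smul_smul,
          hskew, hskew, (hU a).1 ha, (hW b).1 hb, SympTrans.f_smul_right, SympTrans.f_smul_right]
        module
      · refine Matrix.ext_iff_mulVec.2 fun x => ?_
        have e : ∀ z, (((SympTrans.toSpGL (SympStab.E a b) : Cfsg.spGL m F) : GL (Fin m ⊕ Fin m) F).val - 1) *ᵥ z =
            ω z b • a + ω z a • b := fun z => by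
          rw [sub_mulVec, one_mulVec, happ, SympStab.app_E hab]; abel
        rw [pow_two, ← mulVec_mulVec, e, e, zero_mulVec]
        simp only [SympTrans.f_add_left, SympTrans.f_smul_left, SympTrans.f_self, hab, SympTrans.f_swap a b,
          mul_zero, neg_zero, add_zero, zero_smul]
    obtain ⟨s, hs⟩ := SympTrans.toSpGL_surjective (⟨σ, hle hσ⟩ : Cfsg.spGL m F)
    have hs' : ((SympTrans.toSpGL s : Cfsg.spGL m F) : GL (Fin m ⊕ Fin m) F) = σ := congrArg Subtype.val hs
    rcases SympPair.pair_le_or_top h2 (by omega) P K hE ((memK s).2 (hs' ▸ hσ))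
        (fun x hx => by rw [← happ, hs']; exact hσU x hx) (fun x hx => by rw [← happ, hs']; exact hσW x hx) with
      htop | hsub
    · refine le_antisymm hle fun g hg => ?_
      obtain ⟨t, ht⟩ := SympTrans.toSpGL_surjective (⟨g, hg⟩ : Cfsg.spGL m F)
      have := (memK t).1 (htop ▸ Subgroup.mem_top t)
      rwa [ht] at this
    · refine absurd (fun g hg => ?_) hmove
      obtain ⟨t, ht⟩ := SympTrans.toSpGL_surjective (⟨g, hle hg⟩ : Cfsg.spGL m F)
      have ht' : ((SympTrans.toSpGL t : Cfsg.spGL m F) : GL (Fin m ⊕ Fin m) F) = g := congrArg Subtype.val ht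
      have htK : t ∈ K := (memK t).2 (ht' ▸ hg)
      rcases hsub htK with ⟨h1, h3⟩ | ⟨h1, h3⟩
      · left
        refine Matrix.ext_iff_mulVec.2 fun x => ?_
        obtain ⟨a, ha, b, hb, rfl⟩ := SympPair.exists_parts P x
        have h1' : (g : Mat) *ᵥ a ∈ U := by rw [← ht', happ]; exact h1 a ha
        have h3' : (g : Mat) *ᵥ b ∈ W := by rw [← ht', happ]; exact h3 b hb
        simp only [← mulVec_mulVec, mulVec_add, mulVec_smul, (hU a).1 ha, (hW b).1 hb, (hU _).1 h1', (hW _).1 h3']
      · right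
        refine Matrix.ext_iff_mulVec.2 fun x => ?_
        obtain ⟨a, ha, b, hb, rfl⟩ := SympPair.exists_parts P x
        have h1' : (g : Mat) *ᵥ a ∈ W := by rw [← ht', happ]; exact h1 a ha
        have h3' : (g : Mat) *ᵥ b ∈ U := by rw [← ht', happ]; exact h3 b hb
        simp only [neg_mulVec, ← mulVec_mulVec, mulVec_add, mulVec_smul, (hU a).1 ha, (hW b).1 hb, (hW _).1 h1',
          (hU _).1 h3']
        module
  · push Not at hi
    obtain ⟨B, hB⟩ : ∃ B : (Fin m ⊕ Fin m → F) →ₗ[F] (Fin m ⊕ Fin m → F) →ₗ[F] F, ∀ x y, B x y = ω x y :=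
      ⟨LinearMap.mk₂ F (Cfsg.sympForm m F) SympTrans.f_add_left SympTrans.f_smul_left
        (fun u v w => SympTrans.f_add_right u v w) (fun a u v => SympTrans.f_smul_right a u v), fun _ _ => rfl⟩
    obtain ⟨J, hJ⟩ : ∃ J : (Fin m ⊕ Fin m → F) →ₗ[F] (Fin m ⊕ Fin m → F), ∀ x, J x = j *ᵥ x :=
      ⟨Matrix.mulVecLin j, fun _ => rfl⟩
    have hS : SympUSix.Setup B J (-1) := by
      refine ⟨h2, fun x => by rw [hB]; exact SympTrans.f_self x,
        fun x h => SympTrans.eq_zero_of_f x fun y => by rw [← hB]; exact h y,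
        fun x y => by rw [hJ, hJ, hB, hB]; exact hskew x y, fun x => by rw [hJ, hJ, hjx, neg_one_smul],
        fun c => hi c, ?_⟩
      rw [Module.finrank_fintype_fun_eq_card, Fintype.card_sum, Fintype.card_fin]; omega
    obtain ⟨M', hM'⟩ : ∃ M', M' = M.map (toEquiv (ι := Fin m ⊕ Fin m) (F := F)).toMonoidHom := ⟨_, rfl⟩
    have hin : ∀ N : (Fin m ⊕ Fin m → F) →ₗ[F] (Fin m ⊕ Fin m → F), (∀ x, N (N x) = 0) →
        (∀ x y, B (N x) y + B x (N y) = 0) → (∀ x, N (J x) = J (N x)) → InM M' N := by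
      intro N h0 hsk hj'
      let e : (Fin m ⊕ Fin m → F) ≃ₗ[F] (Fin m ⊕ Fin m → F) :=
        LinearEquiv.ofLinearMap (LinearMap.id + N) (LinearMap.id - N)
          (LinearMap.ext fun x => by simp [h0, map_sub])
          (LinearMap.ext fun x => by simp [h0, map_add])
      have hex : ∀ x, toEquiv (toEquiv.symm e) x = x + N x := fun x => by
        rw [MulEquiv.apply_symm_apply]; rfl
      refine ⟨e, ?_, fun x => rfl⟩
      rw [hM']
      refine ⟨toEquiv.symm e, hunip _ (fun x y => ?_) ?_ ⟨2, ?_⟩, toEquiv.apply_symm_apply _⟩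
      · show ω (((toEquiv.symm e : GL (Fin m ⊕ Fin m) F) : Mat) *ᵥ x)
            (((toEquiv.symm e : GL (Fin m ⊕ Fin m) F) : Mat) *ᵥ y) = ω x y
        rw [← toEquiv_apply, ← toEquiv_apply, hex, hex, ← hB, ← hB]
        have h3 : B (N x) (N y) = 0 := by
          have := hsk x (N y)
          rwa [h0, map_zero, add_zero] at this
        simp only [map_add, LinearMap.add_apply]
        linear_combination hsk x y + h3
      · refine Matrix.ext_iff_mulVec.2 fun x => ?_
        rw [← mulVec_mulVec, ← mulVec_mulVec, ← toEquiv_apply, ← toEquiv_apply, hex, hex, mulVec_add, ← hJ, ← hJ,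
          hj']
      · refine Matrix.ext_iff_mulVec.2 fun x => ?_
        have e1 : ∀ z, (((toEquiv.symm e : GL (Fin m ⊕ Fin m) F) : Mat) - 1) *ᵥ z = N z := fun z => by
          rw [sub_mulVec, one_mulVec, ← toEquiv_apply, hex, add_sub_cancel_left]
        rw [pow_two, ← mulVec_mulVec, e1, e1, h0, zero_mulVec]
    have hover : SympUSix.Over B J (-1) M' := by
      refine SympUSix.Over.of_root hS (fun a t ha => hin _ (fun x => ?_) (fun x y => ?_) (fun x => ?_))
        (by rw [Module.finrank_fintype_fun_eq_card, Fintype.card_sum, Fintype.card_fin]; omega) ?_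
      · have h' : B a (J a) = 0 := by rw [SympUSix.jr hS, ha, neg_zero]
        simp [tt_apply, hS.alt, ha, h']
      · simp only [LinearMap.add_apply, tt_apply, map_add, map_smul, LinearMap.smul_apply, smul_eq_mul]
        rw [SympUSix.bswap hS y a, SympUSix.bswap hS y (J a)]
        ring
      · simp only [LinearMap.add_apply, tt_apply, map_add, map_smul, hS.sq, SympUSix.jj hS, SympUSix.jr hS x a]
        module
      · rw [hM']
        rintro _ ⟨g, hg, rfl⟩ x y
        rw [hB, hB]
        exact hle hg x y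
    by_cases hbad : ∃ g ∈ M, ∃ a : Fin m ⊕ Fin m → F, B (J a) a = 0 ∧
        ∀ α β : F, toEquiv g (J a) ≠ α • toEquiv g a + β • J (toEquiv g a)
    · obtain ⟨g, hg, a, ha, hgo⟩ := hbad
      obtain ⟨y, hy, hC⟩ := SympUSix.exists_cen_of_moved hS hover (g := toEquiv g) (hM' ▸ ⟨g, hg, rfl⟩) ha hgo
      have hall : ∀ (v : Fin m ⊕ Fin m → F) (c : F),
          ((SympTrans.toSpGL (SympTrans.T v c)) : GL (Fin m ⊕ Fin m) F) ∈ M := by
        intro v c
        obtain ⟨g', hg', hx⟩ := SympUSix.cen_all hS hover hy hC v c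
        rw [hM'] at hg'
        obtain ⟨g'', hg'', rfl⟩ := hg'
        have : g'' = ((SympTrans.toSpGL (SympTrans.T v c)) : GL (Fin m ⊕ Fin m) F) := toEquiv.injective
          (LinearEquiv.ext fun x => by
            rw [toEquiv_apply ((SympTrans.toSpGL (SympTrans.T v c)) : GL (Fin m ⊕ Fin m) F) x, SympTrans.toSpGL_coe]
            refine (hx x).trans ?_
            rw [tt_apply, hB, smul_smul]
            exact (SympTrans.app_T v c x).symm)
        exact this ▸ hg''
      refine le_antisymm hle fun g hg => ?_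
      obtain ⟨s, hs⟩ := SympTrans.toSpGL_surjective (⟨g, hg⟩ : Cfsg.spGL m F)
      have hle' : SympTrans.gen (Set.univ : Set (Fin m ⊕ Fin m → F)) ≤
          (M.comap (Cfsg.spGL m F).subtype).comap SympTrans.toSpGL := by
        rw [SympTrans.gen, Subgroup.closure_le]
        rintro _ ⟨v, -, c, rfl⟩
        exact hall v c
      have := hle' (show s ∈ SympTrans.gen (Set.univ : Set (Fin m ⊕ Fin m → F)) by
        rw [SympTrans.gen_univ]; trivial)
      rw [Subgroup.mem_comap, hs] at this
      exact this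
    · push Not at hbad
      refine absurd (fun g hg => ?_) hmove
      obtain ⟨β, hβ⟩ := SympUSix.conj_eq hS hover (g := toEquiv g) (hM' ▸ ⟨g, hg, rfl⟩) (fun a ha => hbad g hg a ha)
      obtain ⟨α, hα0⟩ : ∃ α : F, α = 0 := ⟨0, rfl⟩
      have e : (g : Mat) * j = (α • (1 : Mat) + β • j) * (g : Mat) := by
        refine Matrix.ext_iff_mulVec.2 fun x => ?_
        have := hβ x
        rw [← zero_add (β • _), ← zero_smul F (toEquiv g x), ← hα0] at this
        simp only [toEquiv_apply, hJ] at this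
        rw [← mulVec_mulVec, ← mulVec_mulVec, add_mulVec, smul_mulVec, smul_mulVec, one_mulVec]
        exact this
      have e2 : (α • (1 : Mat) + β • j) * (α • (1 : Mat) + β • j) = -1 := by
        refine g.isUnit.mul_left_injective ?_
        show _ * (g : Mat) = _ * (g : Mat)
        calc _ = (α • (1 : Mat) + β • j) * ((g : Mat) * j) := by rw [Matrix.mul_assoc, e]
          _ = (g : Mat) * j * j := by rw [← Matrix.mul_assoc, ← e]
          _ = _ := by rw [Matrix.mul_assoc, hjj, Matrix.mul_neg, Matrix.mul_one, Matrix.neg_mul, Matrix.one_mul]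
      have e3 : (α * α - β * β + 1) • (1 : Mat) + (2 * (α * β)) • j = 0 := by
        rw [add_mul, mul_add, mul_add, smul_mul_smul_comm, smul_mul_smul_comm, smul_mul_smul_comm, smul_mul_smul_comm,
          hjj, Matrix.one_mul, Matrix.one_mul, Matrix.mul_one] at e2
        linear_combination (norm := module) e2
      have hns : ∀ c : F, j ≠ c • (1 : Mat) := fun c ec => by
        refine hi c ?_
        rw [ec, smul_mul_smul_comm, Matrix.mul_one, ← neg_one_smul F (1 : Mat)] at hjj
        haveI : Nonempty (Fin m ⊕ Fin m) := ⟨Sum.inl ⟨0, by omega⟩⟩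
        exact smul_left_injective F one_ne_zero hjj
      have hab : α * β = 0 := by
        by_contra hne
        refine hns (-(α * α - β * β + 1) / (2 * (α * β))) ?_
        rw [div_eq_inv_mul, mul_smul, neg_smul, eq_neg_of_add_eq_zero_left e3, neg_neg, inv_smul_smul₀ (mul_ne_zero h2 hne)]
      rw [hab, mul_zero, zero_smul, add_zero] at e3
      haveI : Nonempty (Fin m ⊕ Fin m) := ⟨Sum.inl ⟨0, by omega⟩⟩
      have e4 : α * α - β * β + 1 = 0 := (smul_eq_zero.1 e3).resolve_right one_ne_zero
      have hα : α = 0 := (mul_eq_zero.1 hab).resolve_right fun hb => hi α (by rw [hb] at e4; linear_combination e4)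
      rw [hα, zero_smul, zero_add] at e
      have hb2 : β * β = 1 := by rw [hα] at e4; linear_combination -e4
      rcases mul_self_eq_one_iff.1 hb2 with rfl | rfl
      · left; rw [e, one_smul]
      · right; rw [e, neg_one_smul, Matrix.neg_mul]

end CfsgLib.QubitMax
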