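import Cfsg.Agent.Lib.QubitMax.Lifts
import Cfsg.Agent.Lib.QubitMax.SpLeaf

/-!
The normaliser of a minus type extraspecial group is maximal in the symplectic group.
-/

set_option autoImplicit false
set_option linter.unusedSectionVars false

namespace CfsgLib.QubitMax

open Matrix
open CfsgLib.Classical
open CfsgLib.EightMax (sg2)
open Cfsg.Geo (subgroupNormalizer IsMaximalIn IsSymplecticTypeGroup ActsAbsolutelyIrreducibly matrixSet)

/-- A unipotent matrix in odd characteristic has determinant one. -/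
theorem det_one_of_sq_zero {K : Type*} [Field K] {κ : Type*} [Fintype κ] [DecidableEq κ]
    {p : ℕ} [Fact p.Prime] [CharP K p] (hp2 : p ≠ 1) {a : Matrix κ κ K} (ha : (a - 1) * (a - 1) = 0) : a.det = 1 := by
  rcases isEmpty_or_nonempty κ with hκ | hκ
  · exact Matrix.det_isEmpty
  have h1 : a ^ p = 1 := by
    rw [show a = 1 + (a - 1) by rw [add_sub_cancel], add_pow_char_of_commute (R := Matrix κ κ K) p (Commute.one_left _),
      one_pow, pow_eq_zero_of_le (Fact.out : p.Prime).two_le (by rw [pow_two]; exact ha), add_zero]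
  have h2 : (a.det - 1) ^ p = 0 := by rw [sub_pow_char, ← det_pow, h1, det_one, one_pow, sub_self]
  exact sub_eq_zero.1 (eq_zero_of_pow_eq_zero h2)

variable {F : Type*} [Field F] [Fintype F] {m : ℕ}

local notation "Mat" => Matrix (Fin m ⊕ Fin m) (Fin m ⊕ Fin m) F

theorem mem_spGL_iff_iso {g : GL (Fin m ⊕ Fin m) F} : g ∈ Cfsg.spGL m F ↔
    (g : Mat)ᵀ * Matrix.J (Fin m) F * (g : Mat) = Matrix.J (Fin m) F := by
  rw [← SymplecticGroup.mem_iff', SympTrans.mem_iff_f]
  exact Iff.rfl

theorem det_spGL {g : GL (Fin m ⊕ Fin m) F} (hg : g ∈ Cfsg.spGL m F) : (g : Mat).det = 1 := by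
  obtain ⟨p, hp⟩ := CharP.exists F
  haveI : Fact p.Prime := ⟨CharP.char_is_prime F p⟩
  obtain ⟨s, hs⟩ := SympTrans.toSpGL_surjective (⟨g, hg⟩ : Cfsg.spGL m F)
  have hmem : s ∈ SympTrans.gen (Set.univ : Set (Fin m ⊕ Fin m → F)) := by rw [SympTrans.gen_univ]; trivial
  rw [← show ((SympTrans.toSpGL s : Cfsg.spGL m F) : GL (Fin m ⊕ Fin m) F) = g from congrArg Subtype.val hs,
    SympTrans.toSpGL_coe]
  clear hs
  induction hmem using Subgroup.closure_induction with
  | mem x hx =>
    obtain ⟨v, -, c, rfl⟩ := hx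
    refine det_one_of_sq_zero (p := p) (Fact.out : p.Prime).ne_one (Matrix.ext_iff_mulVec.2 fun x => ?_)
    have e : ∀ z, ((SympTrans.T v c : Matrix.symplecticGroup (Fin m) F).1 - 1) *ᵥ z =
        SympTrans.app (SympTrans.T v c) z - z := fun z => by rw [sub_mulVec, one_mulVec]; rfl
    rw [← mulVec_mulVec, e, e, SympTrans.app_T, SympTrans.app_T, zero_mulVec]
    simp [SympTrans.f_add_left, SympTrans.f_smul_left, SympTrans.f_self, SympTrans.f_sub_left]
  | one => simp
  | mul x y _ _ hx hy => rw [Submonoid.coe_mul, det_mul, hx, hy, one_mul]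
  | inv x _ hx =>
    have h1 : (x.1 * (x⁻¹).1).det = 1 := by rw [← Submonoid.coe_mul, mul_inv_cancel]; simp
    rwa [det_mul, hx, one_mul] at h1

/-- **The normaliser of a minus type extraspecial group is maximal in the symplectic group.** -/
theorem sp_normalizer_maximal' (hm : 4 ≤ m) {p k : ℕ} (hp : p.Prime) (hpo : Odd p) (hF : Fintype.card F = p)
    (R : Subgroup (GL (Fin m ⊕ Fin m) F)) (hR : IsSymplecticTypeGroup 2 R)
    (hirr : ActsAbsolutelyIrreducibly (matrixSet R)) (hRD : R ≤ Cfsg.spGL m F)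
    (hcard : Nat.card R = 2 ^ (1 + 2 * k)) (hZ : Nat.card (Subgroup.center R) = 2)
    (hok : 4 ≤ k ∨ Cfsg.Geo.IsOfMinusType k R) :
    IsMaximalIn (Cfsg.spGL m F) (subgroupNormalizer R ⊓ Cfsg.spGL m F) := by
  classical
  haveI : Nonempty (Fin m ⊕ Fin m) := ⟨Sum.inl ⟨0, by omega⟩⟩
  haveI : Fact p.Prime := ⟨hp⟩
  haveI : CharP F p := charP_of_card_eq_prime hF
  have h2 : (2 : F) ≠ 0 := Ring.two_ne_zero (by
    rw [ringChar.eq F p]
    rintro rfl
    exact absurd hpo (by decide))
  obtain ⟨V, _, s, X, q, h⟩ := exists_sympFrame h2 hR hirr hcard hZ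
  have hk : 3 ≤ k := by
    by_contra hk
    have := h.dim
    rw [Fintype.card_sum, Fintype.card_fin] at this
    have := Nat.pow_le_pow_right two_pos (show k ≤ 2 by omega)
    omega
  have hq := h.quad hk hok
  obtain ⟨v, hv⟩ := exists_ne (0 : Fin m ⊕ Fin m → F)
  refine h.isMaximalIn_of_leaf hq (by omega) (Matrix.isUnit_det_J (Fin m) F).ne_zero (Or.inr rfl)
    (by rw [Matrix.J_transpose, neg_one_smul]) hp hpo (Nat.card_eq_fintype_card.trans hF)
    (fun r hr => mem_spGL_iff_iso.1 (hRD hr)) (fun g hg => mem_spGL_iff_iso.1 hg) (fun g hg => det_spGL hg)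
    (fun g hg => mul_mem (mem_spGL_iff_iso.2 hg) (mem_spGL_iff_iso.2 hg))
    (SympTrans.toSpGL (SympTrans.T v 1)).2 (fun L hL => ?_) fun M hM x hx hqx hun hσ hmove => ?_
  · have hone := h.fm.eq_one_of_act' (r := 1) (by rw [Fintype.card_sum, Fintype.card_fin]; omega) (Units.isUnit _) hL (by
      refine (Submodule.finrank_mono (?_ : _ ≤ Submodule.span F {v})).trans
        ((finrank_span_le_card _).trans (by simp))
      rintro _ ⟨z, rfl⟩
      rw [mulVecLin_apply, sub_mulVec, one_mulVec, SympTrans.toSpGL_coe]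
      rw [show (SympTrans.T v 1 : Matrix.symplecticGroup (Fin m) F).1 *ᵥ z = SympTrans.app (SympTrans.T v 1) z from rfl,
        SympTrans.app_T, add_sub_cancel_left]
      exact Submodule.smul_mem _ _ (Submodule.mem_span_singleton_self _))
    obtain ⟨z, hz⟩ : ∃ z, Cfsg.sympForm m F z v ≠ 0 := by
      by_contra hno
      push Not at hno
      exact hv (SympTrans.eq_zero_of_f v fun y => by rw [SympTrans.f_swap, hno, neg_zero])
    have := SympTrans.app_T v 1 z
    rw [SympTrans.toSpGL_coe] at hone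
    rw [show SympTrans.app (SympTrans.T v 1) z = z by show _ *ᵥ z = z; rw [hone, one_mulVec], one_mul] at this
    exact hz ((smul_eq_zero.1 (left_eq_add.1 this)).resolve_right hv)
  · obtain ⟨σ, hσM, hσj⟩ := hσ
    refine sp_leaf (by omega) h2 hM (j := X x) ?_ ?_ hun hσM hσj hmove
    · rw [h.sq, hqx, EightMax.sg2_one, neg_one_smul]
    · obtain ⟨r, hr, er⟩ := h.mem x
      intro a b
      rw [← er]
      exact hRD hr a b

/-- **The normaliser of a minus type extraspecial group is maximal in the symplectic group, degree fourteen or more.** -/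
theorem sp_normalizer_maximal (hm : 7 ≤ m) {p k : ℕ} (hp : p.Prime) (hpo : Odd p) (hF : Fintype.card F = p)
    (R : Subgroup (GL (Fin m ⊕ Fin m) F)) (hR : IsSymplecticTypeGroup 2 R)
    (hirr : ActsAbsolutelyIrreducibly (matrixSet R)) (hRD : R ≤ Cfsg.spGL m F)
    (hcard : Nat.card R = 2 ^ (1 + 2 * k)) (hZ : Nat.card (Subgroup.center R) = 2) :
    IsMaximalIn (Cfsg.spGL m F) (subgroupNormalizer R ⊓ Cfsg.spGL m F) := by
  classical
  haveI : Nonempty (Fin m ⊕ Fin m) := ⟨Sum.inl ⟨0, by omega⟩⟩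
  haveI : Fact p.Prime := ⟨hp⟩
  haveI : CharP F p := charP_of_card_eq_prime hF
  have h2 : (2 : F) ≠ 0 := Ring.two_ne_zero (by
    rw [ringChar.eq F p]
    rintro rfl
    exact absurd hpo (by decide))
  obtain ⟨V, _, s, X, q, h⟩ := exists_sympFrame h2 hR hirr hcard hZ
  refine sp_normalizer_maximal' (by omega) hp hpo hF R hR hirr hRD hcard hZ (Or.inl ?_)
  by_contra hk
  have := h.dim
  rw [Fintype.card_sum, Fintype.card_fin] at this
  have := Nat.pow_le_pow_right two_pos (show k ≤ 3 by omega)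
  omega

end CfsgLib.QubitMax
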