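import Cfsg.Agent.Lib.QubitMax.SmallBlock
import Cfsg.Agent.Lib.QubitMax.Amb
import Cfsg.Agent.Lib.QubitMax.Small

/-!
The dichotomy for the ambient groups on twice as many points.
-/

set_option autoImplicit false
set_option linter.unusedSectionVars false
set_option maxHeartbeats 1000000

namespace CfsgLib.QubitMax

open Matrix
open CfsgLib.EightMax (Sform Isom tr tr_one tr_zero z2 sg2 sg2_zero sg2_one sg2_self sg2_ne sg2_add sg2_inj exists_sg2)
open CfsgLib.ClassicalAut (Unitary.Conj)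

variable {F : Type} [Field F] [Finite F]

/-- A group containing the normaliser of a frame is everything or acts on the frame. -/
def Dich {p : ℕ} (k : Kd F p) (h : ℕ) : Prop :=
  ∀ (V : Type) [AddCommGroup V] (s : V → V → ZMod 2) (X : V → Matrix (Fin h) (Fin h) F), Nice k s X →
    ∀ P : Subgroup (GL (Fin h) F), P ≤ k.amb h →
      (∀ g ∈ k.amb h, (∃ L, Act X (g : Matrix (Fin h) (Fin h) F) L) → g ∈ P) →
      P = k.amb h ∨ ∀ g ∈ P, ∃ L, Act X (g : Matrix (Fin h) (Fin h) F) L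

/-- Units with a given matrix. -/
theorem exists_unit {n : ℕ} {A B : Matrix (Fin n) (Fin n) F} (h1 : A * B = 1) :
    ∃ g : GL (Fin n) F, (g : Matrix (Fin n) (Fin n) F) = A ∧ ((g⁻¹ : GL (Fin n) F) : Matrix (Fin n) (Fin n) F) = B :=
  ⟨⟨A, B, h1, mul_eq_one_comm.1 h1⟩, rfl, rfl⟩

theorem Kd.uni_conj {p n : ℕ} (k : Kd F p) {g : Matrix (Fin n) (Fin n) F} {B B' : Matrix (Fin n) (Fin n) F}
    (hB : k.Uni B) (h1 : B * B' = 1) (hg : k.Uni g) : k.Uni (B' * g * B) :=
  k.uni_mul (k.uni_mul (k.uni_inv hB h1) hg) hB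

theorem det_conj {n : ℕ} {g B B' : Matrix (Fin n) (Fin n) F} (h1 : B * B' = 1) : (B' * g * B).det = g.det := by
  rw [det_mul, det_mul, mul_right_comm, ← det_mul, mul_eq_one_comm.1 h1, det_one, one_mul]

namespace Corner

variable {p n h : ℕ} {k : Kd F p} {e : Fin n ≃ Fin h ⊕ Fin h} {V : Type} [AddCommGroup V]
  {s : V → V → ZMod 2} {X : V → Matrix (Fin n) (Fin n) F} {x y : V} {γ : F} (c : Corner k e s X x y γ)
  {M : Subgroup (GL (Fin n) F)}
include c

theorem exists_ne : ∃ u : c.perp2, u ≠ 0 := by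
  by_contra hno
  push Not at hno
  haveI : Subsingleton c.perp2 := ⟨fun a b => (hno a).trans (hno b).symm⟩
  have h1 : Nat.card c.perp2 ≤ 1 := (Nat.card_of_subsingleton (0 : c.perp2)).le
  rw [c.card_perp2] at h1
  have := c.four
  have := c.pos
  have : 16 ≤ h * h := by
    have : 4 ≤ h := Nat.le_of_dvd c.pos c.four
    nlinarith
  omega

theorem in_diag [Fintype F] (hcont : ∀ g ∈ k.amb n, (∃ L, Act X (g : Matrix (Fin n) (Fin n) F) L) → g ∈ M)
    {a : GL (Fin h) F} (ha : a ∈ k.amb h) (hL : ∃ L, Act c.blkY (a : Matrix (Fin h) (Fin h) F) L) :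
    ∃ g ∈ M, (g : Matrix (Fin n) (Fin n) F) = blk e a a := by
  obtain ⟨g, hg, eg⟩ := k.gl_of (A := blk e (a : Matrix (Fin h) (Fin h) F) a) (by rw [blk_det, ha.1, one_mul])
    ((uni_blk_iff e _ _ k).2 ⟨ha.2, ha.2⟩)
  obtain ⟨L, hL⟩ := hL
  exact ⟨g, hcont g hg (eg ▸ c.act_diag hL), eg⟩

/-- Small blocks keep both halves in the frame. -/
theorem halved_of_small (hsmall : ∀ (a : GL (Fin h) F) (b : Matrix (Fin h) (Fin h) F),
      (∃ g ∈ M, (g : Matrix (Fin n) (Fin n) F) = blk e a b) → ∃ L, Act c.blkY (a : Matrix (Fin h) (Fin h) F) L)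
    {g : GL (Fin n) F} (hg : g ∈ M) (hgx : (g : Matrix (Fin n) (Fin n) F) * X x = X x * (g : Matrix (Fin n) (Fin n) F)) :
    Halved s X x γ (g : Matrix (Fin n) (Fin n) F) := by
  classical
  haveI := c.nezero
  haveI := c.nezero'
  obtain ⟨a, b, eab⟩ := exists_blk e c.two (A := (g : Matrix (Fin n) (Fin n) F)) (by
    rw [← c.hx, Matrix.mul_smul, Matrix.smul_mul, hgx])
  have hd : a.det ≠ 0 := by
    intro e0
    have := congrArg Matrix.det g.mul_inv
    rw [det_mul, eab, blk_det, e0, zero_mul, zero_mul, det_one] at this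
    exact zero_ne_one this
  obtain ⟨L, hL⟩ := hsmall (GeneralLinearGroup.mkOfDetNeZero a hd) b ⟨g, hg, eab⟩
  have inW : ∀ w : c.perp2, Hr X (hf X x γ) (g : Matrix (Fin n) (Fin n) F) w (L w : V) := by
    intro w
    obtain ⟨d, hd'⟩ := hL w
    refine ⟨d, c.block_nice.fm.scalar_ne (GeneralLinearGroup.mkOfDetNeZero a hd).isUnit hd', ?_⟩
    rw [c.hf_eq, eab, c.X_eq, c.X_eq, blk_mul, blk_mul, blk_mul, blk_mul, blk_smul, Matrix.zero_mul,
      Matrix.zero_mul, smul_zero, Matrix.one_mul, Matrix.one_mul]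
    exact congrArg (fun A => blk e A 0) hd'
  intro w hw
  obtain ⟨w', i, j, ew, -, hj⟩ := c.split w
  have hj0 : j = 0 := hj.symm.trans hw
  rw [hj0, if_neg (zero_ne_one : (0 : ZMod 2) ≠ 1), add_zero] at ew
  by_cases hi : i = 1
  · rw [if_pos hi] at ew
    refine ⟨(L w' : V) + x, by rw [c.nice.fm.form.add_left, (L w').2.1, c.nice.fm.form.alt, add_zero], ?_⟩
    rw [ew]
    exact c.side.hr_mul (L w').2.1 (inW w') (hr_of_act _ one_ne_zero (by rw [one_smul]; exact hgx))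
  · rw [if_neg hi, add_zero] at ew
    exact ⟨(L w' : V), (L w').2.1, ew ▸ inW w'⟩

/-- Large blocks give everything. -/
theorem top_of_big [Fintype F] (hk : k.Good) (hM : M ≤ k.amb n)
    (hcont : ∀ g ∈ k.amb n, (∃ L, Act X (g : Matrix (Fin n) (Fin n) F) L) → g ∈ M)
    (hbig : ∀ a ∈ k.amb h, ∃ (g : GL (Fin n) F) (b : Matrix (Fin h) (Fin h) F), g ∈ M ∧
      (g : Matrix (Fin n) (Fin n) F) = blk e a b) : M = k.amb n := by
  classical
  haveI := c.nezero
  haveI := c.nezero'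
  haveI : Finite (GL (Fin h) F) := Finite.of_injective _ Units.val_injective
  have h4 : 4 ≤ h := Nat.le_of_dvd c.pos c.four
  have hn4 : 4 ∣ n := by have := c.card_n; have := c.four; omega
  have hn8 : 8 ∣ n := by have := c.card_n; have := c.four; omega
  have hb := c.block_nice
  obtain ⟨sw, hsw, esw⟩ := c.nice.mem hk hn4 y
  rw [c.hy] at esw
  have hswM : sw ∈ M := hcont sw hsw (by rw [esw, ← c.hy]; exact ⟨_, c.nice.fm.act_X y⟩)
  have flip : ∀ {g : GL (Fin n) F} {a b : Matrix (Fin h) (Fin h) F}, g ∈ M →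
      (g : Matrix (Fin n) (Fin n) F) = blk e a b → ∃ g' ∈ M, (g' : Matrix (Fin n) (Fin n) F) = blk e b a :=
    fun {g a b} hg eg => ⟨sw * g * sw, mul_mem (mul_mem hswM hg) hswM, by
      rw [Units.val_mul, Units.val_mul, esw, eg, swp_blk, Matrix.mul_assoc, swp_sq, Matrix.mul_one]⟩
  obtain ⟨K, hK⟩ : ∃ K : Subgroup (GL (Fin h) F), ∀ b, b ∈ K ↔ b ∈ k.amb h ∧
      ∃ g ∈ M, (g : Matrix (Fin n) (Fin n) F) = blk e 1 (b : Matrix (Fin h) (Fin h) F) := by
    refine ⟨{ carrier := {b | b ∈ k.amb h ∧ ∃ g ∈ M, (g : Matrix (Fin n) (Fin n) F) = blk e 1 b}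
              one_mem' := ⟨one_mem _, 1, one_mem _, by rw [Units.val_one, Units.val_one, blk_one]⟩
              mul_mem' := ?_, inv_mem' := ?_ }, fun b => Iff.rfl⟩
    · rintro b b' ⟨hb1, g, hg, eg⟩ ⟨hb2, g', hg', eg'⟩
      exact ⟨mul_mem hb1 hb2, g * g', mul_mem hg hg', by
        rw [Units.val_mul, Units.val_mul, eg, eg', blk_mul, one_mul]⟩
    · rintro b ⟨hb1, g, hg, eg⟩
      refine ⟨inv_mem hb1, g⁻¹, inv_mem hg, ?_⟩
      refine g.isUnit.mul_left_cancel ?_
      rw [Units.mul_inv, eg, blk_mul, one_mul, Units.mul_inv, blk_one]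
  have hK1 : K = k.amb h := by
    obtain ⟨u, hu⟩ := c.exists_ne
    obtain ⟨U, hU, eU⟩ := hb.mem hk c.four u
    have hUK : U ∈ K := by
      obtain ⟨g, hg, eg⟩ := k.gl_of (A := blk e (1 : Matrix (Fin h) (Fin h) F) (c.blkY u))
        (by rw [blk_det, det_one, one_mul, ← eU, hU.1])
        ((uni_blk_iff e _ _ k).2 ⟨k.uni_one, eU ▸ hU.2⟩)
      exact (hK U).2 ⟨hU, g, hcont g hg (eg ▸ c.act_ctrl u), by rw [eg, eU]⟩
    refine k.normal_top hk (by omega) (fun b hb' => ((hK b).1 hb').1) (fun a ha b hb' => ?_) hUK ?_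
    · obtain ⟨hbA, g, hg, eg⟩ := (hK b).1 hb'
      obtain ⟨g1, a', hg1, eg1⟩ := hbig a ha
      obtain ⟨g2, hg2, eg2⟩ := flip hg1 eg1
      refine (hK _).2 ⟨mul_mem (mul_mem ha hbA) (inv_mem ha), g2 * g * g2⁻¹,
        mul_mem (mul_mem hg2 hg) (inv_mem hg2), ?_⟩
      rw [Units.val_mul, Units.val_mul, eg2, eg, blk_mul, Matrix.mul_one]
      refine g2.isUnit.mul_left_injective ?_
      show blk e a' ((a : Matrix (Fin h) (Fin h) F) * b) * _ * (g2 : Matrix (Fin n) (Fin n) F) = _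
      beta_reduce
      rw [Matrix.mul_assoc, Units.inv_mul, Matrix.mul_one, eg2, blk_mul, one_mul, Units.val_mul, Units.val_mul,
        Matrix.mul_assoc, Units.inv_mul, Matrix.mul_one]
    · rintro ⟨t, et⟩
      rw [eU, ← hb.fm.one] at et
      exact hu (hb.fm.inj et)
  have sl : ∀ g ∈ k.amb n, ∀ a b, (g : Matrix (Fin n) (Fin n) F) = blk e a b → a.det = 1 → g ∈ M := by
    intro g hg a b eg ha
    have hbd : b.det = 1 := by
      have := hg.1
      rwa [eg, blk_det, ha, one_mul] at this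
    obtain ⟨ua, ub⟩ := (uni_blk_iff e a b k).1 (eg ▸ hg.2)
    obtain ⟨a', ha', ea⟩ := k.gl_of ha ua
    obtain ⟨b', hb', eb⟩ := k.gl_of hbd ub
    obtain ⟨-, g1, hg1, eg1⟩ := (hK a').1 (hK1 ▸ ha')
    obtain ⟨-, g2, hg2, eg2⟩ := (hK b').1 (hK1 ▸ hb')
    obtain ⟨g3, hg3, eg3⟩ := flip hg1 eg1
    have : g = g3 * g2 := Units.ext (by rw [Units.val_mul, eg, eg3, eg2, blk_mul, one_mul, Matrix.mul_one, ea, eb])
    exact this ▸ mul_mem hg3 hg2
  -- a member moving `x` into the block frame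
  obtain ⟨v, hv⟩ := c.exists_ne
  have hv' : (v : V) ≠ 0 := fun e0 => hv (Subtype.ext e0)
  have hvx : (v : V) ≠ x := fun e0 => by
    have := v.2.2
    rw [e0, c.xy] at this
    exact absurd this (by decide)
  obtain ⟨m, hm, L, hL, hLx⟩ := pair_transitive c.nice.fm.form
    (fun z => ∃ m ∈ M, ∃ L, Act X (m : Matrix (Fin n) (Fin n) F) L ∧ L x = z)
    (fun a b z ha hb' ⟨m, hm, L, hL, e0⟩ => by
      obtain ⟨g, hg, hgL⟩ := c.nice.exists_pair_lift hk hn4 (Or.inl ⟨ha, hb'⟩)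
      exact ⟨g * m, mul_mem (hcont g hg ⟨_, hgL⟩) hm, _, by rw [Units.val_mul]; exact hgL.comp hL,
        by simp only [Function.comp_apply, e0]⟩)
    c.x0 ⟨1, one_mem M, id, by rw [Units.val_one]; exact act_one X, rfl⟩ hv'
  obtain ⟨σ, hσ⟩ := hL x
  rw [hLx] at hσ
  have hσ2 : σ * σ = 1 := by
    have e2 : (m : Matrix (Fin n) (Fin n) F) * (X x * X x) =
        (σ * σ) • (X v * X v * (m : Matrix (Fin n) (Fin n) F)) := by
      rw [← Matrix.mul_assoc, hσ, Matrix.smul_mul, Matrix.mul_assoc, hσ, Matrix.mul_smul, smul_smul, Matrix.mul_assoc]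
    rw [c.nice.sq1, c.nice.sq1, Matrix.mul_one, Matrix.one_mul] at e2
    exact smul_left_injective F m.isUnit.ne_zero (by show (σ * σ) • _ = (1 : F) • _; rw [← e2, one_smul])
  obtain ⟨η, hη⟩ : ∃ η, η = γ * σ := ⟨_, rfl⟩
  have hηη : η * η = 1 := by rw [hη, show γ * σ * (γ * σ) = (γ * γ) * (σ * σ) by ring, c.gam, hσ2, one_mul]
  have full : ∀ g ∈ k.amb n, (g : Matrix (Fin n) (Fin n) F) * X v = X v * (g : Matrix (Fin n) (Fin n) F) →
      hf X v (-η) * (g : Matrix (Fin n) (Fin n) F) = hf X v (-η) → g ∈ M := by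
    intro g hg hgv hgf
    obtain ⟨g', hg'⟩ : ∃ g', g' = m⁻¹ * g * m := ⟨_, rfl⟩
    have hm1 : (m : Matrix (Fin n) (Fin n) F) * hf X x (-γ) = hf X v (-η) * (m : Matrix (Fin n) (Fin n) F) := by
      rw [hf, hf, Matrix.mul_smul, Matrix.smul_mul, Matrix.mul_add, Matrix.add_mul, Matrix.mul_one, Matrix.one_mul,
        Matrix.mul_smul, Matrix.smul_mul, hσ, smul_smul, hη, neg_mul]
    have hm2 : (m : Matrix (Fin n) (Fin n) F) * ((g' : GL (Fin n) F) : Matrix (Fin n) (Fin n) F) =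
        (g : Matrix (Fin n) (Fin n) F) * m := by
      rw [← Units.val_mul, ← Units.val_mul, hg', ← mul_assoc, ← mul_assoc, mul_inv_cancel, one_mul]
    have hg'x : (g' : Matrix (Fin n) (Fin n) F) * X x = X x * (g' : Matrix (Fin n) (Fin n) F) := by
      refine m.isUnit.mul_left_cancel ?_
      rw [← Matrix.mul_assoc, hm2, Matrix.mul_assoc, hσ, Matrix.mul_smul, ← Matrix.mul_assoc, hgv,
        ← Matrix.mul_assoc, hσ, Matrix.smul_mul, Matrix.mul_assoc, Matrix.mul_assoc, hm2]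
    have hg'f : hf X x (-γ) * (g' : Matrix (Fin n) (Fin n) F) = hf X x (-γ) := by
      refine m.isUnit.mul_left_cancel ?_
      rw [← Matrix.mul_assoc, hm1, Matrix.mul_assoc, hm2, ← Matrix.mul_assoc, hgf]
    obtain ⟨a, b, eab⟩ := exists_blk e c.two (A := (g' : Matrix (Fin n) (Fin n) F)) (by
      rw [← c.hx, Matrix.mul_smul, Matrix.smul_mul, hg'x])
    rw [c.hf_neg_eq, eab, blk_mul, Matrix.one_mul] at hg'f
    have hb1 : b = 1 := (blk_inj e hg'f).2
    have hg'A : g' ∈ k.amb n := hg' ▸ mul_mem (mul_mem (inv_mem (hM hm)) hg) (hM hm)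
    have : g' ∈ M := sl g' hg'A a b eab (by
      have := hg'A.1
      rwa [eab, blk_det, hb1, det_one, mul_one] at this)
    have := mul_mem (mul_mem hm this) (inv_mem hm)
    rwa [hg', ← mul_assoc, ← mul_assoc, mul_inv_cancel, one_mul, mul_inv_cancel_right] at this
  -- coordinates adapted to that member of the block frame
  obtain ⟨z, hz⟩ := hb.fm.form.exists_one hv
  obtain ⟨h', e', C, C', hC, hCC, eC, -⟩ := exists_coord hk hb hz hηη
  have hh' : 0 < h' := by
    have := Fintype.card_congr e'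
    rw [Fintype.card_sum, Fintype.card_fin, Fintype.card_fin] at this
    omega
  have hC'C := mul_eq_one_comm.1 hCC
  obtain ⟨r₀⟩ : Nonempty (Fin h') := ⟨⟨0, hh'⟩⟩
  refine blocks_top k hk e h4 hM (fun g hg ⟨a, b, eg⟩ => ?_) hswM esw hm ?_
  · -- correct the determinant of the first block
    obtain ⟨ua, -⟩ := (uni_blk_iff e a b k).1 (eg ▸ hg.2)
    have hd0 : a.det ≠ 0 := fun e0 => by
      have := hg.1
      rw [eg, blk_det, e0, zero_mul] at this
      exact zero_ne_one this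
    have hD : ∀ t : F, (∀ K, k = .unit K → K.bar t * t = 1) →
        k.Uni (Matrix.diagonal (Function.update (1 : Fin h' → F) r₀ t)) := fun t ht => by
      cases k with
      | lin => trivial
      | unit K =>
        show Pauli.adj K (Matrix.diagonal (Function.update (1 : Fin h' → F) r₀ t)) * _ = 1
        rw [Pauli.adj, Matrix.diagonal_map (map_zero _), Matrix.diagonal_transpose, Matrix.diagonal_mul_diagonal,
          ← Matrix.diagonal_one]
        congr 1
        funext r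
        by_cases hr : r = r₀
        · subst hr; simp [ht K rfl]
        · simp [Function.update_of_ne hr]
    have hdet : ∀ t : F, (Matrix.diagonal (Function.update (1 : Fin h' → F) r₀ t)).det = t := fun t => by
      rw [Matrix.det_diagonal, Finset.prod_update_of_mem (Finset.mem_univ _)]
      simp
    have hnorm : ∀ K, k = .unit K → K.bar a.det * a.det = 1 := fun K e0 => by
      subst e0
      have := congrArg Matrix.det (show Pauli.adj K a * a = 1 from ua)
      rwa [det_mul, Pauli.det_adj, det_one] at this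
    have hnorm' : ∀ K, k = .unit K → K.bar a.det⁻¹ * a.det⁻¹ = 1 := fun K e0 => by
      rw [map_inv₀, ← mul_inv, hnorm K e0, inv_one]
    obtain ⟨d, hd⟩ : ∃ d, d = C * blk e' (Matrix.diagonal (Function.update 1 r₀ a.det⁻¹)) 1 * C' := ⟨_, rfl⟩
    obtain ⟨d', hd'⟩ : ∃ d', d' = C * blk e' (Matrix.diagonal (Function.update 1 r₀ a.det)) 1 * C' := ⟨_, rfl⟩
    have dd : d.det = a.det⁻¹ := by rw [hd, det_conj hC'C, blk_det, hdet, det_one, mul_one]
    have dd' : d'.det = a.det := by rw [hd', det_conj hC'C, blk_det, hdet, det_one, mul_one]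
    have ud : k.Uni d := hd ▸ k.uni_conj (k.uni_inv hC hCC) hC'C ((uni_blk_iff e' _ _ k).2 ⟨hD _ hnorm', k.uni_one⟩)
    have ud' : k.Uni d' := hd' ▸ k.uni_conj (k.uni_inv hC hCC) hC'C ((uni_blk_iff e' _ _ k).2 ⟨hD _ hnorm, k.uni_one⟩)
    have eY : η • c.blkY v = C * blk e' 1 (-1) * C' := by
      rw [← eC]
      simp only [Matrix.mul_assoc]
      rw [hCC, Matrix.mul_one, ← Matrix.mul_assoc, hCC, Matrix.one_mul]
    have eQ : (2 : F)⁻¹ • ((1 : Matrix (Fin h) (Fin h) F) + -η • c.blkY v) = C * blk e' 0 1 * C' := by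
      rw [neg_smul, eY, show (1 : Matrix (Fin h) (Fin h) F) = C * blk e' 1 1 * C' by rw [blk_one, Matrix.mul_one, hCC],
        ← Matrix.neg_mul, ← Matrix.mul_neg, blk_neg, ← Matrix.add_mul, ← Matrix.mul_add, blk_add, add_neg_cancel,
        neg_neg, ← two_smul F (1 : Matrix (Fin h') (Fin h') F), ← Matrix.smul_mul, ← Matrix.mul_smul, blk_smul,
        smul_zero, smul_smul, inv_mul_cancel₀ c.two, one_smul]
    have sand : ∀ A A' : Matrix (Fin h) (Fin h) F, C * A * C' * (C * A' * C') = C * (A * A') * C' := fun A A' => by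
      simp only [Matrix.mul_assoc]
      rw [← Matrix.mul_assoc C' C, hC'C, Matrix.one_mul]
    obtain ⟨g₀, hg₀, eg₀⟩ := k.gl_of (A := blk e d d') (by rw [blk_det, dd, dd', inv_mul_cancel₀ hd0])
      ((uni_blk_iff e _ _ k).2 ⟨ud, ud'⟩)
    have hcomm : ∀ D, C * blk e' D 1 * C' * c.blkY v = c.blkY v * (C * blk e' D 1 * C') := fun D => by
      have hv1 : c.blkY v = η • (η • c.blkY v) := by rw [smul_smul, hηη, one_smul]
      rw [hv1, eY, Matrix.mul_smul, Matrix.smul_mul, sand, sand, blk_mul, blk_mul]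
      simp
    have hfix : ∀ D, C * blk e' 0 1 * C' * (C * blk e' D 1 * C') = C * blk e' 0 1 * C' := fun D => by
      rw [sand, blk_mul, Matrix.zero_mul, Matrix.one_mul]
    have hg₀M : g₀ ∈ M := full g₀ hg₀ (by
        rw [eg₀, c.X_eq, blk_mul, blk_mul, hd, hd', hcomm, hcomm]) (by
        rw [eg₀, hf, c.X_eq, ← blk_one e, blk_smul, blk_add, blk_smul, eQ, blk_mul, hd, hd', hfix, hfix])
    have : g * g₀ ∈ M := sl _ (mul_mem hg hg₀) (a * d) (b * d') (by rw [Units.val_mul, eg, eg₀, blk_mul])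
      (by rw [det_mul, dd, mul_inv_cancel₀ hd0])
    have := mul_mem this (inv_mem hg₀M)
    rwa [mul_inv_cancel_right] at this
  · intro hcases
    apply hvx
    obtain ⟨τ, hτ⟩ : ∃ τ : F, (m : Matrix (Fin n) (Fin n) F) * X x = τ • (X x * (m : Matrix (Fin n) (Fin n) F)) := by
      rcases hcases with e1 | e1
      · exact ⟨1, by rw [c.X_x, Matrix.mul_smul, Matrix.smul_mul, e1, one_smul]⟩
      · exact ⟨-1, by rw [c.X_x, Matrix.mul_smul, Matrix.smul_mul, e1, neg_one_smul, smul_neg]⟩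
    rw [hσ, ← Matrix.smul_mul, ← Matrix.smul_mul] at hτ
    exact c.nice.fm.inj (c := σ⁻¹ * τ) (by
      rw [mul_smul, ← m.isUnit.mul_left_injective hτ,
        inv_smul_smul₀ (fun e0 : σ = 0 => by rw [e0, mul_zero] at hσ2; exact zero_ne_one hσ2)])

/-- One member of the frame: everything, or halved. -/
theorem dich [Fintype F] (hk : k.Good) (hd : Dich k h) (hM : M ≤ k.amb n)
    (hcont : ∀ g ∈ k.amb n, (∃ L, Act X (g : Matrix (Fin n) (Fin n) F) L) → g ∈ M) :
    M = k.amb n ∨ ∀ g ∈ M, (g : Matrix (Fin n) (Fin n) F) * X x = X x * (g : Matrix (Fin n) (Fin n) F) →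
      Halved s X x γ (g : Matrix (Fin n) (Fin n) F) := by
  classical
  haveI := c.nezero
  haveI := c.nezero'
  obtain ⟨B, hB⟩ : ∃ B : Subgroup (GL (Fin h) F), ∀ a, a ∈ B ↔
      ∃ (g : GL (Fin n) F) (b : Matrix (Fin h) (Fin h) F), g ∈ M ∧ (g : Matrix (Fin n) (Fin n) F) = blk e a b := by
    refine ⟨{ carrier := {a | ∃ (g : GL (Fin n) F) (b : Matrix (Fin h) (Fin h) F), g ∈ M ∧
                (g : Matrix (Fin n) (Fin n) F) = blk e (a : Matrix (Fin h) (Fin h) F) b}
              one_mem' := ⟨1, 1, one_mem _, by rw [Units.val_one, Units.val_one, blk_one]⟩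
              mul_mem' := ?_, inv_mem' := ?_ }, fun a => Iff.rfl⟩
    · rintro a a' ⟨g, b, hg, eg⟩ ⟨g', b', hg', eg'⟩
      exact ⟨g * g', b * b', mul_mem hg hg', by rw [Units.val_mul, Units.val_mul, eg, eg', blk_mul]⟩
    · rintro a ⟨g, b, hg, eg⟩
      have hdb : b.det ≠ 0 := fun e0 => by
        have := (hM hg).1
        rw [eg, blk_det, e0, mul_zero] at this
        exact zero_ne_one this
      refine ⟨g⁻¹, b⁻¹, inv_mem hg, g.isUnit.mul_left_cancel ?_⟩
      rw [Units.mul_inv, eg, blk_mul, Units.mul_inv, Matrix.mul_nonsing_inv _ (isUnit_iff_ne_zero.2 hdb), blk_one]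
  have hin : ∀ a ∈ k.amb h, (∃ L, Act c.blkY (a : Matrix (Fin h) (Fin h) F) L) → a ∈ B := fun a ha hL => by
    obtain ⟨g, hg, eg⟩ := c.in_diag hcont ha hL
    exact (hB a).2 ⟨g, _, hg, eg⟩
  rcases hd c.perp2 _ c.blkY c.block_nice (B ⊓ k.amb h) inf_le_right (fun g hg hL => ⟨hin g hg hL, hg⟩) with h1 | h1
  · refine Or.inl (c.top_of_big hk hM hcont fun a ha => (hB a).1 ?_)
    rw [← h1] at ha
    exact ha.1
  · refine Or.inr fun g hg hgx => c.halved_of_small (fun a b ⟨g', hg', eg'⟩ => ?_) hg hgx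
    refine small_all hk c.block_nice c.four c.pos B hin (fun a' ha' hd' => h1 a' ⟨ha', hd', ?_⟩) ((hB a).2 ⟨g', b, hg', eg'⟩)
    obtain ⟨g'', b', hg'', eg''⟩ := (hB a').1 ha'
    exact ((uni_blk_iff e _ _ k).1 (eg'' ▸ (hM hg'').2)).1

end Corner

/-- The dichotomy doubles. -/
theorem dich_step [Fintype F] {p : ℕ} {k : Kd F p} (hk : k.Good) {h : ℕ} (h4 : 4 ∣ h) (hpos : 0 < h)
    (hd : Dich k h) : Dich k (2 * h) := by
  classical
  intro V _ s X hX M hM hcont
  haveI : NeZero (2 * h) := ⟨by omega⟩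
  by_cases htop : M = k.amb (2 * h)
  · exact Or.inl htop
  refine Or.inr ?_
  obtain ⟨-, h2, i, hi, -⟩ := k.good_facts hk
  have hn4 : 4 ∣ 2 * h := by omega
  have base : Base s X (fun _ => (0 : ZMod 2)) 0 M := by
    refine ⟨hX.fm, ⟨hX.fm.form, fun a b => by simp, fun _ a => rfl, ?_, fun e0 => absurd e0 (by decide)⟩,
      fun v => ?_, fun a b _ _ => ?_, fun g _ u u' _ _ => rfl, fun a _ => ⟨i, ?_⟩⟩
    · rw [hX.fm.card, Fintype.card_fin]
      have : 4 ≤ h := Nat.le_of_dvd hpos h4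
      nlinarith
    · obtain ⟨g, hg, eg⟩ := hX.mem hk hn4 v
      exact ⟨g, hcont g hg (eg ▸ ⟨_, hX.fm.act_X v⟩), eg⟩
    · obtain ⟨g, hg, hL⟩ := hX.exists_pair_lift hk hn4 (a := a) (b := b) (Or.inr (by omega))
      exact ⟨g, hcont g hg ⟨_, hL⟩, hL⟩
    · rw [Matrix.smul_mul, Matrix.mul_smul, smul_smul, hi, hX.sq1, neg_one_smul]
  have hroot : ∀ v, v ≠ 0 → ∃ γ, Side s X v γ := fun v hv =>
    ⟨1, hX.fm, hv, one_ne_zero, by rw [one_smul, hX.sq1]⟩
  have hh : ∀ v γ, Side s X v γ → ∀ g ∈ M,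
      (g : Matrix (Fin (2 * h)) (Fin (2 * h)) F) * X v = X v * (g : Matrix (Fin (2 * h)) (Fin (2 * h)) F) →
      Halved s X v γ (g : Matrix (Fin (2 * h)) (Fin (2 * h)) F) := by
    intro v γ hS g hg hgv
    have hγ : γ * γ = 1 := by
      have := hS.sq
      rw [Matrix.smul_mul, Matrix.mul_smul, smul_smul, hX.sq1] at this
      exact smul_left_injective F (one_ne_zero (α := Matrix (Fin (2 * h)) (Fin (2 * h)) F))
        (by show (γ * γ) • _ = (1 : F) • _; rw [this, one_smul])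
    obtain ⟨y, hy⟩ := hX.fm.form.exists_one hS.x0
    obtain ⟨h', e, B, B', hB, hBB, e1, e2⟩ := exists_coord hk hX hy hγ
    have hh' : h' = h := by
      have := Fintype.card_congr e
      rw [Fintype.card_sum, Fintype.card_fin, Fintype.card_fin] at this
      omega
    subst hh'
    have hB'B := mul_eq_one_comm.1 hBB
    have c : Corner k e s (fun u => B' * X u * B) v y γ :=
      ⟨hX.conj hB hBB, h4, hpos, hy, hγ, by rw [← e1, Matrix.mul_smul, Matrix.smul_mul], e2⟩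
    obtain ⟨Bu, eBu, eBu'⟩ := exists_unit hBB
    obtain ⟨M', hM'⟩ : ∃ M', M' = M.map (MulAut.conj Bu⁻¹).toMonoidHom := ⟨_, rfl⟩
    have mem' : ∀ g', g' ∈ M' ↔ Bu * g' * Bu⁻¹ ∈ M := fun g' => by
      rw [hM', Subgroup.mem_map]
      constructor
      · rintro ⟨x, hx, rfl⟩
        simpa [mul_assoc] using hx
      · exact fun hx => ⟨_, hx, by simp [mul_assoc]⟩
    have val' : ∀ g' : GL (Fin (2 * h')) F, ((Bu * g' * Bu⁻¹ : GL (Fin (2 * h')) F) : Matrix _ _ F) =
        B * (g' : Matrix (Fin (2 * h')) (Fin (2 * h')) F) * B' := fun g' => by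
      rw [Units.val_mul, Units.val_mul, eBu, eBu']
    have back : ∀ g' : GL (Fin (2 * h')) F, (g' : Matrix (Fin (2 * h')) (Fin (2 * h')) F) =
        B' * (B * (g' : Matrix (Fin (2 * h')) (Fin (2 * h')) F) * B') * B := fun g' => by
      simp only [Matrix.mul_assoc]
      rw [hB'B, Matrix.mul_one, ← Matrix.mul_assoc, hB'B, Matrix.one_mul]
    have inA : ∀ g', g' ∈ k.amb (2 * h') ↔ Bu * g' * Bu⁻¹ ∈ k.amb (2 * h') := fun g' => by
      rw [Kd.mem_amb, Kd.mem_amb, val', det_conj hB'B]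
      refine and_congr_right fun _ => ⟨fun hu => k.uni_conj (k.uni_inv hB hBB) hB'B hu, fun hu => ?_⟩
      rw [back g']
      exact k.uni_conj hB hBB hu
    have cont' : ∀ g' ∈ k.amb (2 * h'), (∃ L, Act (fun u => B' * X u * B)
        (g' : Matrix (Fin (2 * h')) (Fin (2 * h')) F) L) → g' ∈ M' := by
      rintro g' hg' ⟨L, hL⟩
      refine (mem' g').2 (hcont _ ((inA g').1 hg') ⟨L, fun u => ?_⟩)
      obtain ⟨f, hf'⟩ := hL u
      refine ⟨f, ?_⟩
      have := congrArg (fun Y => B * Y * B') hf'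
      simp only [Matrix.mul_smul, Matrix.smul_mul, Matrix.mul_assoc, hBB, Matrix.mul_one] at this
      rw [← Matrix.mul_assoc B B', hBB, Matrix.one_mul] at this
      rw [val']
      simp only [Matrix.mul_assoc]
      exact this
    rcases c.dich hk hd (fun g' hg' => (inA g').2 (hM ((mem' g').1 hg'))) cont' with h1 | h1
    · refine absurd (le_antisymm hM fun g₁ hg₁ => ?_) htop
      have eg : g₁ = Bu * (Bu⁻¹ * g₁ * Bu) * Bu⁻¹ := by group
      have h2 : Bu⁻¹ * g₁ * Bu ∈ M' := h1.symm ▸ (inA _).2 (eg ▸ hg₁)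
      rw [eg]
      exact (mem' _).1 h2
    · obtain ⟨g', hg'⟩ : ∃ g', g' = Bu⁻¹ * g * Bu := ⟨_, rfl⟩
      have eg : Bu * g' * Bu⁻¹ = g := by rw [hg']; group
      have vg : (g' : Matrix (Fin (2 * h')) (Fin (2 * h')) F) = B' * (g : Matrix (Fin (2 * h')) (Fin (2 * h')) F) * B := by
        rw [hg', Units.val_mul, Units.val_mul, eBu, eBu']
      have hf' : ∀ σ, hf (fun u => B' * X u * B) v σ = B' * hf X v σ * B := fun σ => by
        rw [hf, hf, Matrix.mul_smul, Matrix.smul_mul, Matrix.mul_add, Matrix.add_mul, Matrix.mul_one, hB'B,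
          Matrix.mul_smul, Matrix.smul_mul]
      have sand : ∀ A A' : Matrix (Fin (2 * h')) (Fin (2 * h')) F, B' * A * B * (B' * A' * B) = B' * (A * A') * B :=
        fun A A' => by
          simp only [Matrix.mul_assoc]
          rw [← Matrix.mul_assoc B B', hBB, Matrix.one_mul]
      intro w hw
      obtain ⟨u, hu, d, hd', e3⟩ := h1 g' ((mem' g').2 (by rw [eg]; exact hg)) (by
        rw [vg, sand, sand, hgv]) w hw
      refine ⟨u, hu, d, hd', ?_⟩
      rw [hf', vg, sand, sand, sand, sand, ← Matrix.smul_mul, ← Matrix.mul_smul] at e3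
      have := congrArg (fun Y => B * Y * B') e3
      simp only [Matrix.mul_assoc, hBB, Matrix.mul_one] at this
      rw [← Matrix.mul_assoc B B', ← Matrix.mul_assoc B B', hBB, Matrix.one_mul, Matrix.one_mul] at this
      exact this
  exact fun g hg => (base.setup fun v hv g hg hgv => base.cent_of_halved rfl hroot hh hv hg hgv).all_act hg

end CfsgLib.QubitMax
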