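import Cfsg.Agent.Lib.QubitMax.Extraspecial
import Cfsg.Agent.Lib.QubitMax.Pauli
import Cfsg.Agent.Lib.QubitMax.Quad
import Cfsg.Prelude.Def_GeometricClasses

/-!
The frame of an absolutely irreducible group of symplectic type with centre of order two.
-/

set_option autoImplicit false
set_option linter.unusedSectionVars false
set_option maxHeartbeats 1000000

namespace CfsgLib.QubitMax

open Matrix
open scoped commutatorElement
open CfsgLib.EightMax (Sform Isom z2 sg2 sg2_zero sg2_one sg2_add sg2_self sg2_ne sg2_inj exists_sg2)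
open CfsgLib.Pauli (square_and_commutator)
open Cfsg.Geo (matrixSet subgroupNormalizer IsSymplecticTypeGroup ActsAbsolutelyIrreducibly IsOfMinusType)

variable {F : Type*} [Field F] [Finite F] {ι : Type} [Fintype ι] [DecidableEq ι] [Nonempty ι]

/-- `R` consists of plus and minus the members of the frame `X`. -/
structure SympFrame {V : Type} [AddCommGroup V] (R : Subgroup (GL ι F)) (k : ℕ) (s : V → V → ZMod 2)
    (X : V → Matrix ι ι F) (q : V → ZMod 2) : Prop where
  fm : Fm s X
  card : Nat.card V = 2 ^ (2 * k)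
  dim : Fintype.card ι = 2 ^ k
  sq : ∀ v, X v * X v = sg2 F (q v) • (1 : Matrix ι ι F)
  add : ∀ a b, q (a + b) = q a + q b + s a b
  mem : ∀ v, ∃ g ∈ R, (g : Matrix ι ι F) = X v
  all : ∀ g ∈ R, ∃ (v : V) (z : ZMod 2), (g : Matrix ι ι F) = sg2 F z • X v
  neg : ∃ g ∈ R, (g : Matrix ι ι F) = -1

/-- A character sum. -/
theorem sg2_sum {V : Type*} [AddCommGroup V] [Fintype V] [DecidableEq V] {s : V → V → ZMod 2} (h : Sform s)
    (h2 : (2 : F) ≠ 0) (u : V) : (∑ w, sg2 F (s u w)) = if u = 0 then (Fintype.card V : F) else 0 := by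
  by_cases hu : u = 0
  · subst hu; simp [h.zero_left, sg2_zero]
  rw [if_neg hu]
  obtain ⟨y, hy⟩ := h.exists_one hu
  have e : (∑ w, sg2 F (s u w)) = -∑ w, sg2 F (s u w) := by
    conv_lhs => rw [← Equiv.sum_comp (Equiv.addRight y)]
    rw [← Finset.sum_neg_distrib]
    refine Finset.sum_congr rfl fun w _ => ?_
    simp [h.add_right, hy, sg2_add, sg2_one]
  exact (mul_eq_zero.1 (show (2 : F) * ∑ w, sg2 F (s u w) = 0 by linear_combination e)).resolve_left h2

/-- **The frame of a group of symplectic type.** -/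
theorem exists_sympFrame {R : Subgroup (GL ι F)} {k : ℕ} (h2 : (2 : F) ≠ 0) (hR : IsSymplecticTypeGroup 2 R)
    (hirr : ActsAbsolutelyIrreducibly (matrixSet R)) (hcard : Nat.card R = 2 ^ (1 + 2 * k))
    (hZ : Nat.card (Subgroup.center R) = 2) :
    ∃ (V : Type) (_ : AddCommGroup V) (s : V → V → ZMod 2) (X : V → Matrix ι ι F) (q : V → ZMod 2),
      SympFrame R k s X q := by
  classical
  haveI : Finite (GL ι F) := Finite.of_injective _ Units.val_injective
  have h4 : ∀ x : R, x ^ 4 = 1 := fun x => by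
    have := Monoid.pow_exponent_eq_one x
    rwa [hR.exponent_eq] at this
  have hD := commutator_le_center_two hR.pGroup h4 hR.cyclic_of_characteristic hZ
  obtain ⟨Mx, hMx⟩ : ∃ Mx : R → Matrix ι ι F, ∀ r, Mx r = ((r : GL ι F) : Matrix ι ι F) := ⟨_, fun _ => rfl⟩
  have Mmul : ∀ r r', Mx (r * r') = Mx r * Mx r' := fun r r' => by simp [hMx]
  have Mone : Mx 1 = 1 := by simp [hMx]
  have Mu : ∀ r, IsUnit (Mx r) := fun r => hMx r ▸ (r : GL ι F).isUnit
  have Minj : Function.Injective Mx := fun r r' e => Subtype.ext (Units.ext (by rwa [hMx, hMx] at e))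
  have scal : ∀ A : Matrix ι ι F, (∀ r, A * Mx r = Mx r * A) → ∃ c : F, A = c • 1 := fun A hA =>
    hirr.2 A (by rintro _ ⟨g, hg, rfl⟩; simpa [hMx] using hA ⟨g, hg⟩)
  -- the centre is plus and minus one
  have hcz : ∀ r ∈ Subgroup.center R, Mx r = 1 ∨ Mx r = -1 := by
    intro r hr
    obtain ⟨c, hc⟩ := scal (Mx r) fun r' => by rw [← Mmul, ← Mmul, Subgroup.mem_center_iff.1 hr r']
    have e2 : r * r = 1 := by
      have := pow_card_eq_one' (x := (⟨r, hr⟩ : Subgroup.center R))
      rw [hZ, pow_two] at this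
      exact congrArg Subtype.val this
    have e3 := congrArg Mx e2
    rw [Mmul, Mone, hc, Matrix.smul_mul, Matrix.one_mul, smul_smul] at e3
    rcases mul_self_eq_one_iff.1 (smul_left_injective F (one_ne_zero : (1 : Matrix ι ι F) ≠ 0)
      (e3.trans (one_smul F _).symm)) with rfl | rfl
    · left; rw [hc, one_smul]
    · right; rw [hc, neg_one_smul]
  obtain ⟨m, hm, hm1⟩ : ∃ m ∈ Subgroup.center R, Mx m = -1 := by
    by_contra hno
    push Not at hno
    have : Subgroup.center R = ⊥ := (Subgroup.eq_bot_iff_forall _).2 fun r hr =>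
      Minj (((hcz r hr).resolve_right (hno r hr)).trans Mone.symm)
    rw [this, Subgroup.card_bot] at hZ
    omega
  -- the vectors
  obtain ⟨π, hπ⟩ : ∃ π, π = QuotientGroup.mk' (Subgroup.center R) := ⟨_, rfl⟩
  have hsur : Function.Surjective π := hπ ▸ QuotientGroup.mk'_surjective _
  have hπ1 : ∀ {r}, π r = 1 ↔ r ∈ Subgroup.center R := fun {r} => by
    rw [hπ, QuotientGroup.mk'_apply, QuotientGroup.eq_one_iff]
  have hqc : ∀ a b : R ⧸ Subgroup.center R, a * b = b * a := by
    intro a b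
    obtain ⟨x, rfl⟩ := hsur a
    obtain ⟨y, rfl⟩ := hsur b
    rw [← commutatorElement_eq_one_iff_mul_comm, ← map_commutatorElement, hπ1]
    exact hD (Subgroup.commutator_mem_commutator (Subgroup.mem_top x) (Subgroup.mem_top y))
  letI : CommGroup (R ⧸ Subgroup.center R) := { (inferInstance : Group (R ⧸ Subgroup.center R)) with mul_comm := hqc }
  have hq2 : ∀ a : Additive (R ⧸ Subgroup.center R), 2 • a = 0 := by
    intro a
    obtain ⟨x, hx⟩ := hsur a.toMul
    show a.toMul ^ 2 = 1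
    rw [← hx, ← map_pow, hπ1]
    exact (square_and_commutator h4 hD x x).1
  letI := AddCommGroup.zmodModule hq2
  have hcardQ : Nat.card (R ⧸ Subgroup.center R) = 2 ^ (2 * k) := by
    have e := Subgroup.card_eq_card_quotient_mul_card_subgroup (Subgroup.center R)
    rw [hcard, hZ, pow_add, pow_one, mul_comm] at e
    exact (Nat.eq_of_mul_eq_mul_right two_pos e).symm
  haveI : Module.Finite (ZMod 2) (Additive (R ⧸ Subgroup.center R)) := Module.Finite.of_finite
  have hrank : Module.finrank (ZMod 2) (Additive (R ⧸ Subgroup.center R)) = 2 * k := by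
    have e := Module.natCard_eq_pow_finrank (K := ZMod 2) (V := Additive (R ⧸ Subgroup.center R))
    rw [Nat.card_congr Additive.toMul, hcardQ, Nat.card_zmod] at e
    exact (Nat.pow_right_injective le_rfl e).symm
  let e : Additive (R ⧸ Subgroup.center R) ≃+ (Fin (2 * k) → ZMod 2) :=
    (Module.finBasisOfFinrankEq (ZMod 2) _ hrank).equivFun.toAddEquiv
  obtain ⟨p, hpe⟩ : ∃ p : R → (Fin (2 * k) → ZMod 2), ∀ r, p r = e (Additive.ofMul (π r)) := ⟨_, fun _ => rfl⟩
  have pmul : ∀ r r', p (r * r') = p r + p r' := fun r r' => by rw [hpe, hpe, hpe, map_mul, ofMul_mul, map_add]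
  have pz : ∀ {r}, p r = 0 ↔ r ∈ Subgroup.center R := fun {r} => by
    rw [hpe, map_eq_zero_iff e e.injective, ofMul_eq_zero, hπ1]
  have psur : Function.Surjective p := fun v => by
    obtain ⟨r, hr⟩ := hsur (e.symm v).toMul
    exact ⟨r, by rw [hpe, hr, ofMul_toMul, e.apply_symm_apply]⟩
  have psame : ∀ {r r'}, p r = p r' → Mx r = Mx r' ∨ Mx r = -Mx r' := fun {r r'} h => by
    have hp1 : p (r * r'⁻¹) = 0 := by
      have e0 : p (r'⁻¹) + p r' = 0 := by rw [← pmul, inv_mul_cancel, pz]; exact one_mem _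
      rw [pmul, h, add_comm, e0]
    rcases hcz _ (pz.1 hp1) with e1 | e1
    · left; rw [← inv_mul_cancel_right r r', Mmul, e1, Matrix.one_mul]
    · right; rw [← inv_mul_cancel_right r r', Mmul, e1, neg_one_mul]
  obtain ⟨θ₀, hθ₀⟩ := psur.hasRightInverse
  obtain ⟨θ, hθd⟩ : ∃ θ : (Fin (2 * k) → ZMod 2) → R, θ = fun v => if v = 0 then 1 else θ₀ v := ⟨_, rfl⟩
  have hθ : ∀ v, p (θ v) = v := fun v => by
    rw [hθd]
    by_cases hv : v = 0
    · simp only [if_pos hv]; rw [hv, pz]; exact one_mem _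
    · simp only [if_neg hv]; exact hθ₀ v
  obtain ⟨X, hX⟩ : ∃ X, X = fun v => Mx (θ v) := ⟨_, rfl⟩
  have hXu : ∀ v, IsUnit (X v) := fun v => hX ▸ Mu _
  have hX0 : X 0 = 1 := by rw [hX]; simp only [hθd, if_pos]; exact Mone
  have cover : ∀ r, ∃ z : ZMod 2, Mx r = sg2 F z • X (p r) := fun r => by
    rcases psame (r' := θ (p r)) (hθ _).symm with e1 | e1
    · exact ⟨0, by rw [sg2_zero, one_smul, hX, e1]⟩
    · exact ⟨1, by rw [sg2_one, neg_one_smul, hX, e1]⟩
  have hmulX : ∀ v w, ∃ z : ZMod 2, X v * X w = sg2 F z • X (v + w) := fun v w => by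
    obtain ⟨z, hz⟩ := cover (θ v * θ w)
    rw [pmul, hθ, hθ, Mmul] at hz
    exact ⟨z, by rw [hX] at hz ⊢; exact hz⟩
  have signs : ∀ r r' : R, ∃ z : ZMod 2, Mx r * Mx r' = sg2 F z • (Mx r' * Mx r) := fun r r' => by
    have e0 : r * r' = ⁅r, r'⁆ * (r' * r) := by rw [commutatorElement_def]; group
    have := congrArg Mx e0
    rw [Mmul, Mmul, Mmul] at this
    rcases hcz _ (square_and_commutator h4 hD r r').2.1 with e1 | e1 <;> rw [e1] at this
    · exact ⟨0, by rw [sg2_zero, one_smul, this, Matrix.one_mul]⟩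
    · exact ⟨1, by rw [sg2_one, neg_one_smul, this, neg_one_mul]⟩
  choose s hs using fun v w => signs (θ v) (θ w)
  have hcomm : ∀ v w, X v * X w = sg2 F (s v w) • (X w * X v) := fun v w => by rw [hX]; exact hs v w
  have sq0 : ∀ v, ∃ z : ZMod 2, X v * X v = sg2 F z • (1 : Matrix ι ι F) := fun v => by
    rw [hX]
    rcases hcz _ (square_and_commutator h4 hD (θ v) (θ v)).1 with e1 | e1 <;> rw [pow_two, Mmul] at e1
    · exact ⟨0, by rw [sg2_zero, one_smul]; exact e1⟩
    · exact ⟨1, by rw [sg2_one, neg_one_smul]; exact e1⟩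
  choose q hq using sq0
  have hinj : ∀ {A : Matrix ι ι F} {z z' : ZMod 2}, IsUnit A → sg2 F z • A = sg2 F z' • A → z = z' :=
    fun {A z z'} hA e => sg2_inj h2 (smul_left_injective F hA.ne_zero e)
  have sadd : ∀ a b c, s (a + b) c = s a c + s b c := by
    intro a b c
    obtain ⟨z, hz⟩ := hmulX a b
    have e1 : X a * X b * X c = sg2 F (s a c + s b c) • (X c * (X a * X b)) := by
      rw [Matrix.mul_assoc, hcomm b c, Matrix.mul_smul, ← Matrix.mul_assoc, hcomm a c, Matrix.smul_mul, smul_smul,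
        Matrix.mul_assoc, sg2_add, mul_comm]
    rw [hz, Matrix.smul_mul, Matrix.mul_smul, hcomm, smul_smul, smul_smul, mul_comm, ← smul_smul, ← smul_smul] at e1
    have e2 : sg2 F (s (a + b) c) • (sg2 F z • (X c * X (a + b))) =
        sg2 F (s a c + s b c) • (sg2 F z • (X c * X (a + b))) := e1
    rw [smul_comm _ (sg2 F z), smul_comm _ (sg2 F z)] at e2
    exact hinj ((hXu c).mul (hXu _)) (smul_right_injective _ (sg2_ne z) e2)
  have ssym : ∀ a b, s a b = s b a := fun a b => by
    refine hinj ((hXu b).mul (hXu a)) ?_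
    calc sg2 F (s a b) • (X b * X a) = X a * X b := (hcomm a b).symm
      _ = sg2 F (s b a) • (X b * X a) := by rw [hcomm b a, smul_smul, sg2_self, one_smul]
  have hform : Sform s := by
    refine ⟨fun v => by funext i; exact CharTwo.add_self_eq_zero _, sadd, ssym, fun a => ?_, fun a ha => ?_⟩
    · refine hinj ((hXu a).mul (hXu a)) ?_
      rw [← hcomm, sg2_zero, one_smul]
    · rw [← hθ a, pz, Subgroup.mem_center_iff]
      intro r
      obtain ⟨z, hz⟩ := cover r
      apply Minj
      rw [Mmul, Mmul, hz, Matrix.smul_mul, Matrix.mul_smul]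
      congr 1
      have := hcomm a (p r)
      rw [ha, sg2_zero, one_smul] at this
      rw [hX] at this ⊢
      exact this.symm
  have qadd : ∀ a b, q (a + b) = q a + q b + s a b := by
    intro a b
    obtain ⟨z, hz⟩ := hmulX a b
    have e1 : X a * X b * (X a * X b) = sg2 F (q a + q b + s a b) • (1 : Matrix ι ι F) := by
      rw [Matrix.mul_assoc, ← Matrix.mul_assoc (X b), hcomm b a, ssym b a, Matrix.smul_mul, Matrix.mul_smul,
        Matrix.mul_assoc (X a) (X b), hq b, Matrix.mul_smul (X a), Matrix.mul_one, Matrix.mul_smul, hq a, smul_smul,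
        smul_smul, sg2_add, sg2_add]
      congr 1
      ring
    rw [hz, Matrix.smul_mul, Matrix.mul_smul, smul_smul, sg2_self, one_smul, hq] at e1
    exact hinj isUnit_one e1
  -- the members are a basis
  obtain ⟨P, hP⟩ : ∃ P : (Fin (2 * k) → ZMod 2) → Matrix ι ι F → Matrix ι ι F,
      ∀ w A, P w A = sg2 F (q w) • (X w * A * X w) := ⟨_, fun _ _ => rfl⟩
  have hPP : ∀ a b A, P a (P b A) = P (a + b) A := by
    intro a b A
    obtain ⟨z, hz⟩ := hmulX a b
    have e2 : X b * X a = (sg2 F (s a b) * sg2 F z) • X (a + b) := by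
      rw [hcomm b a, ssym b a, hz, smul_smul]
    rw [hP, hP, hP, Matrix.mul_smul, Matrix.smul_mul, smul_smul,
      show X a * (X b * A * X b) * X a = X a * X b * A * (X b * X a) by simp only [Matrix.mul_assoc], hz, e2,
      qadd, Matrix.smul_mul, Matrix.smul_mul, Matrix.mul_smul, smul_smul, smul_smul, sg2_add, sg2_add]
    congr 1
    linear_combination sg2 F (q a) * sg2 F (q b) * sg2 F (s a b) * sg2_self (F := F) z
  have hP0 : ∀ A, P 0 A = A := fun A => by
    have : q 0 = 0 := by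
      have := qadd 0 0
      rw [add_zero, hform.zero_left, add_zero] at this
      exact left_eq_add.1 this
    rw [hP, this, sg2_zero, one_smul, hX0, Matrix.one_mul, Matrix.mul_one]
  have hPX : ∀ w u, P w (X u) = sg2 F (s u w) • X u := fun w u => by
    rw [hP, hcomm w u, Matrix.smul_mul, Matrix.mul_assoc, hq, Matrix.mul_smul, Matrix.mul_one, smul_smul, smul_smul,
      mul_right_comm, sg2_self, one_mul, ssym]
  have hn0 : (Fintype.card (Fin (2 * k) → ZMod 2) : F) ≠ 0 := by
    rw [Fintype.card_pi, Finset.prod_const, ZMod.card, Nat.cast_pow]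
    exact pow_ne_zero _ (by exact_mod_cast h2)
  have hspan : ⊤ ≤ Submodule.span F (Set.range X) := by
    intro A _
    have hE : ∀ v, ∃ c : F, (∑ w, sg2 F (s v w) • P w A) = c • X v := by
      intro v
      obtain ⟨E', hE'⟩ : ∃ E', E' = ∑ w, sg2 F (s v w) • P w A := ⟨_, rfl⟩
      have hEc : ∀ w, E' * X w = sg2 F (s v w) • (X w * E') := by
        intro w
        have e1 : P w E' = sg2 F (s v w) • E' := by
          have lin : P w E' = ∑ u, sg2 F (s v u) • P w (P u A) := by
            rw [hP, hE', Matrix.mul_sum, Matrix.sum_mul, Finset.smul_sum]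
            exact Finset.sum_congr rfl fun u _ => by
              rw [Matrix.mul_smul, Matrix.smul_mul, smul_comm, ← hP]
          rw [lin, hE', Finset.smul_sum]
          refine Fintype.sum_equiv (Equiv.addLeft w) _ _ fun u => ?_
          rw [hPP, Equiv.coe_addLeft, smul_smul, hform.add_right, sg2_add, ← mul_assoc, sg2_self, one_mul]
        calc E' * X w = (sg2 F (s v w) • P w E') * X w := by rw [e1, smul_smul, sg2_self, one_smul]
          _ = (sg2 F (s v w) * sg2 F (q w)) • (X w * E' * (X w * X w)) := by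
              rw [hP, smul_smul, Matrix.smul_mul, Matrix.mul_assoc _ (X w) (X w)]
          _ = _ := by rw [hq, Matrix.mul_smul, Matrix.mul_one, smul_smul, mul_assoc, sg2_self, mul_one]
      obtain ⟨c, hc⟩ := scal (E' * X v) fun r => by
        obtain ⟨z, hz⟩ := cover r
        rw [hz, Matrix.mul_smul, Matrix.smul_mul]
        congr 1
        rw [Matrix.mul_assoc, hcomm v (p r), Matrix.mul_smul, ← Matrix.mul_assoc, hEc, Matrix.smul_mul, smul_smul,
          sg2_self, one_smul, Matrix.mul_assoc]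
      refine ⟨sg2 F (q v) * c, ?_⟩
      rw [← hE', mul_smul]
      calc E' = sg2 F (q v) • (E' * (X v * X v)) := by
            rw [hq, Matrix.mul_smul, Matrix.mul_one, smul_smul, sg2_self, one_smul]
        _ = _ := by rw [← Matrix.mul_assoc, hc, Matrix.smul_mul, Matrix.one_mul]
    have htot : (Fintype.card (Fin (2 * k) → ZMod 2) : F) • A = ∑ v, ∑ w, sg2 F (s v w) • P w A := by
      rw [Finset.sum_comm]
      simp only [← Finset.sum_smul]
      have : ∀ w, (∑ v, sg2 F (s v w)) = if w = 0 then (Fintype.card (Fin (2 * k) → ZMod 2) : F) else 0 := fun w => by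
        rw [← sg2_sum hform h2 w]
        exact Finset.sum_congr rfl fun v _ => by rw [ssym]
      simp only [this, ite_smul, zero_smul, Finset.sum_ite_eq', Finset.mem_univ, if_true, hP0]
    rw [← inv_smul_smul₀ hn0 A, htot]
    refine Submodule.smul_mem _ _ (Submodule.sum_mem _ fun v _ => ?_)
    obtain ⟨c, hc⟩ := hE v
    rw [hc]
    exact Submodule.smul_mem _ _ (Submodule.subset_span ⟨v, rfl⟩)
  have hli : LinearIndependent F X := Fintype.linearIndependent_iff.2 fun a ha u => by
    have key : ∀ w, ∑ v, (sg2 F (s v w) * a v) • X v = 0 := fun w => by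
      have e1 : P w (∑ v, a v • X v) = ∑ v, a v • P w (X v) := by
        rw [hP, Matrix.mul_sum, Matrix.sum_mul, Finset.smul_sum]
        exact Finset.sum_congr rfl fun v _ => by rw [Matrix.mul_smul, Matrix.smul_mul, smul_comm, ← hP]
      rw [ha, hP, Matrix.mul_zero, Matrix.zero_mul, smul_zero] at e1
      rw [e1]
      exact Finset.sum_congr rfl fun v _ => by rw [hPX, smul_smul, mul_comm]
    have e2 := Finset.sum_eq_zero (s := (Finset.univ : Finset (Fin (2 * k) → ZMod 2)))
      (f := fun w => sg2 F (s u w) • ∑ v, (sg2 F (s v w) * a v) • X v) fun w _ => by rw [key, smul_zero]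
    simp only [Finset.smul_sum, smul_smul] at e2
    rw [Finset.sum_comm] at e2
    simp only [← mul_assoc, ← sg2_add, ← sadd, ← Finset.sum_smul, ← Finset.sum_mul, sg2_sum hform h2] at e2
    have hiff : ∀ v, u + v = 0 ↔ v = u := fun v =>
      ⟨fun e => (hform.eq_of_add_eq_zero e).symm, fun e => by rw [e, hform.two]⟩
    simp only [hiff, ite_mul, zero_mul, ite_smul, zero_smul, Finset.sum_ite_eq', Finset.mem_univ, if_true] at e2
    exact (mul_eq_zero.1 ((smul_eq_zero.1 e2).resolve_right (hXu u).ne_zero)).resolve_left hn0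
  have hbasis := Module.finrank_eq_card_basis (Module.Basis.mk hli hspan)
  rw [Module.finrank_matrix, Module.finrank_self, mul_one, Fintype.card_pi, Finset.prod_const, ZMod.card,
    Finset.card_univ, Fintype.card_fin] at hbasis
  have hdim : Fintype.card ι = 2 ^ k := Nat.mul_self_inj.1 (by rw [hbasis, ← pow_add, two_mul])
  have hcardV : Nat.card (Fin (2 * k) → ZMod 2) = 2 ^ (2 * k) := by simp [Nat.card_eq_fintype_card]
  refine ⟨Fin (2 * k) → ZMod 2, inferInstance, s, X, q, ⟨⟨hform, h2, hX0, fun v w => ?_, hcomm, fun v => ⟨q v, hq v⟩, ?_⟩,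
    hcardV, hdim, hq, qadd, fun v => ⟨θ v, (θ v).2, by rw [hX, ← hMx]⟩, fun g hg => ?_,
    ⟨m, (m : R).2, by rw [← hMx, hm1]⟩⟩⟩
  · obtain ⟨z, hz⟩ := hmulX v w
    exact ⟨_, sg2_ne z, hz⟩
  · rw [hcardV, hdim, ← pow_add, two_mul]
  · obtain ⟨z, hz⟩ := cover ⟨g, hg⟩
    exact ⟨_, z, by rw [← hz, hMx]⟩

namespace SympFrame

variable {V : Type} [AddCommGroup V] {R : Subgroup (GL ι F)} {k : ℕ} {s : V → V → ZMod 2} {X : V → Matrix ι ι F}
  {q : V → ZMod 2} (h : SympFrame R k s X q)
include h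

theorem signed_mem (v : V) (z : ZMod 2) : ∃ g ∈ R, (g : Matrix ι ι F) = sg2 F z • X v := by
  obtain ⟨g, hg, e⟩ := h.mem v
  obtain ⟨n, hn, en⟩ := h.neg
  rcases z2 z with rfl | rfl
  · exact ⟨g, hg, by rw [sg2_zero, one_smul, e]⟩
  · exact ⟨n * g, mul_mem hn hg, by rw [Units.val_mul, en, e, sg2_one, neg_one_smul, neg_one_mul]⟩

theorem act_of_normal {g : GL ι F} (hg : g ∈ subgroupNormalizer R) : ∃ L, Act X (g : Matrix ι ι F) L := by
  rw [subgroupNormalizer, Subgroup.mem_normalizer_iff] at hg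
  have : ∀ v, ∃ (u : V) (c : F), (g : Matrix ι ι F) * X v = c • (X u * (g : Matrix ι ι F)) := fun v => by
    obtain ⟨r, hr, er⟩ := h.mem v
    obtain ⟨u, z, e⟩ := h.all _ ((hg r).1 hr)
    refine ⟨u, sg2 F z, ?_⟩
    rw [← er, ← Matrix.smul_mul, ← e, ← Units.val_mul, ← Units.val_mul, inv_mul_cancel_right]
  choose L c hL using this
  exact ⟨L, fun v => ⟨c v, hL v⟩⟩

/-- An isometry moving the frame normalises the group. -/
theorem normal_of_act {J : Matrix ι ι F} (hJ : IsUnit J) (hRJ : ∀ r ∈ R, (r : Matrix ι ι F)ᵀ * J * (r : Matrix ι ι F) = J)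
    {g : GL ι F} (hgJ : (g : Matrix ι ι F)ᵀ * J * (g : Matrix ι ι F) = J) {L : V → V}
    (hL : Act X (g : Matrix ι ι F) L) : g ∈ subgroupNormalizer R := by
  have key : ∀ {g : GL ι F} {L : V → V}, (g : Matrix ι ι F)ᵀ * J * (g : Matrix ι ι F) = J →
      Act X (g : Matrix ι ι F) L → ∀ r ∈ R, g * r * g⁻¹ ∈ R := by
    intro g L hgJ hL r hr
    obtain ⟨v, z, e⟩ := h.all r hr
    obtain ⟨c, hc⟩ := hL v
    obtain ⟨ru, hru, eu⟩ := h.mem (L v)
    obtain ⟨rv, hrv, ev⟩ := h.mem v
    have iso : ∀ {A B : Matrix ι ι F}, Aᵀ * J * A = J → Bᵀ * J * B = J → (A * B)ᵀ * J * (A * B) = J :=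
      fun {A B} hA hB => by
        rw [Matrix.transpose_mul, show Bᵀ * Aᵀ * J * (A * B) = Bᵀ * (Aᵀ * J * A) * B by
          simp only [Matrix.mul_assoc], hA, hB]
    have i1 := iso hgJ (ev ▸ hRJ rv hrv)
    have i2 := iso (eu ▸ hRJ ru hru) hgJ
    rw [hc, Matrix.transpose_smul, Matrix.smul_mul, Matrix.smul_mul, Matrix.mul_smul, smul_smul, i2] at i1
    obtain ⟨z', rfl⟩ := exists_sg2 (smul_left_injective F hJ.ne_zero (i1.trans (one_smul F J).symm))
    obtain ⟨r', hr', er'⟩ := h.signed_mem (L v) (z + z')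
    refine (show g * r * g⁻¹ = r' from ?_) ▸ hr'
    rw [mul_inv_eq_iff_eq_mul]
    refine Units.ext ?_
    rw [Units.val_mul, Units.val_mul, e, Matrix.mul_smul, hc, er', smul_smul, Matrix.smul_mul, sg2_add]
  obtain ⟨K, hK, -⟩ := h.fm.act_inv g.mul_inv g.inv_mul hL
  have hgJ' : ((g⁻¹ : GL ι F) : Matrix ι ι F)ᵀ * J * ((g⁻¹ : GL ι F) : Matrix ι ι F) = J := by
    calc _ = ((g⁻¹ : GL ι F) : Matrix ι ι F)ᵀ * ((g : Matrix ι ι F)ᵀ * J * (g : Matrix ι ι F)) *
          ((g⁻¹ : GL ι F) : Matrix ι ι F) := by rw [hgJ]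
      _ = ((g : Matrix ι ι F) * ((g⁻¹ : GL ι F) : Matrix ι ι F))ᵀ * J *
          ((g : Matrix ι ι F) * ((g⁻¹ : GL ι F) : Matrix ι ι F)) := by
        rw [Matrix.transpose_mul]; simp only [Matrix.mul_assoc]
      _ = J := by rw [Units.mul_inv, Matrix.transpose_one, Matrix.one_mul, Matrix.mul_one]
  rw [subgroupNormalizer, Subgroup.mem_normalizer_iff]
  intro r
  refine ⟨key hgJ hL r, fun hr => ?_⟩
  have := key hgJ' hK _ hr
  simpa [mul_assoc] using this

/-- The members of a totally singular subgroup form an elementary abelian group. -/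
theorem ts_card (hminus : IsOfMinusType k R) (A : AddSubgroup V) (hA : ∀ a ∈ A, q a = 0) : Nat.card A < 2 ^ k := by
  classical
  haveI := h.fm.finite
  have hs0 : ∀ a ∈ A, ∀ b ∈ A, s a b = 0 := fun a ha b hb => by
    have := h.add a b
    rw [hA _ (A.add_mem ha hb), hA a ha, hA b hb, zero_add, zero_add] at this
    exact this.symm
  choose θ hθR hθ using h.signed_mem
  obtain ⟨B, hB⟩ : ∃ B : Subgroup R, ∀ r, r ∈ B ↔
      ∃ a ∈ A, ∃ z : ZMod 2, ((r : GL ι F) : Matrix ι ι F) = sg2 F z • X a := by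
    refine ⟨{ carrier := {r | ∃ a ∈ A, ∃ z : ZMod 2, ((r : GL ι F) : Matrix ι ι F) = sg2 F z • X a}
              one_mem' := ⟨0, A.zero_mem, 0, by
                rw [sg2_zero, one_smul, h.fm.one]; simp⟩
              mul_mem' := ?_, inv_mem' := ?_ }, fun r => Iff.rfl⟩
    · rintro r r' ⟨a, ha, z, e⟩ ⟨a', ha', z', e'⟩
      obtain ⟨r'', hr'', e''⟩ : ∃ r'' ∈ R, (r'' : Matrix ι ι F) = X a * X a' := by
        obtain ⟨g, hg, eg⟩ := h.mem a
        obtain ⟨g', hg', eg'⟩ := h.mem a'
        exact ⟨g * g', mul_mem hg hg', by rw [Units.val_mul, eg, eg']⟩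
      obtain ⟨v, w, hv⟩ := h.all r'' hr''
      obtain ⟨m, hm, hm'⟩ := h.fm.mul a a'
      rw [e'', hm'] at hv
      have hva : a + a' = v := h.fm.inj (c := m⁻¹ * sg2 F w) (by
        rw [mul_smul, ← hv, inv_smul_smul₀ hm])
      refine ⟨a + a', A.add_mem ha ha', z + z' + w, ?_⟩
      rw [Subgroup.coe_mul, Units.val_mul, e, e', Matrix.smul_mul, Matrix.mul_smul, smul_smul, hm', hv, ← hva,
        smul_smul, sg2_add, sg2_add]
    · rintro r ⟨a, ha, z, e⟩
      have e2 : r * r = 1 := Subtype.ext (Units.ext (by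
        rw [Subgroup.coe_mul, Units.val_mul, e, Matrix.smul_mul, Matrix.mul_smul, smul_smul, sg2_self, one_smul,
          h.sq, hA a ha, sg2_zero, one_smul]
        simp))
      exact ⟨a, ha, z, by rw [inv_eq_of_mul_eq_one_right e2, e]⟩
  have hBc : IsMulCommutative B := ⟨⟨fun r r' => by
    obtain ⟨a, ha, z, e⟩ := (hB r).1 r.2
    obtain ⟨a', ha', z', e'⟩ := (hB r').1 r'.2
    refine Subtype.ext (Subtype.ext (Units.ext ?_))
    simp only [Subgroup.coe_mul, Units.val_mul, e, e', Matrix.smul_mul, Matrix.mul_smul, smul_smul]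
    rw [h.fm.comm a a', hs0 a ha a' ha', sg2_zero, one_smul, mul_comm]⟩⟩
  have hB2 : ∀ r ∈ B, r * r = 1 := fun r hr => by
    obtain ⟨a, ha, z, e⟩ := (hB r).1 hr
    refine Subtype.ext (Units.ext ?_)
    rw [Subgroup.coe_mul, Units.val_mul, e, Matrix.smul_mul, Matrix.mul_smul, smul_smul, sg2_self, one_smul, h.sq,
      hA a ha, sg2_zero, one_smul]
    simp
  let f : A × ZMod 2 → B := fun az =>
    ⟨⟨θ az.1 az.2, hθR az.1 az.2⟩, (hB _).2 ⟨az.1, az.1.2, az.2, hθ az.1 az.2⟩⟩
  have hf : Function.Injective f := by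
    rintro ⟨a, z⟩ ⟨a', z'⟩ e
    have e1 : sg2 F z • X (a : V) = sg2 F z' • X (a' : V) := by
      have := congrArg (fun r : B => (((r : R) : GL ι F) : Matrix ι ι F)) e
      simpa [f, hθ] using this
    have ea : (a : V) = a' := h.fm.inj (c := (sg2 F z)⁻¹ * sg2 F z') (by
      rw [mul_smul, ← e1, inv_smul_smul₀ (sg2_ne z)])
    rw [← ea] at e1
    exact Prod.ext (Subtype.ext ea) (sg2_inj h.fm.two (smul_left_injective F (h.fm.ne_zero _) e1))
  have := Nat.card_le_card_of_injective f hf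
  rw [Nat.card_prod, Nat.card_zmod] at this
  have := hminus B hBc hB2
  rw [pow_succ] at this
  omega

theorem quad (hbig : 3 ≤ k) (hok : 4 ≤ k ∨ IsOfMinusType k R) : Quad s q 1 := by
  refine ⟨h.fm.form, fun a b => by rw [h.add, one_mul], fun e => absurd e (by decide), ?_, fun _ => ?_⟩
  · rw [h.card]
    exact le_trans (by norm_num) (Nat.pow_le_pow_right two_pos (show 6 ≤ 2 * k by omega))
  · rcases lt_or_ge k 4 with hk | hk
    · refine Or.inr fun A hA => ?_
      have h8 := h.ts_card (hok.resolve_left (by omega)) A hA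
      haveI := h.fm.finite
      haveI : Fact (Nat.Prime 2) := ⟨Nat.prime_two⟩
      obtain ⟨n, hn⟩ : ∃ n, Nat.card A = 2 ^ n :=
        (IsPGroup.iff_card.1 (fun g : Multiplicative A => ⟨1, by
          rw [pow_one, pow_two]; exact congrArg Multiplicative.ofAdd (Subtype.ext (h.fm.form.two _))⟩ :
          IsPGroup 2 (Multiplicative A))).imp fun n hn => (Nat.card_congr Multiplicative.ofAdd).trans hn
      rw [show k = 3 by omega] at h8
      rw [hn] at h8 ⊢
      have := (Nat.pow_lt_pow_iff_right (by norm_num)).1 h8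
      exact le_trans (Nat.pow_le_pow_right two_pos (show n ≤ 2 by omega)) (by norm_num)
    · refine Or.inl ?_
      rw [h.card]
      exact le_trans (by norm_num) (Nat.pow_le_pow_right two_pos (show 8 ≤ 2 * k by omega))

end SympFrame

end CfsgLib.QubitMax
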