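import Cfsg.Agent.Lib.QubitMax.Frame

/-!
A conjugate of a vector lying in the subgroup is a vector.
-/

set_option autoImplicit false
set_option linter.unusedSectionVars false
set_option maxHeartbeats 1000000

namespace CfsgLib.QubitMax

open CfsgLib.EightMax (Sform Isom tr tr_one tr_zero z2)

variable {G : Type*} [Group G] [Finite G] {V : Type*} [AddCommGroup V]

theorem card_le_of_maximal {C S Q : Subgroup G} (hS : IsPGroup 2 S) (hSC : S ≤ C)
    (hmax : ∀ T : Subgroup G, IsPGroup 2 T → S ≤ T → T ≤ C → T = S) (hQ : IsPGroup 2 Q) (hQC : Q ≤ C) :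
    Nat.card Q ≤ Nat.card S := by
  haveI : Fact (Nat.Prime 2) := ⟨Nat.prime_two⟩
  let P : Sylow 2 C := ⟨S.subgroupOf C, hS.comap_of_injective _ C.subtype_injective, fun {T} hT hle => by
    have h1 := hmax (T.map C.subtype) (hT.map _) (fun x hx => ⟨⟨x, hSC hx⟩, hle hx, rfl⟩)
      (Subgroup.map_subtype_le T)
    exact Subgroup.map_injective C.subtype_injective (h1.trans (Subgroup.map_subgroupOf_eq_of_le hSC).symm)⟩
  obtain ⟨R, hR⟩ := (hQ.comap_of_injective C.subtype C.subtype_injective :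
    IsPGroup 2 (Q.subgroupOf C)).exists_le_sylow
  have h1 : Nat.card (Q.subgroupOf C) ≤ Nat.card (R : Subgroup C) := Subgroup.card_le_of_le hR
  rw [Sylow.card_eq_multiplicity R, ← Sylow.card_eq_multiplicity P] at h1
  have h2 : Nat.card (Q.subgroupOf C) = Nat.card Q := Nat.card_congr (Subgroup.subgroupOfEquivOfLe hQC).toEquiv
  have h3 : Nat.card (S.subgroupOf C) = Nat.card S := Nat.card_congr (Subgroup.subgroupOfEquivOfLe hSC).toEquiv
  have h4 : Nat.card (P : Subgroup C) = Nat.card (S.subgroupOf C) := rfl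
  omega

namespace Fr

variable {s : V → V → ZMod 2} {ns : V → Prop} {W : V → G} {N : Subgroup G} (F : Fr s ns W N)
include F

/-- An element fixing a two-group of the centralizer and moving it out of the subgroup. -/
theorem exists_out {g : G} {v₀ : V} (h0 : Full W N v₀) {y : G} (hy : y = g * W v₀ * g⁻¹)
    (hyN : y ∈ N) {L : V → V} (hL : Cj W y L) (hid : L ≠ id) {H : Subgroup G} (hH : IsPGroup 2 H) (hHN : H ≤ N)
    (hHy : ∀ x ∈ H, x * y = y * x) :
    ∃ (q : G) (S : Subgroup G), H ≤ S ∧ S ≤ N ∧ (∀ x ∈ S, x * y = y * x) ∧ (∀ v, L v = v → W v ∈ S) ∧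
      (∀ x ∈ S, q * x * q⁻¹ ∈ S) ∧ (∀ x ∈ S, q⁻¹ * x * q ∈ S) ∧ q ∉ N := by
  classical
  haveI : Fact (Nat.Prime 2) := ⟨Nat.prime_two⟩
  have memC : ∀ x : G, x ∈ Subgroup.centralizer ({y} : Set G) ↔ x * y = y * x := fun x =>
    Subgroup.mem_centralizer_singleton_iff
  have hLi := F.cj_isom hyN hL
  set C := Subgroup.centralizer ({y} : Set G) with hC
  set A := F.fixGrp hLi with hA
  have hHC : H ≤ N ⊓ C := fun x hx => ⟨hHN hx, (memC x).2 (hHy x hx)⟩
  have hvC : F.vecs A ≤ N ⊓ C := by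
    rintro _ ⟨v, hv, rfl⟩
    exact ⟨F.memN v, (memC _).2 ((F.commute_iff hL v).2 hv).symm⟩
  have hnorm : N ⊓ C ≤ Subgroup.normalizer (F.vecs A : Set G) :=
    F.le_normalizer_vecs inf_le_left A fun n hn K hK v hv => by
      show L (K v) = K v
      have e : L ∘ K = K ∘ L := F.cj_uniq (n := n * y) (by rw [(memC n).1 hn.2]; exact hL.mul hK) (hK.mul hL)
      exact (congrFun e v).trans (congrArg K hv)
  have hsup : IsPGroup 2 (H ⊔ F.vecs A : Subgroup G) :=
    hH.to_sup_of_normal_right' (F.vecs_pgroup A) (hHC.trans hnorm)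
  obtain ⟨S, hS1, hS⟩ := Finite.exists_le_maximal (p := fun Q : Subgroup G => IsPGroup 2 Q ∧ Q ≤ N ⊓ C)
    ⟨hsup, sup_le hHC hvC⟩
  obtain ⟨hSg, hSC⟩ := hS.1
  have hmax : ∀ T : Subgroup G, IsPGroup 2 T → S ≤ T → T ≤ N ⊓ C → T = S := fun T hT h1 h2 =>
    le_antisymm (hS.2 ⟨hT, h2⟩ h1) h1
  -- a larger two-group of the centralizer
  obtain ⟨Q, hQg, hSQ, hQC, hQS⟩ : ∃ Q : Subgroup G, IsPGroup 2 Q ∧ S ≤ Q ∧ Q ≤ C ∧ Q ≠ S := by
    by_contra hall
    push Not at hall
    obtain ⟨P, hP1, hP⟩ := Finite.exists_le_maximal (p := fun Q : Subgroup G => IsPGroup 2 Q ∧ Q ≤ N)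
      ⟨F.vecs_pgroup ⊤, show F.vecs ⊤ ≤ N by rintro _ ⟨v, -, rfl⟩; exact F.memN v⟩
    obtain ⟨hPg, hPN⟩ := hP.1
    obtain ⟨v₁, h1ne, hv₁, n, hn, en⟩ := h0.2 P hPg hPN
    obtain ⟨t, ht⟩ : ∃ t, t = g * n := ⟨_, rfl⟩
    have hP' : P.map (MulAut.conj t).toMonoidHom ≤ C := by
      rintro _ ⟨x, hx, rfl⟩
      refine (memC _).2 ?_
      have e1 : x * W v₁ = W v₁ * x := hv₁ x hx
      show t * x * t⁻¹ * y = y * (t * x * t⁻¹)
      rw [hy, ← en, ht]
      calc g * n * x * (g * n)⁻¹ * (g * (n * W v₁ * n⁻¹) * g⁻¹) = g * n * (x * W v₁) * (g * n)⁻¹ := by group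
        _ = _ := by rw [e1]; group
    have hcard := card_le_of_maximal hSg (hSC.trans inf_le_right) (fun T hT h1 h2 => hall T hT h1 h2)
      (hPg.map _) hP'
    rw [Subgroup.card_map_of_injective (MulAut.conj t).injective] at hcard
    have hvN : S ≤ Subgroup.normalizer (F.vecs ⊤ : Set G) :=
      F.le_normalizer_vecs (hSC.trans inf_le_left) ⊤ fun _ _ _ _ _ _ => AddSubgroup.mem_top _
    have hbig : IsPGroup 2 (S ⊔ F.vecs ⊤ : Subgroup G) := hSg.to_sup_of_normal_right' (F.vecs_pgroup ⊤) hvN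
    have hle := card_le_of_maximal hPg hPN (fun T hT h1 h2 => le_antisymm (hP.2 ⟨hT, h2⟩ h1) h1) hbig
      (sup_le (hSC.trans inf_le_left) (by rintro _ ⟨v, -, rfl⟩; exact F.memN v))
    have heq : S = S ⊔ F.vecs ⊤ := Subgroup.eq_of_le_of_card_ge le_sup_left (hle.trans hcard)
    refine hid (funext fun v => (F.commute_iff hL v).1 ?_)
    exact ((memC _).1 (hSC (heq ▸ Subgroup.mem_sup_right ⟨v, AddSubgroup.mem_top v, rfl⟩)).2).symm
  haveI : Group.IsNilpotent Q := hQg.isNilpotent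
  have hlt : S.subgroupOf Q < ⊤ := lt_top_iff_ne_top.2 fun e =>
    hQS (le_antisymm (Subgroup.subgroupOf_eq_top.1 e) hSQ)
  obtain ⟨q, hq, hqS⟩ := SetLike.exists_of_lt (normalizerCondition_of_isNilpotent _ hlt)
  have hq1 : ∀ x ∈ S, (q : G) * x * (q : G)⁻¹ ∈ S := fun x hx =>
    (Subgroup.mem_normalizer_iff.1 hq ⟨x, hSQ hx⟩).1 hx
  have hq2 : ∀ x ∈ S, (q : G)⁻¹ * x * (q : G) ∈ S := fun x hx => by
    have := (Subgroup.mem_normalizer_iff.1 (inv_mem hq) ⟨x, hSQ hx⟩).1 hx
    simpa [Subgroup.mem_subgroupOf] using this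
  refine ⟨q, S, le_sup_left.trans hS1, hSC.trans inf_le_left, fun x hx => (memC x).1 (hSC hx).2,
    fun v hv => (le_sup_right.trans hS1) ⟨v, hv, rfl⟩, hq1, hq2, fun hqN => hqS ?_⟩
  have hle : S ⊔ Subgroup.zpowers (q : G) ≤ N ⊓ C := sup_le hSC (Subgroup.zpowers_le.2 ⟨hqN, hQC q.2⟩)
  have := hmax _ (hQg.to_le (sup_le hSQ (Subgroup.zpowers_le.2 q.2))) le_sup_left hle
  exact show (q : G) ∈ S from this ▸ (le_sup_right : Subgroup.zpowers (q : G) ≤ _) (Subgroup.mem_zpowers _)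

/-- A vector brought back into the subgroup is fixed by the maps attached to vectors. -/
theorem fixed_of_back {q : G} (hqN : q ∉ N) {w c : V} (hm : q⁻¹ * W c * q ∈ N) {Mw : V → V}
    (hMw : Cj W (q * W w * q⁻¹) Mw) : Mw c = c := by
  obtain ⟨K, hK, -⟩ := F.act _ hm
  by_contra hne
  have e : q * W (w + K w) * q⁻¹ = W (Mw c + c) := by
    calc q * W (w + K w) * q⁻¹ = q * (W w * (q⁻¹ * W c * q * W w * (q⁻¹ * W c * q)⁻¹)) * q⁻¹ := by
          rw [F.hom, ← hK]
      _ = (q * W w * q⁻¹) * W c * (q * W w * q⁻¹) * (W c)⁻¹ := by group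
      _ = (q * W w * q⁻¹) * W c * (q * (W w)⁻¹ * q⁻¹) * W c := by rw [F.inv w, F.inv c]
      _ = (q * W w * q⁻¹) * W c * (q * W w * q⁻¹)⁻¹ * W c := by group
      _ = W (Mw c + c) := by rw [hMw, ← F.hom]
  refine hqN (F.cross (u := w + K w) (fun e0 => hne ?_) e)
  rw [e0, F.zero, mul_one, mul_inv_cancel] at e
  exact F.form.eq_of_add_eq_zero (F.inj _ e.symm)

/-- A conjugate of a full vector lying in the subgroup is a vector. -/
theorem weak_full {g : G} {v₀ : V} (hv₀ : Full W N v₀) (hyN : g * W v₀ * g⁻¹ ∈ N) :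
    ∃ v, g * W v₀ * g⁻¹ = W v := by
  classical
  haveI := F.finite
  haveI := Fintype.ofFinite V
  obtain ⟨y, hy⟩ : ∃ y, y = g * W v₀ * g⁻¹ := ⟨_, rfl⟩
  rw [← hy] at hyN ⊢
  obtain ⟨L, hL, hLs, hLn⟩ := F.act y hyN
  have hLi := F.cj_isom hyN hL
  by_cases hid : L = id
  · exact F.ker y hyN (hid ▸ hL)
  exfalso
  have y2 : y * y = 1 := by
    rw [hy, show g * W v₀ * g⁻¹ * (g * W v₀ * g⁻¹) = g * (W v₀ * W v₀) * g⁻¹ by group, F.sq, mul_one, mul_inv_cancel]
  have hinv := F.cj_invol y2 hL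
  -- the fixed vectors are the moves, and orthogonal to themselves
  obtain ⟨A, hA⟩ : ∃ A, A = F.fixGrp hLi := ⟨_, rfl⟩
  have memA : ∀ x, x ∈ A ↔ L x = x := fun x => by rw [hA]; exact Iff.rfl
  let D : V →+ V := AddMonoidHom.mk' (fun x => L x + x) fun a b => by rw [hLi.add]; abel
  have hker : D.ker = A := by
    ext x
    rw [memA]
    exact ⟨fun e => F.form.eq_of_add_eq_zero e, fun e => by show L x + x = 0; rw [e, F.form.two]⟩
  have hRP : D.range ≤ perp F.form A := by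
    rintro _ ⟨x, rfl⟩ w hw
    show s (L x + x) w = 0
    rw [F.form.add_left]
    nth_rw 1 [← (memA w).1 hw]
    rw [hLs, CharTwo.add_self_eq_zero]
  have hRA : D.range ≤ A := by
    rintro _ ⟨x, rfl⟩
    refine (memA _).2 ?_
    show L (L x + x) = L x + x
    rw [hLi.add, hinv, add_comm]
  have hmul := AddSubgroup.card_eq_card_quotient_mul_card_addSubgroup D.ker
  rw [Nat.card_congr (QuotientAddGroup.quotientKerEquivRange D).toEquiv, hker] at hmul
  have hperp := card_perp F.form A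
  have hR : D.range = perp F.form A := by
    refine AddSubgroup.eq_of_le_of_card_ge hRP (le_of_eq ?_)
    rw [hmul, mul_comm (Nat.card D.range)] at hperp
    exact Nat.eq_of_mul_eq_mul_left Nat.card_pos hperp
  have hPA : perp F.form A ≤ A := hR ▸ hRA
  have hA8 : 8 ≤ Nat.card A := by
    by_contra h7
    push Not at h7
    have h1 := AddSubgroup.card_le_of_le hPA
    have := F.big
    nlinarith
  -- the maps attached to the fixed vectors
  have mapsFix : ∀ (q : G) (S : Subgroup G), S ≤ N → (∀ v, L v = v → W v ∈ S) →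
      (∀ x ∈ S, q⁻¹ * x * q ∈ S) → q ∉ N → ∀ w, L w = w → ∀ M, Cj W (q * W w * q⁻¹) M →
        ∀ u, L u = u → M u = u := fun q S hSN hfix hq2 hqN w _ M hM u hu =>
    F.fixed_of_back hqN (hSN (hq2 _ (hfix u hu))) hM
  have common : ∀ (q : G), q ∉ N → ∀ v, v ≠ 0 → ∀ Mv, Cj W (q * W v * q⁻¹) Mv → ∀ c, Mv c = c →
      ∀ w Mw, Cj W (q * W w * q⁻¹) Mw → Mw c = c := by
    intro q hqN v hv0 Mv hMv c hc w Mw hMw
    refine F.fixed_of_back hqN (F.cent v hv0 _ ?_) hMw
    calc q⁻¹ * W c * q * W v * (q⁻¹ * W c * q)⁻¹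
        = q⁻¹ * (W c * (q * W v * q⁻¹)) * (W c)⁻¹ * q := by group
      _ = q⁻¹ * (q * W v * q⁻¹ * W c) * (W c)⁻¹ * q := by rw [(F.commute_iff hMv c).2 hc]
      _ = W v := by group
  obtain ⟨q₀, S₀, -, hS₀N, -, hfix₀, hp1, hp2, hq₀N⟩ := F.exists_out hv₀ hy hyN hL hid (H := ⊥)
    (IsPGroup.of_card (n := 0) (by simp)) bot_le (fun x hx => by simp [Subgroup.mem_bot.1 hx])
  -- a bound from the injectivity of the maps attached to the fixed vectors
  have bound : ∀ (q : G) (S : Subgroup G), S ≤ N → (∀ v, L v = v → W v ∈ S) → (∀ x ∈ S, q * x * q⁻¹ ∈ S) →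
      (∀ x ∈ S, q⁻¹ * x * q ∈ S) → q ∉ N → ∀ v, v ≠ 0 → ∀ M, Cj W (q * W v * q⁻¹) M →
        ∀ c, M c = c → Nat.card A ≤ Nat.card (perp F.form (A ⊔ AddSubgroup.zmultiples c)) := by
    intro q S hSN hfix hq1 hq2 hqN v hv0 M hM c hc
    have hin : ∀ w : A, q * W w * q⁻¹ ∈ N := fun w => hSN (hq1 _ (hfix w ((memA w).1 w.2)))
    choose K hK hKs _ using fun w : A => F.act _ (hin w)
    obtain ⟨A', hA'⟩ : ∃ A' : AddSubgroup V, A' = A ⊔ AddSubgroup.zmultiples c := ⟨_, rfl⟩
    have hKi := fun w : A => F.cj_isom (hin w) (hK w)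
    have hfixA' : ∀ w : A, A' ≤ F.fixGrp (hKi w) := fun w => hA' ▸ sup_le
      (fun u hu => mapsFix q S hSN hfix hq2 hqN w ((memA w).1 w.2) _ (hK w) u ((memA u).1 hu))
      (AddSubgroup.zmultiples_le.2 (common q hqN v hv0 M hM c hc w _ (hK w)))
    -- a vector moved by none of the maps but the trivial one
    obtain ⟨e₀, he₀⟩ : ∃ e₀, ∀ w : A, K w e₀ = e₀ → w = 0 := by
      by_cases hall : ∀ w : A, w ≠ 0 → False
      · exact ⟨0, fun w _ => by_contra fun e => hall w e⟩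
      push Not at hall
      obtain ⟨w₁, hw₁, -⟩ := hall
      obtain ⟨e₀, he₀⟩ : ∃ e₀, K w₁ e₀ ≠ e₀ := by
        by_contra hno
        push Not at hno
        obtain ⟨v', hv'⟩ := F.ker _ (hin w₁) (show Cj W (q * W w₁ * q⁻¹) id from
          (funext hno : K w₁ = id) ▸ hK w₁)
        exact hqN (F.cross (fun e => hw₁ (Subtype.ext e)) hv')
      refine ⟨e₀, fun w hw => by_contra fun hw0 => he₀ ?_⟩
      exact common q hqN w (fun e => hw0 (Subtype.ext e)) _ (hK w) e₀ hw w₁ _ (hK w₁)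
    let Φ : A →+ V := AddMonoidHom.mk' (fun w => K w e₀ + e₀) fun w w' => by
      have e1 : K (w + w') = K w ∘ K w' := F.cj_uniq (hK _) (by
        rw [AddSubgroup.coe_add, F.hom, show q * (W (w : V) * W (w' : V)) * q⁻¹ =
          q * W (w : V) * q⁻¹ * (q * W (w' : V) * q⁻¹) by group]
        exact (hK w).mul (hK w'))
      have e2 : K w (K w' e₀ + e₀) = K w' e₀ + e₀ := by
        refine mapsFix q S hSN hfix hq2 hqN w ((memA w).1 w.2) _ (hK w) _ ((memA _).1 (hPA fun u hu => ?_))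
        rw [F.form.add_left]
        nth_rw 1 [← mapsFix q S hSN hfix hq2 hqN w' ((memA w').1 w'.2) _ (hK w') u ((memA u).1 hu)]
        rw [hKs, CharTwo.add_self_eq_zero]
      rw [(hKi w).add] at e2
      show K (w + w') e₀ + e₀ = K w e₀ + e₀ + (K w' e₀ + e₀)
      rw [e1, Function.comp_apply, ← e2]
      abel_nf
      simp [F.form.two, two_zsmul, two_nsmul]
    have hΦinj : Function.Injective Φ := (injective_iff_map_eq_zero Φ).2 fun w hw =>
      he₀ w (F.form.eq_of_add_eq_zero hw)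
    have hΦr : Φ.range ≤ perp F.form A' := by
      rintro _ ⟨w, rfl⟩ u hu
      show s (K w e₀ + e₀) u = 0
      rw [F.form.add_left]
      nth_rw 1 [← (hfixA' w hu : K w u = u)]
      rw [hKs, CharTwo.add_self_eq_zero]
    rw [← hA']
    exact (Nat.card_congr (AddMonoidHom.ofInjective hΦinj).toEquiv).le.trans (AddSubgroup.card_le_of_le hΦr)
  have hPeq : perp F.form A = A := by
    refine AddSubgroup.eq_of_le_of_card_ge hPA ?_
    obtain ⟨v, hv, hv0, -⟩ := F.full A hA8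
    obtain ⟨M, hM, -⟩ := F.act _ (hS₀N (hp1 _ (hfix₀ v ((memA v).1 hv))))
    have h0 : M 0 = 0 := by
      have := (F.cj_isom (hS₀N (hp1 _ (hfix₀ v ((memA v).1 hv)))) hM).add 0 0
      rw [add_zero] at this
      exact left_eq_add.1 this
    have := bound q₀ S₀ hS₀N hfix₀ hp1 hp2 hq₀N v hv0 M hM 0 h0
    rwa [AddSubgroup.zmultiples_zero_eq_bot, sup_bot_eq] at this
  -- for every element out of the subgroup those maps fix exactly the fixed vectors
  have exact' : ∀ (q : G) (S : Subgroup G), S ≤ N → (∀ v, L v = v → W v ∈ S) → (∀ x ∈ S, q * x * q⁻¹ ∈ S) →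
      (∀ x ∈ S, q⁻¹ * x * q ∈ S) → q ∉ N → ∀ v, L v = v → v ≠ 0 → ∀ M, Cj W (q * W v * q⁻¹) M →
        ∀ c, M c = c → L c = c := by
    intro q S hSN hfix hq1 hq2 hqN v _ hv0 M hM c hc
    by_contra hcA
    have hb := bound q S hSN hfix hq1 hq2 hqN v hv0 M hM c hc
    have hlt : A < A ⊔ AddSubgroup.zmultiples c := lt_of_le_of_ne le_sup_left fun e => hcA ((memA c).1
      (e ▸ AddSubgroup.mem_sup_right (AddSubgroup.mem_zmultiples c)))
    have h2 : Nat.card A < Nat.card (A ⊔ AddSubgroup.zmultiples c : AddSubgroup V) :=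
      lt_of_le_of_ne (AddSubgroup.card_le_of_le hlt.le) fun e =>
        hlt.ne (AddSubgroup.eq_of_le_of_card_ge hlt.le e.symm.le)
    have h3 := card_perp F.form (A ⊔ AddSubgroup.zmultiples c)
    rw [hPeq] at hperp
    have hpos : 0 < Nat.card A := Nat.card_pos
    nlinarith
  -- a vector moved to an orthogonal one whose transvection is allowed
  obtain ⟨a, ha, hna, hsa⟩ : ∃ a, L a ≠ a ∧ ns a ∧ s a (L a) = 0 := by
    let f : V →+ ZMod 2 := AddMonoidHom.mk' (fun x => s x (L x)) fun x z => F.form.diag_add hLi hinv x z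
    have hAf : A ≤ f.ker := fun x hx => by
      show s x (L x) = 0
      rw [(memA x).1 hx, F.form.alt]
    have hk : Nat.card V ≤ 2 * Nat.card f.ker := by
      rw [AddSubgroup.card_eq_card_quotient_mul_card_addSubgroup f.ker]
      exact Nat.mul_le_mul_right _ ((AddSubgroup.card_le_of_le (le_top : f.range ≤ ⊤)).trans (by simp) |>
        (Nat.card_congr (QuotientAddGroup.quotientKerEquivRange f).toEquiv).le.trans)
    have hA2 : 2 * Nat.card A < Nat.card f.ker := by
      have h1 : Nat.card A * Nat.card A = Nat.card V := by rw [← hperp, hPeq]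
      nlinarith
    obtain ⟨a, haf, haA⟩ : ∃ a ∈ f.ker, a ∉ A := by
      by_contra hno
      push Not at hno
      have := AddSubgroup.card_le_of_le (show f.ker ≤ A from hno)
      omega
    obtain ⟨b, hbf, hbA, hab⟩ : ∃ b ∈ f.ker, b ∉ A ∧ a + b ∉ A := by
      by_contra hno
      push Not at hno
      have hsub : (Finset.univ.filter (· ∈ f.ker)) ⊆
          (Finset.univ.filter (· ∈ A)) ∪ (Finset.univ.filter (· ∈ A)).image (a + ·) := by
        intro x hx
        by_cases hxA : x ∈ A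
        · exact Finset.mem_union_left _ (by simp [hxA])
        · refine Finset.mem_union_right _ (Finset.mem_image.2 ⟨a + x, ?_, ?_⟩)
          · simp [hno x (Finset.mem_filter.1 hx).2 hxA]
          · rw [← add_assoc, F.form.two, zero_add]
      have h6 := (Finset.card_le_card hsub).trans (Finset.card_union_le _ _)
      have h7 := (Finset.card_image_le (s := Finset.univ.filter (· ∈ A)) (f := (a + ·)))
      have e : ∀ (B : AddSubgroup V) (inst : DecidablePred (· ∈ B)),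
          (@Finset.filter V (· ∈ B) inst Finset.univ).card = Nat.card B := fun B inst => by
        rw [Nat.card_eq_fintype_card]
        convert (Fintype.card_subtype (· ∈ B)).symm
      rw [e f.ker _] at h6
      rw [e A _] at h6 h7
      omega
    obtain ⟨w, hw, hsw⟩ : ∃ w ∈ A, s w (a + b) = 1 := by
      by_contra hno
      exact hab (hPA fun w hw => (z2 _).resolve_right fun e => hno ⟨w, hw, by rw [F.form.symm, e]⟩)
    have good : ∀ x, x ∈ f.ker → x ∉ A → ns x → ∃ a, L a ≠ a ∧ ns a ∧ s a (L a) = 0 :=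
      fun x h1 h2 h3 => ⟨x, fun e => h2 ((memA x).2 e), h3, h1⟩
    have shiftA : ∀ x, x ∉ A → x + w ∉ A := fun x h1 h2 => h1 (by
      have := A.add_mem h2 hw
      rwa [F.form.add_add_cancel] at this)
    rcases F.ns_or a b w hsw with h | h | h | h
    · exact good a haf haA h
    · exact good b hbf hbA h
    · exact good _ (f.ker.add_mem haf (hAf hw)) (shiftA a haA) h
    · exact good _ (f.ker.add_mem hbf (hAf hw)) (shiftA b hbA) h
  obtain ⟨c, hc⟩ : ∃ c, c = L a + a := ⟨_, rfl⟩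
  have hLc : L c = c := by rw [hc, hLi.add, hinv, add_comm]
  have hc0 : c ≠ 0 := fun e => ha (F.form.eq_of_add_eq_zero (hc ▸ e))
  -- a lift of the product of the two transvections commuting with `y`
  obtain ⟨h₀, hh₀N, hσc⟩ := F.lift (L a) a (hLn a hna) hna
  obtain ⟨σ, hσ⟩ : ∃ σ, σ = tr s (L a) ∘ tr s a := ⟨_, rfl⟩
  rw [← hσ] at hσc
  have trL : ∀ b x, L (tr s b x) = tr s (L b) (L x) := fun b x => by
    rcases z2 (s x b) with e | e
    · rw [tr_zero e, tr_zero (by rw [hLi.pres, e])]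
    · rw [tr_one e, tr_one (by rw [hLi.pres, e]), hLi.add]
  have trcomm : ∀ x, tr s (L a) (tr s a x) = tr s a (tr s (L a) x) := fun x => by
    have hsa' : s (L a) a = 0 := by rw [F.form.symm]; exact hsa
    rcases z2 (s x a) with e | e <;> rcases z2 (s x (L a)) with e' | e'
    · rw [tr_zero e, tr_zero e', tr_zero e]
    · rw [tr_zero e, tr_one e', tr_zero (by rw [F.form.add_left, e, hsa', add_zero])]
    · rw [tr_one e, tr_zero e', tr_one e, tr_zero (by rw [F.form.add_left, e', hsa, add_zero])]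
    · rw [tr_one e, tr_one e', tr_one (x := x + a) (by rw [F.form.add_left, e', hsa, add_zero]),
        tr_one (x := x + L a) (by rw [F.form.add_left, e, hsa', add_zero])]
      abel
  have hσL : ∀ x, L (σ x) = σ (L x) := fun x => by
    rw [hσ]; simp only [Function.comp_apply, trL, hinv]; rw [trcomm]
  have hσσ : ∀ x, σ (σ x) = x := fun x => by
    rw [hσ]; simp only [Function.comp_apply]; rw [← trcomm (tr s a x), F.form.tr_tr, F.form.tr_tr]
  obtain ⟨t, ht⟩ := F.ker (h₀ * y * h₀⁻¹ * y) (mul_mem (mul_mem (mul_mem hh₀N hyN) (inv_mem hh₀N)) hyN) (by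
    intro v
    obtain ⟨K, hK, -⟩ := F.act h₀⁻¹ (inv_mem hh₀N)
    have hKσ : ∀ x, σ (K x) = x := fun x =>
      congrFun (F.cj_uniq (hσc.mul hK) (show Cj W (h₀ * h₀⁻¹) id by rw [mul_inv_cancel]; exact cj_one W)) x
    rw [(((hσc.mul hL).mul hK).mul hL) v]
    simp only [Function.comp_apply, id]
    rw [← hσL, hKσ, hinv])
  have htfix : L t = t := by
    have e1 : (h₀ * y * h₀⁻¹) = W t * y := by
      rw [← ht, mul_assoc _ y y, y2, mul_one]
    have e2 : W t * y * (W t * y) = 1 := by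
      rw [← e1, show h₀ * y * h₀⁻¹ * (h₀ * y * h₀⁻¹) = h₀ * (y * y) * h₀⁻¹ by group, y2, mul_one, mul_inv_cancel]
    rw [mul_assoc, ← mul_assoc y (W t), F.cj_comm_W hL, mul_assoc _ y y, y2, mul_one, ← F.hom] at e2
    exact (F.form.eq_of_add_eq_zero (F.inj _ e2)).symm
  obtain ⟨u, hu⟩ : ∃ u, t = L u + u := by
    have ht' : t ∈ D.range := by rw [hR, hPeq]; exact (memA t).2 htfix
    obtain ⟨u, rfl⟩ := ht'
    exact ⟨u, rfl⟩
  obtain ⟨h', hh'⟩ : ∃ h', h' = W u * h₀ := ⟨_, rfl⟩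
  have hh'N : h' ∈ N := hh' ▸ mul_mem (F.memN u) hh₀N
  have hh'c : Cj W h' σ := hh' ▸ (F.cj_W u).mul hσc
  have hh'y : h' * y = y * h' := by
    have e1 : h₀ * y = W t * y * h₀ := by
      rw [← ht, mul_assoc _ y y, y2, mul_one, inv_mul_cancel_right]
    rw [hh', mul_assoc, e1, ← mul_assoc, ← mul_assoc, ← F.hom, ← mul_assoc y, F.cj_comm_W hL]
    rw [show u + t = L u by rw [hu, add_comm, F.form.add_add_cancel]]
  have hp : IsPGroup 2 (Subgroup.zpowers h') := by
    obtain ⟨r, hr⟩ := F.ker (h' * h') (mul_mem hh'N hh'N) (fun v => by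
      rw [(hh'c.mul hh'c) v]; exact congrArg W (hσσ v))
    rintro ⟨_, k, rfl⟩
    refine ⟨2, Subtype.ext ?_⟩
    simp only [SubmonoidClass.coe_pow, OneMemClass.coe_one]
    rw [← zpow_natCast (h' ^ k), ← _root_.zpow_mul, mul_comm, _root_.zpow_mul, zpow_natCast,
      show h' ^ (2 ^ 2) = (h' * h') * (h' * h') by simp [pow_succ, mul_assoc], hr, F.sq, _root_.one_zpow]
  obtain ⟨q, S, hHS, hSN, hSy, hfix, hq1, hq2, hqN⟩ := F.exists_out hv₀ hy hyN hL hid hp
    (Subgroup.zpowers_le.2 hh'N) (fun x hx => by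
      obtain ⟨k, rfl⟩ := hx
      exact (Commute.zpow_left hh'y k).eq)
  have hh'S : h' ∈ S := hHS (Subgroup.mem_zpowers h')
  -- the action of `h'` on the fixed vectors through `q`
  obtain ⟨kk, hkk⟩ : ∃ kk, kk = q⁻¹ * h' * q := ⟨_, rfl⟩
  have hkkS : kk ∈ S := hkk ▸ hq2 _ hh'S
  obtain ⟨K, hK, -⟩ := F.act kk (hSN hkkS)
  have hKi := F.cj_isom (hSN hkkS) hK
  have hKA : ∀ v, L v = v → L (K v) = K v := fun v hv => by
    refine (F.commute_iff hL (K v)).1 ?_
    rw [← hK]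
    exact (hSy _ (mul_mem (mul_mem hkkS (hfix v hv)) (inv_mem hkkS))).symm
  have hqW : ∀ v, q * W (K v) * q⁻¹ = h' * (q * W v * q⁻¹) * h'⁻¹ := fun v => by
    rw [← hK, hkk]; group
  have hMv : ∀ v : A, q * W v * q⁻¹ ∈ N := fun v => hSN (hq1 _ (hfix v ((memA _).1 v.2)))
  choose M hM hMs _ using fun v : A => F.act _ (hMv v)
  have hMA : ∀ v : A, ∀ w, L w = w → M v w = w := fun v w hw =>
    mapsFix q S hSN hfix hq2 hqN v ((memA _).1 v.2) _ (hM v) w hw
  have hK2 : ∀ v : A, K (K v) = v := fun v => by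
    obtain ⟨r, hr⟩ := F.ker (h' * h') (mul_mem hh'N hh'N) (fun x => by
      rw [(hh'c.mul hh'c) x]; exact congrArg W (hσσ x))
    have hrA : L r = r := by
      refine (F.commute_iff hL r).1 ?_
      rw [← hr]
      exact (Commute.mul_left hh'y hh'y).eq.symm
    have e1 : q * W (K (K v)) * q⁻¹ = q * W v * q⁻¹ := by
      rw [hqW, hqW, show h' * (h' * (q * W v * q⁻¹) * h'⁻¹) * h'⁻¹ = h' * h' * (q * W v * q⁻¹) * (h' * h')⁻¹ by
        group, hr, ← (F.commute_iff (hM v) r).2 (hMA v r hrA), mul_assoc, F.inv, mul_assoc, F.sq, mul_one]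
    exact F.inj' (mul_left_cancel (mul_right_cancel e1))
  -- two fixed vectors
  let τ : A →+ A := AddMonoidHom.mk' (fun v => ⟨K v + v, A.add_mem ((memA _).2 (hKA v ((memA _).1 v.2))) v.2⟩) fun v w => Subtype.ext (by
    show K (v + w : V) + (v + w) = K v + v + (K w + w)
    rw [hKi.add]; abel)
  have hτ : τ.range ≤ τ.ker := by
    rintro _ ⟨v, rfl⟩
    refine Subtype.ext ?_
    show K (K v + v) + (K v + v) = 0
    rw [hKi.add, hK2, add_comm (v : V), F.form.two]
  have hτcard : 3 ≤ Nat.card τ.ker := by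
    have h1 := AddSubgroup.card_eq_card_quotient_mul_card_addSubgroup τ.ker
    rw [Nat.card_congr (QuotientAddGroup.quotientKerEquivRange τ).toEquiv] at h1
    have h2 := AddSubgroup.card_le_of_le hτ
    by_contra h3
    push Not at h3
    have := Nat.mul_le_mul (h2.trans (Nat.le_of_lt_succ h3)) (Nat.le_of_lt_succ h3)
    omega
  haveI := Fintype.ofFinite τ.ker
  obtain ⟨z₁, z₂, hz₁, hz₂, h12⟩ : ∃ z₁ z₂ : τ.ker, z₁ ≠ 0 ∧ z₂ ≠ 0 ∧ z₁ ≠ z₂ := by
    have h1 : 1 < ((Finset.univ : Finset τ.ker).erase 0).card := by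
      rw [Finset.card_erase_of_mem (Finset.mem_univ _), Finset.card_univ, ← Nat.card_eq_fintype_card]
      omega
    obtain ⟨z₁, h₁, z₂, h₂, hne⟩ := Finset.one_lt_card.1 h1
    exact ⟨z₁, z₂, Finset.ne_of_mem_erase h₁, Finset.ne_of_mem_erase h₂, hne⟩
  -- both move `a` to the same vector
  have main : ∀ v : A, v ≠ 0 → K v = v → M v a + a = c := by
    intro v hv hKv
    have hMi := F.cj_isom (hMv v) (hM v)
    have hcomm : ∀ x, σ (M v x) = M v (σ x) := fun x => by
      refine congrFun (F.cj_uniq (K := M v ∘ σ) (hh'c.mul (hM v)) ?_) x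
      have e : h' * (q * W v * q⁻¹) = q * W v * q⁻¹ * h' := by
        rw [← mul_inv_eq_iff_eq_mul, ← hqW, hKv]
      rw [e]; exact (hM v).mul hh'c
    obtain ⟨x, hx⟩ := F.form.exists_one hc0
    rw [F.form.symm, hc, F.form.add_right] at hx
    obtain ⟨d, hd⟩ : ∃ d, d = M v x + x := ⟨_, rfl⟩
    have hdA : L d = d := (memA d).1 (hPA fun w hw => by
      rw [hd, F.form.add_left]
      nth_rw 1 [← hMA v w ((memA w).1 hw)]
      rw [hMs, CharTwo.add_self_eq_zero])
    have hsd : s d (L a) = s d a := by conv_lhs => rw [← hdA, hLi.pres]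
    have hσd : σ d = d ∨ σ d = d + c := by
      rw [hσ]; simp only [Function.comp_apply]
      rcases z2 (s d a) with e | e
      · left; rw [tr_zero e, tr_zero (hsd.trans e)]
      · right
        rw [tr_one e, tr_one (by rw [F.form.add_left, hsd, e, hsa, add_zero]), hc]; abel
    have hLa : M v (L a) + L a = M v a + a := by
      have h1 : M v c = c := hMA v c hLc
      rw [hc, hMi.add] at h1
      calc M v (L a) + L a = (M v (L a) + M v a) + (M v a + L a) := by
            rw [add_assoc, ← add_assoc (M v a), F.form.two, zero_add]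
        _ = L a + a + (M v a + L a) := by rw [h1]
        _ = (L a + L a) + (M v a + a) := by abel
        _ = M v a + a := by rw [F.form.two, zero_add]
    have hσx : σ x = x + a ∨ σ x = x + L a := by
      rw [hσ]; simp only [Function.comp_apply]
      rcases z2 (s x a) with e | e <;> rcases z2 (s x (L a)) with e' | e' <;> rw [e, e'] at hx
      · exact absurd hx (by decide)
      · right; rw [tr_zero e, tr_one e']
      · left; rw [tr_one e, tr_zero (by rw [F.form.add_left, e', hsa, add_zero])]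
      · exact absurd hx (by decide)
    have hMσ : M v (σ x) + σ x = d + (M v a + a) := by
      rcases hσx with e | e <;> rw [e, hMi.add, hd]
      · abel
      · rw [← hLa]; abel
    have hσd' : σ d = d + (M v a + a) := by
      rw [← hMσ, ← hcomm, hd, (F.cj_isom hh'N hh'c).add]
    have hne : M v a + a ≠ 0 := fun e => ha (exact' q S hSN hfix hq1 hq2 hqN v ((memA _).1 v.2)
      (fun e0 => hv (Subtype.ext e0)) _ (hM v) a (F.form.eq_of_add_eq_zero e))
    rcases hσd with e | e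
    · exact absurd (left_eq_add.1 (e.symm.trans hσd')) hne
    · exact add_left_cancel (hσd'.symm.trans e)
  have hK1 : ∀ z : τ.ker, K z.1 = z.1 := fun z => F.form.eq_of_add_eq_zero (congrArg Subtype.val z.2)
  have hm1 := main z₁.1 (fun e => hz₁ (Subtype.ext e)) (hK1 z₁)
  have hm2 := main z₂.1 (fun e => hz₂ (Subtype.ext e)) (hK1 z₂)
  obtain ⟨v, hv⟩ : ∃ v : A, v = z₁.1 + z₂.1 := ⟨_, rfl⟩
  have hv0 : v ≠ 0 := fun e => h12 (Subtype.ext (Subtype.ext (F.form.eq_of_add_eq_zero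
    (congrArg Subtype.val (hv ▸ e)))))
  have hcomp : M v = M z₁.1 ∘ M z₂.1 := by
    refine F.cj_uniq (hM v) ?_
    rw [show (v : V) = (z₁.1 : V) + (z₂.1 : V) from congrArg Subtype.val hv, F.hom,
      show q * (W z₁.1 * W z₂.1) * q⁻¹ = q * W z₁.1 * q⁻¹ * (q * W z₂.1 * q⁻¹) by group]
    exact (hM _).mul (hM _)
  refine ha (exact' q S hSN hfix hq1 hq2 hqN v ((memA _).1 v.2) (fun e0 => hv0 (Subtype.ext e0)) _ (hM v) a ?_)
  have e2 : M z₂.1 a = a + c := by rw [← hm2, add_comm (M _ a), ← add_assoc, F.form.two, zero_add]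
  have e1 : M z₁.1 a = a + c := by rw [← hm1, add_comm (M _ a), ← add_assoc, F.form.two, zero_add]
  rw [hcomp, Function.comp_apply, e2, (F.cj_isom (hMv _) (hM z₁.1)).add, e1, hMA _ c hLc, F.form.add_add_cancel]

/-- **Weak closure**: a conjugate of a vector lying in the subgroup is a vector. -/
theorem weak {g : G} {v₀ : V} (hyN : g * W v₀ * g⁻¹ ∈ N) : ∃ v, g * W v₀ * g⁻¹ = W v := by
  classical
  haveI := F.finite
  by_cases hgN : g ∈ N
  · obtain ⟨L, hL, -⟩ := F.act g hgN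
    exact ⟨_, hL v₀⟩
  by_cases h0 : v₀ = 0
  · exact ⟨0, by rw [h0, F.zero, mul_one, mul_inv_cancel]⟩
  exfalso
  obtain ⟨L, hL, hLs, -⟩ := F.act _ hyN
  have hLi := F.cj_isom hyN hL
  have hinv := F.cj_invol (by
    rw [show g * W v₀ * g⁻¹ * (g * W v₀ * g⁻¹) = g * (W v₀ * W v₀) * g⁻¹ by group, F.sq, mul_one, mul_inv_cancel]) hL
  let D : V →+ V := AddMonoidHom.mk' (fun x => L x + x) fun a b => by rw [hLi.add]; abel
  have hker : D.ker = F.fixGrp hLi := by
    ext x
    exact ⟨fun e => F.form.eq_of_add_eq_zero e, fun e => by show L x + x = 0; rw [e, F.form.two]⟩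
  have hRA : D.range ≤ F.fixGrp hLi := by
    rintro _ ⟨x, rfl⟩
    show L (L x + x) = L x + x
    rw [hLi.add, hinv, add_comm]
  have h1 := AddSubgroup.card_eq_card_quotient_mul_card_addSubgroup D.ker
  rw [Nat.card_congr (QuotientAddGroup.quotientKerEquivRange D).toEquiv, hker] at h1
  have h2 := AddSubgroup.card_le_of_le hRA
  have h8 : 8 ≤ Nat.card (F.fixGrp hLi) := by
    by_contra h7
    push Not at h7
    have := F.big
    nlinarith
  obtain ⟨w, hw, hwF⟩ := F.full _ h8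
  have e1 := (F.commute_iff hL w).2 hw
  have hmem : g⁻¹ * W w * g ∈ N := by
    refine F.cent v₀ h0 _ ?_
    calc g⁻¹ * W w * g * W v₀ * (g⁻¹ * W w * g)⁻¹
        = g⁻¹ * (W w * (g * W v₀ * g⁻¹)) * (W w)⁻¹ * g := by group
      _ = g⁻¹ * (g * W v₀ * g⁻¹ * W w) * (W w)⁻¹ * g := by rw [e1]
      _ = W v₀ := by group
  obtain ⟨w', hw'⟩ := F.weak_full (g := g⁻¹) hwF (by rwa [inv_inv])
  exact hgN (by simpa using inv_mem (F.cross hwF.1 hw'))

/-- An element moving a vector into the subgroup lies in it. -/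
theorem ctrl {g : G} {v : V} (hv : v ≠ 0) (hg : g * W v * g⁻¹ ∈ N) : g ∈ N := by
  obtain ⟨v', e⟩ := F.weak hg
  exact F.cross hv e

end Fr

end CfsgLib.QubitMax
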